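import Cfsg.Agent.Lib.Recog.CoOneInv.Endgame

/-!
Recognition of `Co1` from the centraliser of an involution, given the model of the local subgroups.
-/

set_option autoImplicit false

namespace CfsgLib.Recog.CoOneInv

open Cfsg CfsgLib.Golay.E8Cent CfsgLib.PLocal.LargeExtra

universe u

/-- What the amalgam argument gives. -/
def HasModel (G : Type u) [Group G] (z : G) : Prop :=
  ∃ (G0 : Subgroup G) (hC : Subgroup.centralizer ({z} : Set G) ≤ G0) (ψ : ↥G0 ≃* Spor.Co1),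
    IsConj (ψ ⟨z, hC (Subgroup.mem_centralizer_singleton_iff.2 rfl)⟩) z1

/-- A group of Conway type with a model is `Co1`. -/
theorem isoCo1_of_model {G : Type u} [Group G] [Finite G] (z : G) (hz : orderOf z = 2)
    (Q : Subgroup (Subgroup.centralizer ({z} : Set G))) [Q.Normal]
    (hF : Cfsg.generalizedFittingSubgroup (Subgroup.centralizer ({z} : Set G)) = Q)
    (hQ : Cfsg.IsExtraspecial 2 Q) (hcard : Nat.card Q = 2 ^ 9)
    (e : (Subgroup.centralizer ({z} : Set G)) ⧸ Q ≃*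
      Cfsg.Omega (ZMod 2) (Cfsg.quadFormPlus 4 (ZMod 2)))
    (hnwc : ∃ g : G, (∃ hq : g * z * g⁻¹ ∈ Subgroup.centralizer ({z} : Set G),
      (⟨g * z * g⁻¹, hq⟩ : Subgroup.centralizer ({z} : Set G)) ∈ Q) ∧ g * z * g⁻¹ ≠ z)
    (hmodel : ∀ {QG : Subgroup G}, Pack QG z → QG ≤ Subgroup.centralizer ({z} : Set G) →
      (QG.subgroupOf (Subgroup.centralizer ({z} : Set G))).Normal → Nat.card QG = 2 ^ 9 →
      (QG.subgroupOf (Subgroup.centralizer ({z} : Set G))).index = 174182400 →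
      (∃ g, g * z * g⁻¹ ∈ QG ∧ g * z * g⁻¹ ≠ z) → HasModel G z) :
    Cfsg.Spor.IsoCo1 G := by
  let C := Subgroup.centralizer ({z} : Set G)
  let QG : Subgroup G := Q.map C.subtype
  have hQC : QG ≤ C := Subgroup.map_subtype_le _
  have hsub : QG.subgroupOf C = Q := Subgroup.comap_map_eq_self_of_injective C.subtype_injective _
  let eq : ↥Q ≃* ↥QG := Q.equivMapOfInjective _ C.subtype_injective
  have hpack : Pack QG z := pack_of_fstar hz hQC (by rw [hF])
    (CfsgLib.Trans3.LargeLinear.isExtraspecial_of_equiv eq hQ)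
  haveI hn : (QG.subgroupOf C).Normal := by rw [hsub]; infer_instance
  have hc : Nat.card QG = 2 ^ 9 := by rw [← hcard]; exact (Nat.card_congr eq.toEquiv).symm
  have hidx : (QG.subgroupOf C).index = 174182400 := by
    rw [hsub, Subgroup.index_eq_card, Nat.card_congr e.toEquiv,
      CfsgLib.ClassK.Conway.card_omega8plus]
  obtain ⟨g, ⟨hq, hmem⟩, hne⟩ := hnwc
  have hfus : ∃ g, g * z * g⁻¹ ∈ QG ∧ g * z * g⁻¹ ≠ z := ⟨g, ⟨_, hmem, rfl⟩, hne⟩
  obtain ⟨G0, hC, ψ, hψ⟩ := hmodel hpack hQC hn hc hidx hfus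
  obtain rfl := eq_top hz hpack hQC hc hidx hfus G0 hC ψ hψ
  exact ⟨Subgroup.topEquiv.symm.trans ψ⟩

end CfsgLib.Recog.CoOneInv
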