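import Mathlib.GroupTheory.Transfer
import Mathlib.GroupTheory.Index
import Mathlib.Data.ZMod.Basic

/-!
A central extension of order two with a section over a subgroup of odd index that has no
homomorphism onto a group of order two splits compatibly with the section.
-/

set_option autoImplicit false

namespace CfsgLib.Recog.CoOneInv

open Subgroup

/-- **The splitting by transfer.** -/
theorem exists_lift {U C : Type*} [Group U] [Group C] [Finite U] (p : U →* C)
    (hp : Function.Surjective p) (hk2 : Nat.card p.ker ≤ 2) (hker : p.ker ≤ Subgroup.center U)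
    (H : Subgroup C) (hodd : Odd H.index) (s : ↥H →* U) (hs : ∀ h : ↥H, p (s h) = h)
    (hperf : ∀ f : ↥H →* Multiplicative (ZMod 2), f = 1) :
    ∃ g : C →* U, (∀ c, p (g c) = c) ∧ ∀ h : ↥H, g h = s h := by
  classical
  let W := p.ker
  have hWcomm : ∀ a b : ↥W, a * b = b * a := fun a b =>
    Subtype.ext (Subgroup.mem_center_iff.1 (hker b.2) a)
  letI : CommGroup ↥W := { (inferInstance : Group ↥W) with mul_comm := hWcomm }
  have hk2 : Nat.card ↥W ≤ 2 := hk2
  have hsq : ∀ a : ↥W, a ^ 2 = 1 := by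
    intro a
    rcases (Nat.le_one_iff_eq_zero_or_eq_one.1 (show Nat.card ↥W - 1 ≤ 1 by omega)) with h | h
    · have : Subsingleton ↥W := (Nat.card_eq_one_iff_unique.1
        (le_antisymm (by omega) Nat.card_pos)).1
      exact Subsingleton.elim _ _
    · rw [show 2 = Nat.card ↥W by have : 0 < Nat.card ↥W := Nat.card_pos; omega]
      exact pow_card_eq_one'
  let L : Subgroup U := H.comap p
  -- the retraction on the preimage
  have hr : ∀ u : ↥L, (s ⟨p u, u.2⟩)⁻¹ * (u : U) ∈ W := fun u => by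
    rw [MonoidHom.mem_ker, map_mul, map_inv, hs, inv_mul_cancel]
  let r : ↥L →* ↥W := MonoidHom.mk' (fun u => ⟨(s ⟨p u, u.2⟩)⁻¹ * (u : U), hr u⟩) fun a b =>
    Subtype.ext (by
      show (s ⟨p ((a : U) * b), _⟩)⁻¹ * ((a : U) * b) =
        ((s ⟨p a, a.2⟩)⁻¹ * a) * ((s ⟨p b, b.2⟩)⁻¹ * b)
      have e : (⟨p ((a : U) * b), (a * b).2⟩ : ↥H) = ⟨p a, a.2⟩ * ⟨p b, b.2⟩ :=
        Subtype.ext (map_mul p (a : U) b)
      rw [e, map_mul, mul_inv_rev]
      have hc := Subgroup.mem_center_iff.1 (hker (hr a)) (s ⟨p b, b.2⟩)⁻¹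
      calc (s ⟨p b, b.2⟩)⁻¹ * (s ⟨p a, a.2⟩)⁻¹ * ((a : U) * b)
          = (s ⟨p b, b.2⟩)⁻¹ * ((s ⟨p a, a.2⟩)⁻¹ * a) * b := by group
        _ = _ := by rw [hc, mul_assoc])
  have hidx : L.index = H.index := H.index_comap_of_surjective hp
  have : L.FiniteIndex := inferInstance
  let V : U →* ↥W := MonoidHom.transfer r
  have hVW : ∀ w : ↥W, V (w : U) = w := by
    intro w
    have key : ∀ (k : ℕ) (g₀ : U), g₀⁻¹ * (w : U) ^ k * g₀ ∈ L →
        g₀⁻¹ * (w : U) ^ k * g₀ = (w : U) ^ k := fun k g₀ _ => by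
      rw [mul_assoc, ← Subgroup.mem_center_iff.1 (hker (pow_mem w.2 k)) g₀, inv_mul_cancel_left]
    show MonoidHom.transfer r (w : U) = w
    rw [MonoidHom.transfer_eq_pow r (w : U) key]
    have hw : (w : U) ∈ L := by
      show p (w : U) ∈ H
      rw [MonoidHom.mem_ker.1 w.2]; exact one_mem H
    have e : r ⟨(w : U), hw⟩ = w := Subtype.ext (by
      show (s ⟨p (w : U), _⟩)⁻¹ * (w : U) = w
      rw [show (⟨p (w : U), hw⟩ : ↥H) = 1 from Subtype.ext (MonoidHom.mem_ker.1 w.2), map_one,
        inv_one, one_mul])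
    rw [show (⟨(w : U) ^ L.index, MonoidHom.transfer_eq_pow_aux (w : U) key⟩ : ↥L) =
      ⟨(w : U), hw⟩ ^ L.index from Subtype.ext (by simp), map_pow, e]
    obtain ⟨k, hk⟩ := hidx ▸ hodd
    rw [hk, pow_succ, pow_mul, hsq, one_pow, one_mul]
  have hbij : Function.Bijective (p.comp V.ker.subtype) := by
    refine ⟨fun a b hab => ?_, fun c => ?_⟩
    · have hw : ((a : U))⁻¹ * b ∈ W := by
        rw [MonoidHom.mem_ker, map_mul, map_inv, inv_mul_eq_one]
        exact hab
      have h1 := hVW ⟨_, hw⟩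
      rw [map_mul, map_inv, MonoidHom.mem_ker.1 a.2, MonoidHom.mem_ker.1 b.2, inv_one, one_mul] at h1
      exact Subtype.ext (inv_mul_eq_one.1 (congrArg Subtype.val h1).symm)
    · obtain ⟨u, rfl⟩ := hp c
      refine ⟨⟨u * ((V u : ↥W) : U)⁻¹, ?_⟩, ?_⟩
      · rw [MonoidHom.mem_ker, map_mul, map_inv, hVW, mul_inv_cancel]
      · show p (u * ((V u : ↥W) : U)⁻¹) = p u
        rw [map_mul, map_inv, MonoidHom.mem_ker.1 (V u).2, inv_one, mul_one]
  let E := MulEquiv.ofBijective (p.comp V.ker.subtype) hbij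
  refine ⟨V.ker.subtype.comp E.symm.toMonoidHom, fun c => E.apply_symm_apply c, fun h => ?_⟩
  -- the transfer kills the section
  have hVs : V (s h) = 1 := by
    by_contra hne
    let ι : ↥W →* Multiplicative (ZMod 2) := MonoidHom.mk'
      (fun a => if a = 1 then 1 else Multiplicative.ofAdd 1) fun a b => by
      by_cases ha : a = 1
      · simp [ha]
      by_cases hb : b = 1
      · simp [hb]
      have hab : a = b := by
        by_contra hab
        have h3 : ({1, a, b} : Finset ↥W).card ≤ Nat.card ↥W := by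
          have := Fintype.ofFinite ↥W
          rw [Nat.card_eq_fintype_card]
          exact Finset.card_le_univ _
        rw [Finset.card_insert_of_notMem (by simp [Ne.symm ha, Ne.symm hb]),
          Finset.card_pair hab] at h3
        have : Nat.card ↥W ≤ 2 := hk2
        omega
      subst hab
      have h1 : a * a = 1 := by rw [← pow_two]; exact hsq a
      simp only [h1, ha, if_true, if_false]
      rfl
    have := DFunLike.congr_fun (hperf (ι.comp (V.comp s))) h
    simp only [MonoidHom.comp_apply, MonoidHom.one_apply, ι, MonoidHom.mk'_apply, if_neg hne] at this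
    exact absurd this (by decide)
  have e : E ⟨s h, hVs⟩ = (h : C) := hs h
  show ((E.symm (h : C) : ↥V.ker) : U) = s h
  rw [← e, E.symm_apply_apply]

end CfsgLib.Recog.CoOneInv
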