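import Cfsg.Agent.Lib.Recog.CoOneInv.CentExt
import Cfsg.Agent.Lib.ClassK.ConwayMain

/-!
An isomorphism of the extraspecial groups of two groups of Conway type extends to the centralisers
of the involutions, compatibly with a given map on a subgroup of odd index.
-/

set_option autoImplicit false
set_option maxRecDepth 4000

namespace CfsgLib.Recog.CoOneInv

open Subgroup Matrix CfsgLib.Trans3.ExtraTwo CfsgLib.Classical
open CfsgLib.PLocal.LargeExtra CfsgLib.ClassK.Conway

local notation "Q₈" => Cfsg.quadFormPlus 4 (ZMod 2)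
local notation "O₈" => Cfsg.isometryGroup (ZMod 2) (Cfsg.quadFormPlus 4 (ZMod 2))

/-- The isometry group is generated by the reflections. -/
theorem top_of_refl (K : Subgroup ↥O₈)
    (h : ∀ b, qd b = 1 → ∀ s : ↥O₈, ActsAs s (refl b) → s ∈ K) : K = ⊤ := by
  refine eq_top_iff.2 fun g _ => ?_
  have hgen := Geom.quadIsoms_eq_closure (qfPlus 4 (ZMod 2)) (qfPlus_sep 4)
    (Or.inr (by simp [Module.finrank_fintype_fun_eq_card]))
  let M : Subgroup ((Fin 4 ⊕ Fin 4 → ZMod 2) ≃ₗ[ZMod 2] (Fin 4 ⊕ Fin 4 → ZMod 2)) :=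
    ((K.map (Cfsg.isometryGroup (ZMod 2) Q₈).subtype).comap Geom.glOfEquiv)
  have hK : Geom.quadIsoms (qfPlus 4 (ZMod 2)) ≤ M := by
    rw [hgen, Subgroup.closure_le]
    rintro _ ⟨v, hv, rfl⟩
    obtain ⟨b, rfl⟩ := (coordPlus 4).surjective v
    have hb : qd b = 1 := by
      rw [qf_coord] at hv
      exact (z2_cases _).resolve_left hv
    obtain ⟨s, hs⟩ := exists_refl_elem hb
    show Geom.glOfEquiv _ ∈ K.map (Cfsg.isometryGroup (ZMod 2) Q₈).subtype
    refine Subgroup.mem_map.2 ⟨s, h b hb s hs, ?_⟩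
    show (s : GL (Fin 4 ⊕ Fin 4) (ZMod 2)) = _
    refine Units.ext (Matrix.ext_iff_mulVec.2 fun z => ?_)
    rw [← (coordPlus 4).apply_symm_apply z, hs, Geom.glOfEquiv_mulVec, Geom.reflEquiv_apply,
      qf_coord, hb, inv_one, one_mul]
    generalize (coordPlus 4).symm z = w
    have hp : QuadraticMap.polar (qfPlus 4 (ZMod 2)) ((coordPlus 4) b) ((coordPlus 4) w) = alt w b := by
      rw [QuadraticMap.polar, ← map_add, qf_coord, qf_coord, qf_coord, qd_add, alt_comm]
      generalize qd b = x; generalize qd w = y; generalize alt w b = p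
      revert x y p; decide
    rw [hp]
    rcases z2_cases (alt w b) with h | h <;> rw [h]
    · rw [zero_smul, sub_zero, refl_of_alt h]
    · rw [one_smul, refl_of_alt' h, map_add, sub_eq_add_neg]
      congr 1
      funext i
      exact (by decide : ∀ x : ZMod 2, x = -x) _
  have hg' : (g : GL (Fin 4 ⊕ Fin 4) (ZMod 2)) ∈
      Cfsg.isometryGroup (ZMod 2) (⇑(qfPlus 4 (ZMod 2))) := by
    rw [qfPlus_coe]; exact g.2
  obtain ⟨u, hu⟩ := (Geom.orEquiv (qfPlus 4 (ZMod 2))).surjective ⟨_, hg'⟩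
  obtain ⟨s, hsR, hse⟩ := hK u.2
  have hu' : Geom.glOfEquiv u.1 = (g : GL (Fin 4 ⊕ Fin 4) (ZMod 2)) :=
    (Geom.orEquiv_coe _ u).symm.trans (congrArg Subtype.val hu)
  rwa [← Subtype.ext (hse.trans hu') ]

/-- There is one subgroup of index two avoiding the reflections. -/
theorem index_two_unique {R R' : Subgroup ↥O₈} (h : R.index = 2) (h' : R'.index = 2) : R = R' := by
  let K : Subgroup ↥O₈ :=
    { carrier := {g | g ∈ R ↔ g ∈ R'}
      one_mem' := ⟨fun _ => one_mem _, fun _ => one_mem _⟩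
      mul_mem' := fun {a b} ha hb => by
        show a * b ∈ R ↔ a * b ∈ R'
        rw [mul_mem_iff_of_index_two h, mul_mem_iff_of_index_two h']
        exact iff_congr ha hb
      inv_mem' := fun {a} ha => by
        show a⁻¹ ∈ R ↔ a⁻¹ ∈ R'
        rw [inv_mem_iff, inv_mem_iff]; exact ha }
  have hK : K = ⊤ := top_of_refl K fun b hb s hs =>
    ⟨fun hm => absurd hm (index_two_refl h hb hs), fun hm => absurd hm (index_two_refl h' hb hs)⟩
  ext g
  exact (show g ∈ K by rw [hK]; exact mem_top g)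

section

variable {G : Type*} [Group G] [Finite G] {z : G} {Q : Subgroup G}

/-- The image of the centraliser in the orthogonal group. -/
noncomputable def actO (hpack : Pack Q z) (e : ↥Q ≃* ES 4 (ff 4)) :
    ↥(centralizer ({z} : Set G)) →* ↥O₈ :=
  (CfsgLib.Trans3.ExtraTwo.psi (fun _ : Fin 4 => false) (coordPlus 4) _ (quad_plus 4)).comp
    (modelHom hpack e)

theorem actO_index (hpack : Pack Q z) (hQC : Q ≤ centralizer ({z} : Set G))
    [(Q.subgroupOf (centralizer ({z} : Set G))).Normal]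
    (hidx : (Q.subgroupOf (centralizer ({z} : Set G))).index = 174182400)
    (e : ↥Q ≃* ES 4 (ff 4)) : (actO hpack e).range.index = 2 := by
  have h := card_model_range hpack hQC e (coordPlus 4) _ (quad_plus 4)
  rw [hidx] at h
  have h2 := Subgroup.card_mul_index (actO hpack e).range
  unfold actO at h2 ⊢
  rw [h, card_O8plus] at h2
  omega

theorem inner_mem (hpack : Pack Q z) (hQC : Q ≤ centralizer ({z} : Set G)) (e : ↥Q ≃* ES 4 (ff 4))
    (x : ES 4 (ff 4)) : MulAut.conj x ∈ (modelHom hpack e).range := by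
  refine ⟨⟨(e.symm x : ↥Q), hQC (e.symm x).2⟩, MulEquiv.ext fun y => ?_⟩
  rw [modelHom_apply, MulAut.conj_apply]
  apply e.symm.injective
  rw [map_mul, map_mul, map_inv, e.symm_apply_apply]
  exact Subtype.ext rfl

theorem range_le {G' : Type*} [Group G'] [Finite G'] {z' : G'} {Q' : Subgroup G'}
    (hpack : Pack Q z) (hQC : Q ≤ centralizer ({z} : Set G))
    [(Q.subgroupOf (centralizer ({z} : Set G))).Normal]
    (hidx : (Q.subgroupOf (centralizer ({z} : Set G))).index = 174182400)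
    (hpack' : Pack Q' z') (hQC' : Q' ≤ centralizer ({z'} : Set G'))
    [(Q'.subgroupOf (centralizer ({z'} : Set G'))).Normal]
    (hidx' : (Q'.subgroupOf (centralizer ({z'} : Set G'))).index = 174182400)
    (e : ↥Q ≃* ES 4 (ff 4)) (e' : ↥Q' ≃* ES 4 (ff 4)) :
    (modelHom hpack e).range ≤ (modelHom hpack' e').range := by
  rintro _ ⟨c, rfl⟩
  have h : actO hpack e c ∈ (actO hpack' e').range := by
    rw [← index_two_unique (actO_index hpack hQC hidx e) (actO_index hpack' hQC' hidx' e')]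
    exact ⟨c, rfl⟩
  obtain ⟨d, hd⟩ := h
  have hk : (modelHom hpack' e' d)⁻¹ * modelHom hpack e c ∈
      (CfsgLib.Trans3.ExtraTwo.psi (fun _ : Fin 4 => false) (coordPlus 4) _ (quad_plus 4)).ker := by
    rw [MonoidHom.mem_ker, map_mul, map_inv, inv_mul_eq_one]
    exact hd
  rw [psi_ker] at hk
  obtain ⟨x, hx⟩ := hk
  obtain ⟨q, hq⟩ := inner_mem hpack' hQC' e' x
  refine ⟨d * q, ?_⟩
  rw [map_mul, hq]
  calc modelHom hpack' e' d * MulAut.conj x
      = modelHom hpack' e' d * ((modelHom hpack' e' d)⁻¹ * modelHom hpack e c) := congrArg _ hx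
    _ = modelHom hpack e c := mul_inv_cancel_left _ _

/-- The automorphism of the extraspecial group determines the element up to the centre. -/
theorem model_trivial {G₀ : Type*} [Group G₀] [Finite G₀] {z₀ : G₀} {Q₀ : Subgroup G₀} (P : Pack Q₀ z₀)
    (e₀ : ↥Q₀ ≃* ES 4 (ff 4)) {c : ↥(centralizer ({z₀} : Set G₀))} (hc : modelHom P e₀ c = 1) :
    (c : G₀) = 1 ∨ (c : G₀) = z₀ := by
  have hcomm : ∀ a ∈ Q₀, a * (c : G₀) = c * a := by
    intro a ha
    have h := congrArg (fun y => ((e₀.symm y : ↥Q₀) : G₀)) (MulEquiv.congr_fun hc (e₀ ⟨a, ha⟩))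
    simp only [modelHom_apply, MulAut.one_apply, MulEquiv.symm_apply_apply, conjHom_apply] at h
    exact (mul_inv_eq_iff_eq_mul.1 h).symm
  exact P.eq_of_central (P.cent (mem_centralizer_iff.2 hcomm)) fun b hb => (hcomm b hb).symm

end

/-- **The centralisers are isomorphic compatibly.** -/
theorem exists_centIso {G G' : Type*} [Group G] [Finite G] [Group G'] [Finite G'] {z : G} {z' : G'}
    {Q : Subgroup G} {Q' : Subgroup G'}
    (hpack : Pack Q z) (hQC : Q ≤ centralizer ({z} : Set G))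
    [(Q.subgroupOf (centralizer ({z} : Set G))).Normal]
    (hidx : (Q.subgroupOf (centralizer ({z} : Set G))).index = 174182400)
    (hpack' : Pack Q' z') (hQC' : Q' ≤ centralizer ({z'} : Set G'))
    [(Q'.subgroupOf (centralizer ({z'} : Set G'))).Normal]
    (hidx' : (Q'.subgroupOf (centralizer ({z'} : Set G'))).index = 174182400)
    (e : ↥Q ≃* ES 4 (ff 4))
    (H : Subgroup ↥(centralizer ({z} : Set G))) (hodd : Odd H.index)
    (hperf : ∀ f : ↥H →* Multiplicative (ZMod 2), f = 1)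
    (φH : ↥H →* ↥(centralizer ({z'} : Set G'))) (f : ↥Q ≃* ↥Q')
    (hcompat : ∀ (h : ↥H) (x y : ↥Q), (y : G) = (h : ↥(centralizer ({z} : Set G))) * x *
      ((h : ↥(centralizer ({z} : Set G))) : G)⁻¹ →
      (f y : G') = (φH h : G') * f x * ((φH h : G'))⁻¹)
    (hzH : (⟨z, mem_centralizer_singleton_iff.2 rfl⟩ : ↥(centralizer ({z} : Set G))) ∈ H)
    (hz : (φH ⟨_, hzH⟩ : G') = z') :
    ∃ φ : ↥(centralizer ({z} : Set G)) →* ↥(centralizer ({z'} : Set G')),
      Function.Bijective φ ∧ ∀ h : ↥H, φ h = φH h := by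
  classical
  let C := centralizer ({z} : Set G)
  let C' := centralizer ({z'} : Set G')
  let e' : ↥Q' ≃* ES 4 (ff 4) := f.symm.trans e
  let U : Subgroup (↥C × ↥C') :=
    ((modelHom hpack e).comp (MonoidHom.fst _ _)).eqLocus ((modelHom hpack' e').comp (MonoidHom.snd _ _))
  have hU : ∀ u : ↥C × ↥C', u ∈ U ↔ modelHom hpack e u.1 = modelHom hpack' e' u.2 := fun u => Iff.rfl
  let p : ↥U →* ↥C := (MonoidHom.fst _ _).comp U.subtype
  have hp : Function.Surjective p := fun c => by
    obtain ⟨d, hd⟩ := range_le hpack hQC hidx hpack' hQC' hidx' e e' ⟨c, rfl⟩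
    exact ⟨⟨(c, d), (hU _).2 hd.symm⟩, rfl⟩
  have hkerel : ∀ u : ↥U, p u = 1 → u.1.1 = 1 ∧ ((u.1.2 : G') = 1 ∨ (u.1.2 : G') = z') := by
    intro u hu
    refine ⟨hu, model_trivial hpack' e' (c := u.1.2) ?_⟩
    rw [← (hU _).1 u.2, show u.1.1 = 1 from hu, map_one]
  have hk2 : Nat.card p.ker ≤ 2 := by
    let F : ↥p.ker → Bool := fun u => decide (((u : ↥U).1.2 : G') = 1)
    have hF : Function.Injective F := by
      intro a b hab
      obtain ⟨a1, a2⟩ := hkerel a a.2
      obtain ⟨b1, b2⟩ := hkerel b b.2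
      simp only [F, decide_eq_decide] at hab
      refine Subtype.ext (Subtype.ext (Prod.ext (a1.trans b1.symm) (Subtype.ext ?_)))
      rcases a2 with a2 | a2
      · rw [a2, hab.1 a2]
      · rcases b2 with b2 | b2
        · exact absurd ((hab.2 b2).symm.trans a2).symm hpack'.z_ne
        · rw [a2, b2]
    simpa using Nat.card_le_card_of_injective F hF
  have hker : p.ker ≤ Subgroup.center ↥U := fun u hu => Subgroup.mem_center_iff.2 fun v => by
    obtain ⟨u1, u2⟩ := hkerel u hu
    refine Subtype.ext (Prod.ext ?_ (Subtype.ext ?_))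
    · show v.1.1 * u.1.1 = u.1.1 * v.1.1
      rw [u1, mul_one, one_mul]
    · show (v.1.2 : G') * u.1.2 = u.1.2 * v.1.2
      rcases u2 with u2 | u2 <;> rw [u2]
      · rw [mul_one, one_mul]
      · exact mem_centralizer_singleton_iff.1 v.1.2.2
  have hs : ∀ h : ↥H, ((h : ↥C), φH h) ∈ U := fun h => (hU _).2 (MulEquiv.ext fun y => by
    rw [modelHom_apply, modelHom_apply]
    show e _ = e (f.symm _)
    congr 1
    rw [MulEquiv.eq_symm_apply]
    refine Subtype.ext ((hcompat h _ _ (conjHom_apply hpack _ _)).trans ?_)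
    rw [conjHom_apply]
    rfl)
  let s : ↥H →* ↥U := MonoidHom.mk' (fun h => ⟨((h : ↥C), φH h), hs h⟩)
    fun a b => Subtype.ext (Prod.ext rfl (map_mul φH a b))
  obtain ⟨g, hg, hgs⟩ := exists_lift p hp hk2 hker H hodd s (fun _ => rfl) hperf
  let φ : ↥C →* ↥C' := (MonoidHom.snd _ _).comp (U.subtype.comp g)
  have hφs : ∀ h : ↥H, φ h = φH h := fun h => by
    show ((g h : ↥U) : ↥C × ↥C').2 = φH h
    rw [hgs]; rfl
  have hinj : Function.Injective φ := by
    rw [injective_iff_map_eq_one]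
    intro c hc
    have h1 : modelHom hpack e c = 1 := by
      have h := (hU _).1 (g c).2
      rw [show ((g c : ↥U) : ↥C × ↥C').1 = c from hg c,
        show ((g c : ↥U) : ↥C × ↥C').2 = 1 from hc, map_one] at h
      exact h
    rcases model_trivial hpack e h1 with h | h
    · exact Subtype.ext h
    · exfalso
      have hcz : c = ((⟨_, hzH⟩ : ↥H) : ↥C) := Subtype.ext h
      rw [hcz, hφs] at hc
      rw [hc] at hz
      exact hpack'.z_ne hz.symm
  refine ⟨φ, (Nat.bijective_iff_injective_and_card _).2 ⟨hinj, ?_⟩, hφs⟩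
  rw [← Subgroup.card_mul_index (Q.subgroupOf C), ← Subgroup.card_mul_index (Q'.subgroupOf C'),
    Nat.card_congr (Subgroup.subgroupOfEquivOfLe hQC).toEquiv,
    Nat.card_congr (Subgroup.subgroupOfEquivOfLe hQC').toEquiv, hidx, hidx', Nat.card_congr f.toEquiv]

end CfsgLib.Recog.CoOneInv
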