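import Cfsg.Agent.Lib.Recog.CoOneInv.Trace

/-!
The centraliser in `Co1` of a dodecad sign change consists of images of monomial elements.
-/

set_option autoImplicit false
set_option maxRecDepth 100000

namespace CfsgLib.Recog.CoOneInv

open Cfsg CfsgLib.Golay CfsgLib.Golay.E8Cent
open scoped Pointwise

local notation "Code" => supports (golayCode : Set (GolayPt → ZMod 2))

/-- The standard dodecad. -/
def dM : ℕ := 340831

theorem dM_code : isCode dM = true := by decide +kernel

theorem dM_compl_code : isCode (dM ^^^ 16777215) = true := by decide +kernel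

theorem sub_check : (allB 12 fun k =>
    (!(Nat.beq (Nat.land (enc k) dM) (enc k)) || Nat.beq (enc k) 0 || Nat.beq (enc k) dM) &&
    (!(Nat.beq (Nat.land (enc k) (Nat.xor dM 16777215)) (enc k)) || Nat.beq (enc k) 0 ||
      Nat.beq (enc k) (Nat.xor dM 16777215))) 0 = true := by decide +kernel

theorem sub_side {S : ℕ} (hS : S = dM ∨ S = dM ^^^ 16777215) {c : Finset GolayPt} (hc : c ∈ Code)
    (hsub : c ⊆ mset S) : c = ∅ ∨ c = mset S := by
  obtain ⟨m, hm, rfl⟩ := mem_supports_iff.1 hc
  have hmlt := isCode_lt hm
  have hSlt : S < 16777216 := by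
    rcases hS with rfl | rfl
    · decide
    · decide
  have e : Nat.land m S = m := mset_inj (lt_of_le_of_lt Nat.and_le_left hmlt) hmlt (by
    rw [show Nat.land m S = m &&& S from rfl, mset_and]
    exact Finset.inter_eq_left.2 hsub)
  have h := allB_range sub_check (k := m % 4096) (Nat.mod_lt _ (by norm_num))
  rw [isCode_iff.1 hm] at h
  simp only [Bool.and_eq_true, Bool.or_eq_true, Bool.not_eq_true'] at h
  have key : (Nat.beq m 0 = true) ∨ Nat.beq m S = true := by
    rcases hS with rfl | rfl
    · rcases h.1 with (h' | h') | h'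
      · rw [e, Nat.beq_refl] at h'; exact absurd h' (by decide)
      · exact Or.inl h'
      · exact Or.inr h'
    · rcases h.2 with (h' | h') | h'
      · rw [show Nat.xor dM 16777215 = dM ^^^ 16777215 from rfl, e, Nat.beq_refl] at h'
        exact absurd h' (by decide)
      · exact Or.inl h'
      · exact Or.inr h'
  rcases key with h' | h' <;> rw [Nat.eq_of_beq_eq_true h']
  · exact Or.inl mset_zero
  · exact Or.inr rfl

theorem card_side {S : ℕ} (hS : S = dM ∨ S = dM ^^^ 16777215) : (mset S).card = 12 := by
  rcases hS with rfl | rfl <;> rw [card_mset] <;> decide +kernel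

/-- Lattice vectors of norm 64 supported on a dodecad are four times an integer vector. -/
theorem shape {S : ℕ} (hS : S = dM ∨ S = dM ^^^ 16777215) (w : leechLattice)
    (hn : sqNorm (w : GolayPt → ℤ) = 64) (hsupp : ∀ i ∉ mset S, (w : GolayPt → ℤ) i = 0) :
    ∃ b : GolayPt → ℤ, (∀ i, (w : GolayPt → ℤ) i = 4 * b i) ∧ ∑ i, b i ^ 2 = 4 := by
  classical
  have hev : ∀ i, (w : GolayPt → ℤ) i % 2 = 0 := by
    obtain ⟨m, a, h1, -, -⟩ := mem_leechLattice_iff.1 w.2
    have hex : ∃ j, j ∉ mset S := by
      by_contra hc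
      push Not at hc
      have := card_side hS
      rw [Finset.eq_univ_iff_forall.2 hc] at this
      simp at this
    obtain ⟨j, hj⟩ := hex
    intro i
    have e1 := h1 i
    have e2 := h1 j
    rw [hsupp j hj] at e2
    omega
  let a : GolayPt → ℤ := fun i => (w : GolayPt → ℤ) i / 2
  have hwa : ∀ i, (w : GolayPt → ℤ) i = 2 * a i := fun i => by
    have := hev i
    simp only [a]
    omega
  have hmem : (fun i => 2 * a i) ∈ leechLattice := by rw [← funext hwa]; exact w.2
  obtain ⟨hcode, -⟩ := even_mem_iff.1 hmem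
  have hsum : ∑ i, a i ^ 2 = 16 := by
    have : ∑ i, ((w : GolayPt → ℤ) i) ^ 2 = 64 := by simpa [sqNorm] using hn
    simp only [hwa, mul_pow, ← Finset.mul_sum] at this
    omega
  rcases sub_side hS (mem_supports_word.2 hcode) (fun i hi => by
    rw [mem_support_mod2] at hi
    by_contra hiS
    rw [show a i = 0 by simp only [a, hsupp i hiS, Int.zero_ediv]] at hi
    simp at hi) with h0 | hfull
  · have hae : ∀ i, a i % 2 = 0 := fun i => by
      have : i ∉ support₂ (mod2 a) := by rw [h0]; simp
      rw [mem_support_mod2] at this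
      omega
    refine ⟨fun i => a i / 2, fun i => ?_, ?_⟩
    · have := hae i
      show _ = 4 * (a i / 2)
      rw [hwa]
      omega
    · have e : ∀ i, a i = 2 * (a i / 2) := fun i => by have := hae i; omega
      have h2 : ∑ i, a i ^ 2 = 4 * ∑ i, (a i / 2) ^ 2 := by
        rw [Finset.mul_sum]
        exact Finset.sum_congr rfl fun i _ => by conv_lhs => rw [e i, mul_pow]; norm_num
      show ∑ i, (a i / 2) ^ 2 = 4
      omega
  · exfalso
    -- twelve odd entries give squares congruent to one modulo eight
    have hodd : ∀ i ∈ mset S, a i % 2 = 1 := fun i hi => by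
      rw [← hfull, mem_support_mod2] at hi; exact hi
    have hout : ∑ i, a i ^ 2 = ∑ i ∈ mset S, a i ^ 2 :=
      (Finset.sum_subset (Finset.subset_univ _) fun i _ hi => by
        simp only [a, hsupp i hi, Int.zero_ediv]; norm_num).symm
    have h8 : (8 : ℤ) ∣ ∑ i ∈ mset S, (a i ^ 2 - 1) := Finset.dvd_sum fun i hi => by
      obtain ⟨k, hk⟩ : ∃ k, a i = 2 * k + 1 := ⟨a i / 2, by have := hodd i hi; omega⟩
      obtain ⟨r, hr⟩ := Int.even_mul_succ_self k
      refine ⟨r, ?_⟩
      rw [hk]; linear_combination 4 * hr
    rw [Finset.sum_sub_distrib, ← hout, hsum, Finset.sum_const, card_side hS] at h8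
    norm_num at h8

/-- An element commuting with the dodecad sign change up to sign is monomial. -/
theorem mem_N0_of_anti {g : Co0}
    (h : g * sign0 (mset dM) (mset_code dM_code) = sign0 (mset dM) (mset_code dM_code) * g ∨
      g * sign0 (mset dM) (mset_code dM_code) =
        negCo0 * (sign0 (mset dM) (mset_code dM_code) * g)) : g ∈ N0 := by
  classical
  set ε := sign0 (mset dM) (mset_code dM_code) with hεdef
  have hε : ∀ (v : leechLattice) (p : GolayPt), ((ε • v : leechLattice) : GolayPt → ℤ) p =
      if p ∈ mset dM then -(v : GolayPt → ℤ) p else (v : GolayPt → ℤ) p := fun v p => by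
    rw [hεdef, sign0, monoCo0_smul]
    simp [signedPerm, Equiv.Perm.one_symm]
  have hεv : ∀ p ∈ mset dM, ε • vec8 p = -vec8 p := fun p hp => by
    refine Subtype.ext (funext fun q => ?_)
    rw [hε, AddSubgroup.coe_neg, Pi.neg_apply]
    show (if q ∈ mset dM then -(Pi.single p (8 : ℤ) : GolayPt → ℤ) q else
      (Pi.single p (8 : ℤ) : GolayPt → ℤ) q) = -(Pi.single p (8 : ℤ) : GolayPt → ℤ) q
    split_ifs with hq
    · rfl
    · rw [Pi.single_eq_of_ne (by rintro rfl; exact hq hp), neg_zero]
  obtain ⟨S, hS, hside⟩ : ∃ S, (S = dM ∨ S = dM ^^^ 16777215) ∧ ∀ q ∈ mset dM, ∀ i ∉ mset S,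
      ((g • vec8 q : leechLattice) : GolayPt → ℤ) i = 0 := by
    rcases h with h | h
    · refine ⟨dM, Or.inl rfl, fun q hq i hi => ?_⟩
      have e := congrArg (fun k : Co0 => ((k • vec8 q : leechLattice) : GolayPt → ℤ) i) h
      simp only [mul_smul, hεv q hq, co0_neg, hε, if_neg hi, AddSubgroup.coe_neg, Pi.neg_apply] at e
      omega
    · refine ⟨dM ^^^ 16777215, Or.inr rfl, fun q hq i hi => ?_⟩
      have hi' : i ∈ mset dM := by
        rw [mset_xor, mset_full, Finset.mem_symmDiff] at hi
        simpa using hi
      have e := congrArg (fun k : Co0 => ((k • vec8 q : leechLattice) : GolayPt → ℤ) i) h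
      simp only [mul_smul, negCo0_smul, hεv q hq, co0_neg, hε, if_pos hi', AddSubgroup.coe_neg,
        Pi.neg_apply] at e
      omega
  have hn : ∀ q, sqNorm ((g • vec8 q : leechLattice) : GolayPt → ℤ) = 64 := fun q => by
    rw [co0_sq]; simp [vec8, sqNorm, Pi.single_apply, ite_pow]
  choose b hb hb4 using fun q : {q // q ∈ mset dM} => shape hS _ (hn q.1) (hside q.1 q.2)
  have hcls : ∀ q : {q // q ∈ mset dM}, leechR.cls (g • vec8 q.1) = leechR.cls (g • vec8 pinf) :=
    fun q => co0_cls g (vec8_cls _ _)
  -- the odd entries form the same set for all q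
  let T : {q // q ∈ mset dM} → Finset GolayPt :=
    fun q => Finset.univ.filter fun i => b q i % 2 = 1
  have hTcard : ∀ q, (T q).card ≤ 4 := fun q => by
    have h1 : ((T q).card : ℤ) ≤ ∑ i ∈ T q, b q i ^ 2 := by
      rw [Finset.card_eq_sum_ones, Nat.cast_sum]
      refine Finset.sum_le_sum fun i hi => ?_
      simp only [T, Finset.mem_filter] at hi
      have : b q i ≠ 0 := fun e => by rw [e] at hi; simp at hi
      push_cast
      exact Int.one_le_abs (by positivity) |>.trans (le_of_eq (abs_of_nonneg (sq_nonneg _)))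
    have h2 : ∑ i ∈ T q, b q i ^ 2 ≤ ∑ i, b q i ^ 2 :=
      Finset.sum_le_univ_sum_of_nonneg fun i => sq_nonneg _
    rw [hb4] at h2
    omega
  have hTS : ∀ q, T q ⊆ mset S := fun q i hi => by
    by_contra hiS
    simp only [T, Finset.mem_filter] at hi
    have := hb q i
    rw [hside q.1 q.2 i hiS] at this
    omega
  have hTeq : ∀ p q, T p = T q := fun p q => by
    obtain ⟨v, hv, e⟩ := exists_two_smul_iff.1 ((hcls p).trans (hcls q).symm)
    have hv2 : v = fun i => 2 * (b p i - b q i) := funext fun i => by
      have := congrFun e i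
      simp only [Pi.sub_apply, Pi.smul_apply, hb, nsmul_eq_mul, Nat.cast_ofNat] at this
      omega
    rw [hv2, even_mem_iff] at hv
    have hc := mem_supports_word.2 hv.1
    have he : support₂ (mod2 fun i => b p i - b q i) = symmDiff (T p) (T q) := by
      ext i
      rw [mem_support_mod2]
      simp only [Finset.mem_symmDiff, T, Finset.mem_filter, Finset.mem_univ, true_and]
      omega
    rw [he] at hc
    have hsub : symmDiff (T p) (T q) ⊆ mset S :=
      le_trans symmDiff_le_sup (Finset.union_subset (hTS p) (hTS q))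
    rcases sub_side hS hc hsub with h0 | hfull
    · exact symmDiff_eq_bot.1 (by rwa [Finset.bot_eq_empty])
    · exfalso
      have h12 : (symmDiff (T p) (T q)).card ≤ 8 :=
        le_trans (Finset.card_le_card (show symmDiff (T p) (T q) ⊆ T p ∪ T q from symmDiff_le_sup))
          (le_trans (Finset.card_union_le _ _) (by have := hTcard p; have := hTcard q; omega))
      rw [hfull, card_side hS] at h12
      omega
  by_cases hex : ∃ q, T q = ∅
  · -- a vector of the standard frame
    obtain ⟨q, hq⟩ := hex
    have hev : ∀ i, b q i % 2 = 0 := fun i => by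
      have : i ∉ T q := by rw [hq]; simp
      simp only [T, Finset.mem_filter, Finset.mem_univ, true_and] at this
      omega
    have h1 : ∑ i, (b q i / 2) ^ 2 = 1 := by
      have h2 : ∑ i, b q i ^ 2 = 4 * ∑ i, (b q i / 2) ^ 2 := by
        rw [Finset.mul_sum]
        refine Finset.sum_congr rfl fun i _ => ?_
        have e : b q i = 2 * (b q i / 2) := by have := hev i; omega
        conv_lhs => rw [e, mul_pow]
        norm_num
      rw [hb4] at h2
      omega
    obtain ⟨j, hj⟩ : ∃ j, b q j / 2 ≠ 0 := by
      by_contra hc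
      push Not at hc
      simp [hc] at h1
    have hj1 : (b q j / 2) ^ 2 = 1 ∧ ∀ i, i ≠ j → b q i / 2 = 0 := by
      rw [← Finset.add_sum_erase _ _ (Finset.mem_univ j)] at h1
      have hpos : 0 < (b q j / 2) ^ 2 := by positivity
      have hge : 0 ≤ ∑ i ∈ Finset.univ.erase j, (b q i / 2) ^ 2 :=
        Finset.sum_nonneg fun i _ => sq_nonneg _
      refine ⟨by omega, fun i hi => ?_⟩
      have := (Finset.sum_eq_zero_iff_of_nonneg fun i _ => sq_nonneg (b q i / 2)).1
        (show ∑ i ∈ Finset.univ.erase j, (b q i / 2) ^ 2 = 0 by omega) i (by simp [hi])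
      simpa using this
    have hstd : ((g • vec8 q.1 : leechLattice) : GolayPt → ℤ) ∈ stdCross := by
      refine ⟨j, 4 * b q j, ?_, funext fun i => ?_⟩
      · have := hev j
        rcases sq_eq_one_iff.1 hj1.1 with e | e <;> omega
      · rw [Pi.single_apply, hb]
        split_ifs with hi
        · subst hi; rfl
        · have := hev i
          have := hj1.2 i hi
          omega
    show leechR.cls (g • vec8 pinf) = leechR.cls (vec8 pinf)
    rw [← hcls q]
    exact ((mem_std_iff _ pinf).1 hstd).2
  · exfalso
    push Not at hex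
    obtain ⟨q0⟩ : Nonempty {q // q ∈ mset dM} := by
      rw [← Fintype.card_pos_iff, Fintype.card_coe, card_side (Or.inl rfl)]
      norm_num
    have hzero : ∀ q, ∀ i ∉ T q0, b q i = 0 := fun q i hi => by
      rw [← hTeq q q0] at hi
      obtain ⟨j, hj⟩ := hex q
      simp only [T, Finset.mem_filter, Finset.mem_univ, true_and] at hi hj
      by_contra hne
      have hij : i ≠ j := by rintro rfl; exact hi hj
      have h2 := Finset.sum_le_univ_sum_of_nonneg (s := ({i, j} : Finset GolayPt))
        fun k => sq_nonneg (b q k)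
      rw [Finset.sum_pair hij, hb4] at h2
      have hi2 : 4 ≤ b q i ^ 2 := by
        obtain ⟨k, hk⟩ : ∃ k, b q i = 2 * k := ⟨b q i / 2, by omega⟩
        have : k ≠ 0 := fun e => hne (by rw [hk, e]; norm_num)
        rw [hk]
        have : 0 < k ^ 2 := by positivity
        nlinarith
      have hj2 : 0 < b q j ^ 2 := by
        have : b q j ≠ 0 := fun e => by rw [e] at hj; simp at hj
        positivity
      omega
    let w : {q // q ∈ mset dM} → {i // i ∈ T q0} → ℚ := fun q r => (b q r.1 : ℚ)
    have hdot : ∀ p q, ∑ r, w p r * w q r = if p = q then 4 else 0 := by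
      intro p q
      have e := co0_dot g (vec8 p.1) (vec8 q.1)
      have e2 : dotInt ((g • vec8 p.1 : leechLattice) : GolayPt → ℤ)
          ((g • vec8 q.1 : leechLattice) : GolayPt → ℤ) =
          16 * ∑ r : {i // i ∈ T q0}, b p r.1 * b q r.1 := by
        unfold dotInt
        rw [Finset.sum_coe_sort (T q0) (fun i => b p i * b q i), Finset.mul_sum,
          ← Finset.sum_subset (Finset.subset_univ (T q0)) fun i _ hi => by
            rw [hb, hzero p i hi]; simp]
        exact Finset.sum_congr rfl fun i _ => by rw [hb, hb]; ring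
      have e3 : dotInt (vec8 p.1 : GolayPt → ℤ) (vec8 q.1 : GolayPt → ℤ) =
          if p = q then 64 else 0 := by
        refine (vec8_dot p.1 q.1).trans ?_
        simp only [Subtype.ext_iff]
      rw [e2, e3] at e
      have e4 : ∑ r : {i // i ∈ T q0}, b p r.1 * b q r.1 = if p = q then 4 else 0 := by
        split_ifs at e ⊢ <;> omega
      have := congrArg (fun z : ℤ => (z : ℚ)) e4
      push_cast at this
      exact this
    have hli : LinearIndependent ℚ w := by
      rw [Fintype.linearIndependent_iff]
      intro c hc p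
      have h1 : ∑ r, (∑ q, c q • w q) r * w p r = 0 := by rw [hc]; simp
      simp only [Finset.sum_apply, Pi.smul_apply, smul_eq_mul, Finset.sum_mul] at h1
      rw [Finset.sum_comm] at h1
      simp only [mul_assoc, ← Finset.mul_sum, hdot] at h1
      simpa using h1
    have hcard := hli.fintype_card_le_finrank
    rw [Module.finrank_fintype_fun_eq_card, Fintype.card_coe, Fintype.card_coe,
      card_side (Or.inl rfl)] at hcard
    have := hTcard q0
    omega

/-- The dodecad involution. -/
noncomputable def vv : Spor.Co1 := sgn1 dM dM_code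

/-- The centraliser of the dodecad involution is monomial. -/
theorem exists_mono {s : Spor.Co1} (h : Commute s vv) :
    ∃ (σ : M24) (m : ℕ) (hm : isCode m = true), s = pr (monoCo0 σ σ.2 (mset m) (mset_code hm)) := by
  obtain ⟨g, rfl⟩ := pr_surjective s
  have h' : pr (sign0 (mset dM) (mset_code dM_code) * g) =
      pr (g * sign0 (mset dM) (mset_code dM_code)) := by
    rw [map_mul, map_mul]; exact h.eq.symm
  obtain ⟨σ, c, hc, e⟩ := N0_rep (mem_N0_of_anti (pr_eq h'))
  obtain ⟨m, hm, rfl⟩ := mem_supports_iff.1 hc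
  exact ⟨σ, m, hm, by rw [e]⟩

end CfsgLib.Recog.CoOneInv
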