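import Cfsg.Agent.Lib.Recog.CoOneInv.Data
import Cfsg.Agent.Lib.Recog.CoOneInv.DodecadCent

/-!
The finite checks on the code: for each candidate four-group the witness admits no further
extension.
-/

set_option autoImplicit false
set_option maxRecDepth 100000

namespace CfsgLib.Recog.CoOneInv

open CfsgLib.Golay

/-- The four masks. -/
def msk (m : ℕ) (i j : Bool) : ℕ := Nat.xor (bif i then dM else 0) (bif j then m else 0)

/-- Trivial sign change. -/
def trivM (m : ℕ) : Bool := Nat.beq m 0 || Nat.beq m 16777215

/-- Candidate. -/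
def cand (o m : ℕ) : Bool :=
  !trivM m && !trivM (Nat.xor dM m) && !isO m && !isO (Nat.xor dM m) && isO (Nat.xor o m) &&
    isO (Nat.xor o (Nat.xor dM m))

/-- All four indices. -/
def idx4 : List (Bool × Bool) := [(false, false), (true, false), (false, true), (true, true)]

/-- The pattern of a witness. -/
def gpat (m o2 : ℕ) (i j : Bool) : Bool := isO (Nat.xor o2 (msk m i j))

/-- The conditions on one further extension. -/
def extBad (m o2 : ℕ) (f : Bool → Bool → Bool) (de : ℕ) : Bool :=
  isO (Nat.xor o2 de) &&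
    (idx4.all fun e => !isO (Nat.xor de (msk m e.1 e.2)) && !trivM (Nat.xor de (msk m e.1 e.2))) &&
    ((idx4.all fun e => isO (Nat.xor o2 (Nat.xor de (msk m e.1 e.2))) == f e.1 e.2) ||
      (idx4.all fun e => isO (Nat.xor o2 (Nat.xor de (msk m e.1 e.2))) == gpat m o2 e.1 e.2))

/-- The check on a witness. -/
def leafOK (m o2 : ℕ) (f : Bool → Bool → Bool) : Bool :=
  isCode o2 && isO o2 && f false false && (idx4.any fun e => gpat m o2 e.1 e.2 != f e.1 e.2) &&
    (idx4.tail.all fun d =>
      !(idx4.all fun e => gpat m o2 (xor e.1 d.1) (xor e.2 d.2) == f e.1 e.2) &&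
      !(idx4.all fun e => gpat m o2 (xor e.1 d.1) (xor e.2 d.2) == gpat m o2 e.1 e.2 &&
        f (xor e.1 d.1) (xor e.2 d.2) == f e.1 e.2) &&
      Nat.beq (pop (msk m d.1 d.2)) 12) &&
    (idx4.tail.any fun d => gpat m o2 d.1 d.2) && (idx4.tail.any fun d => f d.1 d.2) &&
    allB 11 (fun k => !extBad m o2 f (enc k)) 0

/-- The pattern of the first kind. -/
def fFour (i j : Bool) : Bool := !(i && j)

/-- The pattern of the second kind. -/
def fSix (i _j : Bool) : Bool := !i

/-- The witness of a candidate. -/
def lookup (tab : List (ℕ × ℕ)) (k : ℕ) : ℕ :=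
  tab.foldr (fun p r => bif Nat.beq p.1 k then p.2 else r) 0

theorem check_four :
    allB 11 (fun k => !cand oFour (enc k) || leafOK (enc k) (lookup tabFour k) fFour) 0 = true := by
  decide +kernel

theorem check_six :
    allB 11 (fun k => !cand oSix (enc k) || leafOK (enc k) (lookup tabSix k) fSix) 0 = true := by
  decide +kernel

theorem misc_checks : isCode oFour = true ∧ isO oFour = true ∧ isO (Nat.xor oFour dM) = false ∧
    isCode oSix = true ∧ isO oSix = true ∧ isO (Nat.xor oSix dM) = true ∧ pop dM = 12 := by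
  decide +kernel

end CfsgLib.Recog.CoOneInv
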