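import Cfsg.Agent.Lib.Trans3.ConwayM24.Split
import Cfsg.Agent.Lib.ClassK.ConwayCount

/-!
The local subgroup of a group of Conway type meets the centraliser of `z`, and that of the pair, in
subgroups of odd index.
-/

set_option autoImplicit false
set_option maxRecDepth 20000
set_option synthInstance.maxSize 2000
set_option linter.unusedSectionVars false

namespace CfsgLib.Recog.CoOneInv

open Subgroup CfsgLib.Trans3.ExtraTwo CfsgLib.ClassK.Conway CfsgLib.Trans3.ConwayM24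
open CfsgLib.PLocal.LargeExtra

theorem card_singular : Fintype.card {p : Sp 4 × ZMod 2 // p.1 ≠ 0 ∧ qd p.1 = 0} = 270 := by
  decide +kernel

variable {G : Type*} [Group G] [Finite G] {z : G} {Q : Subgroup G} {e : ↥Q ≃* ES 4 (ff 4)} {ρ : G}
  (S : Std z e ρ)
include S

theorem card_cent_z (hidx : (Q.subgroupOf (centralizer ({z} : Set G))).index = 174182400)
    (hQ : Nat.card Q = 2 ^ 9) :
    Nat.card (centralizer ({z} : Set G)) = 2 ^ 9 * 174182400 := by
  have h := card_mul_index (Q.subgroupOf (centralizer ({z} : Set G)))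
  rw [hidx, Nat.card_congr (subgroupOfEquivOfLe fun g hg => S.tri.setup.pack.mem_centralizer_z hg).toEquiv,
    hQ] at h
  exact h.symm

theorem orbit_z_local : (Set.range fun c : NA S => (c : G) * z * (c : G)⁻¹).ncard = 759 := by
  classical
  rw [← card_zf, ← Nat.card_eq_fintype_card, ← Nat.card_coe_set_eq]
  refine (Nat.card_eq_of_bijective (fun v : {v : Av // zf v = true} =>
    (⟨iota S v.1, ?_⟩ : Set.range fun c : NA S => (c : G) * z * (c : G)⁻¹)) ⟨?_, ?_⟩).symm
  · obtain ⟨n, hn, h⟩ := (classes S v.1).2 v.2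
    exact ⟨⟨n, hn⟩, h⟩
  · exact fun v w h => Subtype.ext (iota_injective S (congrArg Subtype.val h))
  · rintro ⟨_, ⟨n, rfl⟩⟩
    have hmem : (n : G) * z * (n : G)⁻¹ ∈ AA S :=
      (mem_normalizer_iff.1 n.2 z).1 ((mem_AA S).2 ⟨_, iota_z S⟩)
    obtain ⟨v, hv⟩ := (mem_AA S).1 hmem
    exact ⟨⟨v, (isConj_iff_zf S v).1 (isConj_iff.2 ⟨n, hv.symm⟩)⟩, Subtype.ext hv⟩

theorem card_NA_inf_cent :
    759 * Nat.card (NA S ⊓ centralizer ({z} : Set G) : Subgroup G) = 2 ^ 11 * 244823040 := by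
  rw [← orbit_z_local S, card_orbit_mul, card_NA]

theorem relIndex_C (hidx : (Q.subgroupOf (centralizer ({z} : Set G))).index = 174182400)
    (hQ : Nat.card Q = 2 ^ 9) : (NA S).relIndex (centralizer ({z} : Set G)) = 135 := by
  have h : Nat.card (NA S ⊓ centralizer ({z} : Set G) : Subgroup G) *
      (NA S).relIndex (centralizer ({z} : Set G)) = 2 ^ 9 * 174182400 := by
    rw [← card_cent_z S hidx hQ, ← inf_relIndex_right, ← relIndex_bot_left,
      relIndex_mul_relIndex ⊥ _ _ bot_le inf_le_right, relIndex_bot_left]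
  have h2 := card_NA_inf_cent S
  have h3 : Nat.card (NA S ⊓ centralizer ({z} : Set G) : Subgroup G) = 660602880 := by omega
  rw [h3] at h
  omega

theorem odd_index_C (hidx : (Q.subgroupOf (centralizer ({z} : Set G))).index = 174182400)
    (hQ : Nat.card Q = 2 ^ 9) : Odd ((NA S).relIndex (centralizer ({z} : Set G))) :=
  ⟨67, (relIndex_C S hidx hQ).trans (by norm_num)⟩

theorem orbit_x :
    (Set.range fun c : centralizer ({z} : Set G) => (c : G) * xe e * (c : G)⁻¹).ncard = 270 := by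
  classical
  obtain ⟨hxQ, hx2, hx1, hxz, -⟩ := S.tri.setup.xe_facts
  rw [← card_singular, ← Nat.card_eq_fintype_card, ← Nat.card_coe_set_eq]
  refine (Nat.card_eq_of_bijective (fun p : {p : Sp 4 × ZMod 2 // p.1 ≠ 0 ∧ qd p.1 = 0} =>
    (⟨el e p.1.1 p.1.2, ?_⟩ :
      Set.range fun c : centralizer ({z} : Set G) => (c : G) * xe e * (c : G)⁻¹)) ⟨?_, ?_⟩).symm
  · obtain ⟨c, hc, h⟩ := S.tri.setup.isConj_H hxQ hx2 hx1 hxz (b := el e p.1.1 p.1.2)
      (Setup.el_mem _ _)
      (by rw [S.tri.setup.el_sq, p.2.2, Setup.el_zero])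
      (fun h => p.2.1 (Setup.el_inj (e := e) (h.trans Setup.el_zero.symm)).1)
      (fun h => p.2.1 (Setup.el_inj (e := e) (h.trans S.tri.setup.el_one.symm)).1)
    exact ⟨⟨c, hc⟩, h⟩
  · intro p q h
    have h0 : el e p.1.1 p.1.2 = el e q.1.1 q.1.2 := by simpa using h
    have h' := Setup.el_inj (e := e) h0
    exact Subtype.ext (Prod.ext h'.1 h'.2)
  · rintro ⟨_, ⟨c, rfl⟩⟩
    obtain ⟨v, k, hv⟩ := Setup.exists_el (e := e) (S.tri.setup.conj_mem c.2 hxQ)
    have hne : v ≠ 0 := by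
      rintro rfl
      rcases z2_cases k with rfl | rfl
      · refine hx1 ?_
        rw [Setup.el_zero] at hv
        simpa using hv
      · refine hxz ?_
        rw [S.tri.setup.el_one] at hv
        have h1 : (c : G) * z * (c : G)⁻¹ = z :=
          mul_inv_eq_iff_eq_mul.2 (mem_centralizer_singleton_iff.1 c.2)
        exact mul_left_cancel (mul_right_cancel (hv.trans h1.symm))
    have hq : qd v = 0 := by
      have h1 : (c : G) * xe e * (c : G)⁻¹ * ((c : G) * xe e * (c : G)⁻¹) = 1 := by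
        rw [conj_mul, hx2, mul_one, mul_inv_cancel]
      rw [hv, S.tri.setup.el_sq] at h1
      exact (Setup.el_inj (e := e) (h1.trans Setup.el_zero.symm)).2
    exact ⟨⟨(v, k), hne, hq⟩, Subtype.ext hv.symm⟩

theorem iota_mem_Q {v : Av} (h : iota S v ∈ Q) : v.2.2.1 = 0 ∧ v.2.2.2.2 = 0 := by
  have hm : v.2.2.2.2 = 0 := by
    by_contra hne
    exact not_Q S hne h
  refine ⟨?_, hm⟩
  rw [iota, hm, r_zero, mul_one] at h
  have T := S.tri
  have hy : yl e ρ (pr v.2.2.1 0) ∈ Q := by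
    have h1 : yl e ρ (pr v.2.2.1 0) = (ep z e v.1 v.2.1)⁻¹ *
        nm z e ρ v.1 v.2.1 (pr v.2.2.1 0) (pr v.2.2.2.1 0) * (dl e (pr v.2.2.2.1 0))⁻¹ := by
      rw [nm]; group
    rw [h1]
    exact mul_mem (mul_mem (inv_mem (T.ep_memQ _ _)) h) (inv_mem (Setup.el_mem _ _))
  obtain ⟨k, l, hk⟩ := T.mem_four hy (T.yl_memT _)
  have h2 : nm z e ρ 0 0 (pr v.2.2.1 0) 0 = nm z e ρ k l 0 0 := by rw [T.nm_yl, T.nm_ep, hk]
  have h3 := (T.nm_inj h2).2.2.1
  rw [← pr_zero] at h3
  exact (pr_inj h3).1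

theorem orbit_x_local :
    (Set.range fun c : (NA S ⊓ centralizer ({z} : Set G) : Subgroup G) =>
      (c : G) * xe e * (c : G)⁻¹).ncard = 30 := by
  classical
  obtain ⟨hxQ, hx2, hx1, hxz, -⟩ := S.tri.setup.xe_facts
  rw [← card_thirty, ← Nat.card_eq_fintype_card, ← Nat.card_coe_set_eq]
  refine (Nat.card_eq_of_bijective
    (fun p : {p : ZMod 2 × ZMod 2 × V // p.2.2 ≠ 0 ∨ p.2.1 = 1} =>
      (⟨iota S (low p.1.1 p.1.2.1 p.1.2.2), ?_⟩ :
        Set.range fun c : (NA S ⊓ centralizer ({z} : Set G) : Subgroup G) =>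
          (c : G) * xe e * (c : G)⁻¹)) ⟨?_, ?_⟩).symm
  · obtain ⟨c, hc, hcN, h⟩ := zconj_low S p.1.1 p.1.2.1 p.1.2.2 p.2
    exact ⟨⟨c, hcN, hc⟩, h⟩
  · intro p q h
    have h' := iota_injective S (congrArg Subtype.val h)
    simp only [low, Prod.mk.injEq] at h'
    exact Subtype.ext (Prod.ext h'.1 (Prod.ext h'.2.1 h'.2.2.2.1))
  · rintro ⟨_, ⟨c, rfl⟩⟩
    have hmem : (c : G) * xe e * (c : G)⁻¹ ∈ AA S :=
      (mem_normalizer_iff.1 c.2.1 (xe e)).1 ((mem_AA S).2 ⟨_, iota_x S⟩)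
    obtain ⟨v, hv⟩ := (mem_AA S).1 hmem
    obtain ⟨ha, hm⟩ := iota_mem_Q S (v := v) (hv ▸ S.tri.setup.conj_mem c.2.2 hxQ)
    obtain ⟨i, j, a, b, m⟩ := v
    simp only at ha hm
    subst ha hm
    have hbj : b ≠ 0 ∨ j = 1 := by
      by_contra hcon
      rw [not_or, not_not] at hcon
      obtain ⟨rfl, hj⟩ := hcon
      obtain rfl := z2_ne_one hj
      have hcz : (c : G) * z * (c : G)⁻¹ = z :=
        mul_inv_eq_iff_eq_mul.2 (mem_centralizer_singleton_iff.1 c.2.2)
      rcases z2_cases i with rfl | rfl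
      · refine hx1 ?_
        have h1 : iota S ((0, 0, 0, 0, 0) : Av) = 1 := iota_zero S
        rw [h1] at hv
        simpa using hv.symm
      · refine hxz ?_
        have h1 : iota S ((1, 0, 0, 0, 0) : Av) = z := iota_z S
        rw [h1] at hv
        exact mul_left_cancel (mul_right_cancel (hv.symm.trans hcz.symm))
    exact ⟨⟨(i, j, b), hbj⟩, Subtype.ext hv⟩

theorem relIndex_CE (hidx : (Q.subgroupOf (centralizer ({z} : Set G))).index = 174182400)
    (hQ : Nat.card Q = 2 ^ 9) :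
    (NA S).relIndex (centralizer ({z} : Set G) ⊓ centralizer ({xe e} : Set G)) = 15 := by
  set C := centralizer ({z} : Set G) with hC
  set X := centralizer ({xe e} : Set G) with hX
  have h1 : 270 * Nat.card (C ⊓ X : Subgroup G) = 2 ^ 9 * 174182400 := by
    rw [← orbit_x S, hX, card_orbit_mul, card_cent_z S hidx hQ]
  have h2 : 30 * Nat.card ((NA S ⊓ C) ⊓ X : Subgroup G) =
      Nat.card (NA S ⊓ C : Subgroup G) := by
    rw [← orbit_x_local S, hX, hC, card_orbit_mul]
  have h3 := card_NA_inf_cent S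
  have h4 : Nat.card (NA S ⊓ (C ⊓ X) : Subgroup G) * (NA S).relIndex (C ⊓ X) =
      Nat.card (C ⊓ X : Subgroup G) := by
    rw [← inf_relIndex_right, ← relIndex_bot_left,
      relIndex_mul_relIndex ⊥ _ _ bot_le inf_le_right, relIndex_bot_left]
  rw [← inf_assoc] at h4
  rw [← hC] at h3
  generalize Nat.card (NA S ⊓ C : Subgroup G) = a at h2 h3
  generalize Nat.card ((NA S ⊓ C) ⊓ X : Subgroup G) = b at h2 h4
  generalize Nat.card (C ⊓ X : Subgroup G) = c at h1 h4
  obtain rfl : b = 22020096 := by omega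
  omega

theorem odd_index_CE (hidx : (Q.subgroupOf (centralizer ({z} : Set G))).index = 174182400)
    (hQ : Nat.card Q = 2 ^ 9) :
    Odd ((NA S).relIndex (centralizer ({z} : Set G) ⊓ centralizer ({xe e} : Set G))) :=
  ⟨7, (relIndex_CE S hidx hQ).trans (by norm_num)⟩

end CfsgLib.Recog.CoOneInv
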