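import Cfsg.Agent.Lib.Recog.CoOneInv.CoverRun

/-!
A cover of `Co1` that is faithful on the centraliser of an involution and on the monomial subgroup,
and knows one relation between them, is trivial.
-/

set_option autoImplicit false
set_option maxRecDepth 100000

namespace CfsgLib.Recog.CoOneInv

open Cfsg CfsgLib.Golay CfsgLib.Golay.E8Cent

namespace Cover

attribute [local irreducible] permOf mset monoCo0 rowT letT act app rowsC rt orbT opsT coverT chains mulR packR idR GR inTree el runOps finalSt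

namespace Setup

variable {U : Type*} [Group U] (S : Setup U)

theorem exists_final : ∃ T, S.SOK T ∧ ∀ i, Idx i → covOK T i = true ∧ fixChainOK T i = true := by
  have h : stateOK finalSt = true := final_ok
  generalize hf : finalSt = o at h
  cases o with
  | none => exact absurd h (by simp [stateOK])
  | some T =>
    simp only [stateOK, List.all_eq_true, List.mem_range'_1, Bool.and_eq_true] at h
    unfold finalSt at hf
    exact ⟨T, S.run_spec (os := opsT) ⟨by simp, by simp⟩ hf,
      fun i hi => h i ⟨hi.1, by have := hi.2; omega⟩⟩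

/-- The orbit of a representative under the monomial part. -/
def Orb (i : ℕ) : Set (U ⧸ S.N) := MulAction.orbit ↥S.N (S.xr i)

/-- All the orbits. -/
def TT : Set (U ⧸ S.N) := {x | ∃ i, Idx i ∧ x ∈ S.Orb i}

theorem nbr_mem {T : St} (hT : S.SOK T) {i : ℕ} (hi : Idx i) (hc : covOK T i = true)
    {y : U ⧸ S.N} (h : S.Adj (S.xr i) y) : y ∈ S.TT := by
  simp only [covOK, Bool.and_eq_true, List.all_eq_true, List.mem_range] at hc
  set C := coverT.getD (i - 1) ⟨0, 0, 0, 0⟩
  obtain ⟨hent, hpos⟩ := hc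
  have key : ∀ k < C.n, ∃ l, Idx l ∧ ∃ m ∈ S.N, S.Adj (S.xr i) (m • S.xr l) ∧
      S.pb (m • S.xr l) = rowAt C.V k := by
    intro k
    induction k using Nat.strongRecOn with
    | _ k ih =>
      intro hk
      have he := hent k hk
      rw [covEntryOK] at he
      cases hb : Nat.beq (Nat.land (rowAt C.P k) 255) 255
      · simp only [hb, cond_false, Bool.and_eq_true] at he
        obtain ⟨⟨h1, h2⟩, h3⟩ := he
        have h1' : Nat.shiftRight (rowAt C.P k) 8 < k := Nat.le_of_ble_eq_true h1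
        obtain ⟨l, hl, m, hm, ha, hpb⟩ := ih _ h1' (h1'.trans hk)
        obtain ⟨hgl, hgf⟩ := S.okLet_spec hT h2
        obtain ⟨hgm, hge⟩ := S.ln_spec (el_N2 hgl)
        refine ⟨l, hl, _, mul_mem hgm hm, ?_, ?_⟩
        · have := S.adj_smul (S.ln (el (Nat.land (rowAt C.P k) 255))) ha
          rwa [hgf, ← mul_smul] at this
        · rw [mul_smul, S.pb_smul, hge, hpb, el_act hgl.le (rowAt_lt _ _), Nat.eq_of_beq_eq_true h3]
      · simp only [hb, cond_true, Bool.and_eq_true] at he
        obtain ⟨⟨h1, h2⟩, h3⟩ := he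
        have hf : Nat.shiftRight (rowAt C.P k) 8 < T.facts.length := Nat.le_of_ble_eq_true h1
        have hF : S.FOK (T.facts.getD (Nat.shiftRight (rowAt C.P k) 8) ⟨0, 0, 0, 0⟩) := by
          rw [List.getD_eq_getElem _ _ hf]; exact hT.1 _ (List.getElem_mem hf)
        obtain ⟨hiF, hlF, m, hm, hr, ha, he', -⟩ := hF
        rw [Nat.eq_of_beq_eq_true h2] at ha he'
        refine ⟨_, hlF, m, hm, ha, ?_⟩
        rw [S.pb_smul, S.pb_xr hlF, ← hr _ (VV_lt _), he', Nat.eq_of_beq_eq_true h3]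
  obtain ⟨j, hj, ej⟩ := S.nbr_class (u := S.uI i) h
  obtain ⟨h1, h2⟩ := hpos j hj
  obtain ⟨l, hl, m, hm, ha, hpb⟩ := key _ (Nat.le_of_ble_eq_true h1)
  refine ⟨l, hl, ?_⟩
  rw [S.adj_unique h ha (by rw [ej, hpb, Nat.eq_of_beq_eq_true h2, S.app_GR hi (rowAt_lt _ _)])]
  exact ⟨⟨m, hm⟩, rfl⟩

theorem TT_closed {x y : U ⧸ S.N} (hx : x ∈ S.TT) (h : S.Adj x y) : y ∈ S.TT := by
  obtain ⟨T, hT, hfin⟩ := S.exists_final
  obtain ⟨i, hi, ⟨n, hn⟩, rfl⟩ := hx
  have h' := S.adj_smul (n⁻¹ : U) h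
  change S.Adj (n⁻¹ • (n • S.xr i)) (n⁻¹ • y) at h'
  rw [inv_smul_smul] at h'
  obtain ⟨l, hl, ⟨m, hm⟩, e⟩ := S.nbr_mem hT hi (hfin i hi).1 h'
  refine ⟨l, hl, ⟨⟨n * m, mul_mem hn hm⟩, ?_⟩⟩
  show (n * m) • S.xr l = y
  rw [mul_smul]
  have e' : m • S.xr l = n⁻¹ • y := e
  rw [e', smul_inv_smul]

theorem closure_top : Subgroup.closure ((S.N : Set U) ∪ {S.tt}) = ⊤ := by
  set H := Subgroup.closure ((S.N : Set U) ∪ {S.tt})
  have hN : S.N ≤ H := fun n hn => Subgroup.subset_closure (Or.inl hn)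
  have htt : S.tt ∈ H := Subgroup.subset_closure (Or.inr rfl)
  have hsup : CN ⊔ Subgroup.zpowers (el nX) ≤ (H ⊓ S.C).map S.π := by
    refine sup_le (fun q hq => ?_) ?_
    · obtain ⟨m, hm, e⟩ := S.inter hq
      exact ⟨m, ⟨hN hm.2, hm.1⟩, e⟩
    · rw [Subgroup.zpowers_le]
      exact ⟨S.tt, ⟨htt, S.tt_mem⟩, S.tt_pi⟩
  have hC : S.C ≤ H := fun c hc => by
    obtain ⟨d, hd, e⟩ := hsup (C1_le_sup (S.pi_C hc))
    rw [← S.injC hd.2 hc e]; exact hd.1
  exact eq_top_iff.2 (S.gen ▸ sup_le hC hN)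

theorem TT_univ : S.TT = Set.univ := by
  refine Set.eq_univ_of_forall fun x => ?_
  have key : ∀ w ∈ Subgroup.closure ((S.N : Set U) ∪ {S.tt}), w • S.o ∈ S.TT := by
    intro w hw
    induction hw using Subgroup.closure_induction_right with
    | one =>
      refine ⟨1, ⟨le_rfl, by norm_num⟩, 1, ?_⟩
      show (1 : ↥S.N) • S.xr 1 = _
      rw [one_smul, one_smul, S.xr_one]
    | mul_right a _ g hg ih =>
      rcases hg with hg | hg
      · rwa [mul_smul, S.fix_o hg]
      · rw [Set.mem_singleton_iff.1 hg]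
        exact S.TT_closed ih ⟨a, rfl, rfl⟩
    | mul_inv_cancel a _ g hg ih =>
      rcases hg with hg | hg
      · rwa [mul_smul, S.fix_o (inv_mem hg)]
      · rw [Set.mem_singleton_iff.1 hg, S.tt_inv]
        exact S.TT_closed ih ⟨a, rfl, rfl⟩
  induction x using Quotient.inductionOn' with
  | h u =>
    have := key u (by rw [S.closure_top]; trivial)
    rwa [S.smul_o] at this

theorem card_orb {i : ℕ} (hi : Idx i) :
    (S.Orb i).ncard * chainVal (chains.getD i []) ≤ 501397585920 ∧ (S.Orb i).Finite := by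
  obtain ⟨T, hT, hfin⟩ := S.exists_final
  obtain ⟨-, hc⟩ := hfin i hi
  simp only [fixChainOK, Bool.and_eq_true, List.all_eq_true] at hc
  have hcard : Nat.card ↥S.N = 501397585920 := by
    rw [← card_N2]
    exact Nat.card_congr ((Equiv.Set.imageOfInjOn S.π (S.N : Set U) S.injN).trans
      (Equiv.setCongr (by rw [← Subgroup.coe_map, S.mapN])))
  haveI : Finite ↥S.N := Nat.finite_of_card_ne_zero (by rw [hcard]; norm_num)
  refine ⟨?_, Set.finite_range _⟩
  have hs : chainVal (chains.getD i []) ≤ Nat.card ↥(MulAction.stabilizer ↥S.N (S.xr i)) := by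
    refine le_trans (chain_le _ ((MulAction.stabilizer ↥S.N (S.xr i)).map (S.π.comp S.N.subtype)) hc.1
      fun g hg => ?_) (Nat.le_of_dvd Nat.card_pos (Subgroup.card_map_dvd _ _))
    obtain ⟨hgl, hgf⟩ := S.okLet_spec hT (hc.2 g hg)
    obtain ⟨hgm, hge⟩ := S.ln_spec (el_N2 hgl)
    exact ⟨⟨_, hgm⟩, hgf, hge⟩
  rw [← hcard, ← (MulAction.stabilizer ↥S.N (S.xr i)).card_mul_index, MulAction.index_stabilizer,
    mul_comm]
  exact Nat.mul_le_mul hs le_rfl

theorem injective : Function.Injective S.π := by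
  classical
  set f : ℕ → ℕ := fun i => [1, 3542, 1457280, 48576, 4145152, 2637824].getD (i - 1) 0 with hf
  have hb : ∀ i, Idx i → (S.Orb i).ncard ≤ f i := by
    intro i hi
    obtain ⟨h1, -⟩ := S.card_orb hi
    obtain ⟨hi1, hi2⟩ := hi
    have hv := chain_vals
    have hv1 : chainVal (chains.getD 1 []) = 501397585920 := by decide +kernel
    simp only [List.map_cons, List.map_nil, List.cons.injEq, and_true] at hv
    obtain ⟨e2, e3, e4, e5, e6⟩ := hv
    interval_cases i
    · rw [hv1] at h1; simp only [hf]; norm_num; omega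
    · rw [e2] at h1; simp only [hf]; norm_num; omega
    · rw [e3] at h1; simp only [hf]; norm_num; omega
    · rw [e4] at h1; simp only [hf]; norm_num; omega
    · rw [e5] at h1; simp only [hf]; norm_num; omega
    · rw [e6] at h1; simp only [hf]; norm_num; omega
  have hTT : S.TT = ⋃ i ∈ Finset.Icc 1 6, S.Orb i := by
    ext x
    simp only [TT, Idx, Set.mem_ofPred_eq, Set.mem_iUnion, Finset.mem_Icc, exists_prop]
  have hfin : S.TT.Finite := by
    rw [hTT]
    exact Set.Finite.biUnion (Finset.finite_toSet _) fun i hi => (S.card_orb (Finset.mem_Icc.1 hi)).2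
  haveI : Finite (U ⧸ S.N) := Set.finite_univ_iff.1 (S.TT_univ ▸ hfin)
  have hle : Nat.card (U ⧸ S.N) ≤ 8292375 := by
    rw [← Set.ncard_univ, ← S.TT_univ, hTT]
    refine le_trans (Finset.set_ncard_biUnion_le _ _) (le_trans (Finset.sum_le_sum
      fun i hi => hb i (Finset.mem_Icc.1 hi)) ?_)
    simp only [hf]
    decide
  let ψ : U ⧸ S.N → Spor.Co1 ⧸ N2 := Quotient.map' S.π (by
    intro a b hab
    rw [QuotientGroup.leftRel_apply] at hab ⊢
    rw [← map_inv, ← map_mul]
    exact S.pi_N hab)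
  have hsurj : Function.Surjective S.π := by
    rw [← MonoidHom.range_eq_top, eq_top_iff, ← C1_sup_N2]
    refine sup_le ?_ ?_
    · rw [← S.mapC]; exact Subgroup.map_le_range _ _
    · rw [← S.mapN]; exact Subgroup.map_le_range _ _
  have hψs : Function.Surjective ψ := by
    intro q
    induction q using Quotient.inductionOn' with
    | h g => obtain ⟨u, rfl⟩ := hsurj g; exact ⟨QuotientGroup.mk u, rfl⟩
  have hci : Nat.card (Spor.Co1 ⧸ N2) = 8292375 := by
    have h := Subgroup.card_mul_index N2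
    rw [card_N2, show Nat.card Spor.Co1 = 4157776806543360000 from card_Co1, Subgroup.index] at h
    exact Nat.eq_of_mul_eq_mul_left (show 0 < 501397585920 by norm_num) (h.trans (by norm_num))
  have hψ : Function.Injective ψ := (hψs.bijective_of_nat_card_le (hle.trans_eq hci.symm)).1
  intro a b hab
  have : ψ (QuotientGroup.mk a) = ψ (QuotientGroup.mk b) := congrArg (QuotientGroup.mk (s := N2)) hab
  have hn : a⁻¹ * b ∈ S.N := QuotientGroup.eq.1 (hψ this)
  have := S.injN hn (one_mem _) (by rw [map_mul, map_inv, hab, inv_mul_cancel, map_one])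
  exact inv_mul_eq_one.1 this

end Setup

end Cover

/-- The amalgam of the centraliser of an involution and the monomial subgroup determines `Co1`. -/
theorem amalgam_unique {U : Type*} [Group U] (π : U →* Spor.Co1) (C' N' : Subgroup U)
    (hgen : C' ⊔ N' = ⊤) (hCi : Set.InjOn π C') (hNi : Set.InjOn π N') (hC : C'.map π = C1)
    (hN : N'.map π = N2) (hI : C1 ⊓ N2 ≤ (C' ⊓ N').map π)
    (hT : ∀ n ∈ N', π n * z1 * (π n)⁻¹ ∈ Qc.map C1.subtype →
      ∀ c ∈ C', π n * π c * (π n)⁻¹ ∈ C1 → n * c * n⁻¹ ∈ C') :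
    Function.Injective π :=
  Cover.Setup.injective ⟨π, C', N', hgen, hCi, hNi, hC, hN, hI, hT⟩

/-- The centraliser of the octad involution and the monomial subgroup generate `Co1`. -/
theorem C1_sup_N2 : C1 ⊔ N2 = ⊤ := Cover.C1_sup_N2

end CfsgLib.Recog.CoOneInv
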