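import Mathlib.Data.Int.Notation

/-! A basis of the lattice and the dual basis. -/

set_option autoImplicit false

namespace CfsgLib.Recog.CoOneInv

/-- A basis of the lattice. -/
def basL : List (List ℤ) := [
  [1,1,1,1,1,1,1,1,1,1,1,1,1,1,1,1,1,1,1,1,1,1,1,-3],
  [2,0,0,0,0,0,0,0,0,0,0,0,2,0,2,0,2,2,2,0,0,0,2,2],
  [-1,1,-1,-1,-1,-1,-1,-1,-1,-1,-1,-1,1,1,1,1,1,-1,-1,1,-1,-1,1,3],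
  [-2,0,2,0,0,0,0,0,0,0,0,0,0,2,-2,2,-2,-2,0,0,2,0,0,0],
  [0,-2,0,2,0,0,0,0,0,0,0,0,0,0,-2,-2,-2,2,2,0,0,2,0,0],
  [0,0,0,0,2,0,0,0,0,0,0,0,2,2,0,0,2,2,0,2,2,0,0,2],
  [0,0,-2,0,0,2,0,0,0,0,0,0,-2,0,2,-2,0,2,0,0,0,2,-2,0],
  [-2,0,0,0,0,0,2,0,0,0,0,0,-2,0,0,2,-2,-2,0,2,0,2,0,0],
  [-1,-1,-1,-1,-1,-1,-1,1,-1,-1,-1,-1,1,-1,1,1,-1,1,1,1,1,-1,-1,3],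
  [2,0,0,0,-2,0,-2,0,2,0,0,0,0,0,0,0,2,0,2,-2,0,0,0,-2],
  [-1,-1,-1,-1,-1,-1,-1,-1,-1,1,-1,-1,-1,-1,1,-1,1,1,-1,1,1,1,1,3],
  [-2,0,0,0,0,0,0,0,0,0,2,0,0,0,0,2,0,-2,-2,0,2,2,-2,0],
  [3,1,1,1,1,1,1,1,1,1,1,1,-1,1,-1,1,-1,-1,-1,1,1,1,-1,-1],
  [-1,3,1,-1,1,1,1,1,1,1,1,1,-1,-3,1,-1,1,1,1,-3,1,-1,-1,-1],
  [-2,0,2,0,0,0,0,0,0,0,0,0,0,-2,2,-2,2,2,0,0,-2,0,0,0],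
  [2,0,-2,0,2,0,0,0,0,0,0,0,-2,-4,-2,-2,0,0,0,-2,0,0,0,2],
  [0,0,0,-2,2,0,0,0,0,0,0,0,0,0,0,0,-2,0,2,0,-2,2,2,-2],
  [0,0,-2,-2,2,2,-2,2,0,0,2,0,2,-4,0,0,0,0,-2,0,-2,0,-2,-2],
  [0,-2,0,2,0,2,0,2,0,0,0,0,2,2,2,0,-2,2,2,-2,0,0,0,-2],
  [0,0,0,0,0,0,0,0,0,0,0,0,0,0,0,0,0,0,0,4,-4,0,-4,4],
  [-1,5,-1,-1,1,1,1,1,-1,-9,-3,-1,-1,1,-3,-1,1,1,1,3,3,1,-1,-1],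
  [0,2,0,-2,2,0,0,0,0,0,0,0,-2,-2,-2,-2,0,0,-2,2,-2,2,0,-2],
  [0,0,0,0,0,0,0,0,0,0,0,0,0,0,0,0,0,0,0,0,0,0,4,4],
  [-1,1,1,1,1,1,1,1,1,1,1,1,-1,1,-1,1,-1,-1,-1,1,1,1,-1,3]]

/-- The dual basis. -/
def dualL : List (List ℤ) := [
  [-1,1,-1,3,1,-1,-5,3,-9,1,3,5,-5,1,-1,3,3,1,3,1,-1,-1,1,-1],
  [1,-1,1,-3,-3,3,3,-5,-5,-1,-7,9,-3,-1,-9,21,3,19,-7,-9,-7,5,-1,1],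
  [0,4,0,4,2,0,-2,-6,6,0,-2,-6,2,-2,2,2,-4,2,-2,0,0,0,0,0],
  [0,0,2,0,0,4,-2,-4,-6,0,0,0,-6,0,-6,14,2,12,-2,-4,-4,0,0,0],
  [0,2,0,2,0,0,0,-4,6,0,0,-4,4,-2,2,-4,-4,-2,0,2,2,0,0,0],
  [0,0,0,0,2,0,2,-2,8,0,2,-10,2,0,2,-4,-2,-2,0,2,2,-2,0,0],
  [0,0,0,0,0,2,-2,-6,-2,-2,0,4,-6,0,-4,14,0,14,-4,-4,-4,0,0,0],
  [0,0,0,0,0,2,4,-4,8,0,-2,-8,2,-2,0,2,-2,2,-2,0,0,0,0,0],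
  [0,0,0,0,0,-2,-2,-2,-2,-2,0,4,-6,0,-4,14,0,14,-4,-4,-4,0,0,0],
  [0,0,0,0,0,0,0,0,4,0,0,-4,0,0,0,0,0,0,0,0,0,0,0,0],
  [0,0,0,0,0,0,0,8,0,4,0,-4,8,0,8,-24,0,-24,8,8,8,0,0,0],
  [0,0,0,0,0,-2,0,4,-4,0,6,-4,-2,2,0,-2,2,-2,2,0,0,0,0,0],
  [2,2,2,2,2,0,0,-2,10,0,2,-12,6,-2,8,-14,-6,-12,2,6,6,-2,0,0],
  [0,2,0,0,0,0,2,2,4,2,4,-10,4,0,4,-12,-2,-10,4,4,4,-2,0,0],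
  [0,0,2,2,2,0,-2,-4,4,-2,-2,0,0,-2,2,2,-2,2,-2,0,0,0,0,0],
  [0,0,0,2,2,0,-2,0,-4,0,0,0,-4,0,-2,6,2,4,0,-2,-2,0,0,0],
  [0,0,0,0,2,-2,-2,2,2,0,0,2,4,0,6,-12,-2,-12,4,4,4,0,0,0],
  [0,0,0,0,0,2,0,-2,4,0,-2,0,4,-2,2,-4,-2,-4,0,2,2,0,0,0],
  [0,0,0,0,0,0,2,6,-2,2,2,-8,0,2,0,-4,2,-4,2,0,0,0,0,0],
  [0,0,0,0,0,0,0,6,-4,2,6,-6,0,2,2,-10,2,-10,6,4,2,-2,0,0],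
  [0,0,0,0,0,0,0,2,0,0,0,0,2,0,2,-6,0,-6,2,2,2,0,0,0],
  [0,0,0,-2,-2,0,2,0,-6,0,0,0,-8,2,-10,20,4,20,-6,-8,-8,2,0,0],
  [0,0,0,0,0,0,0,4,0,0,10,-10,-2,2,2,-8,0,-6,4,4,2,-4,2,0],
  [-1,-1,-1,-1,-1,-1,-1,-1,-1,-1,-11,19,1,-1,-3,9,1,7,-5,-5,-3,5,-1,1]]

end CfsgLib.Recog.CoOneInv
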