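import Cfsg.Agent.Lib.Golay.E8Co1
import Cfsg.Agent.Lib.Trans3.ConwayM24.Code

/-!
The monomial subgroup of the first Conway group, and the shape of a coordinate isomorphism of the
local subgroup of a group of Conway type onto it.
-/

set_option autoImplicit false
set_option maxRecDepth 20000
set_option synthInstance.maxSize 2000

namespace CfsgLib.Recog.CoOneInv

open Cfsg CfsgLib.Golay CfsgLib.Golay.E8Cent
open CfsgLib.Trans3.ExtraTwo CfsgLib.Trans3.ConwayM24 CfsgLib.ClassK.Conway

/-- The monomial subgroup `2^11 : M24` of the first Conway group. -/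
noncomputable def N2 : Subgroup Spor.Co1 := N0.map pr

open _root_.Classical in
/-- The sign change of a word, trivial off the code. -/
noncomputable def sgnW (w : CfsgLib.Mathieu.Wd) : Spor.Co1 :=
  if h : Cfsg.support₂ w ∈ supports (golayCode : Set (GolayPt → ZMod 2)) then
    pr (sign0 (Cfsg.support₂ w) h)
  else 1

/-- An isomorphism of the local subgroup onto the monomial group sending the group of order `2^11` to the sign
changes through a permutation `σ` in `M24`, and `z` to the octad involution. -/
structure IsLocalIso {G : Type*} [Group G] [Finite G] {z : G} {Q : Subgroup G} {e : ↥Q ≃* ES 4 (ff 4)} {ρ : G}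
    (S : Std z e ρ) (φ : ↥(NA S) ≃* ↥N2) (σ : ↥Cfsg.M24) : Prop where
  a_map : ∀ (n : ↥(NA S)) (v : Av), (n : G) = iota S v →
    ((φ n : ↥N2) : Spor.Co1) = sgnW (CfsgLib.Mathieu.act (σ : Equiv.Perm GolayPt) (psi v))
  z_map : ∀ n : ↥(NA S), (n : G) = z → ((φ n : ↥N2) : Spor.Co1) = z1

end CfsgLib.Recog.CoOneInv
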