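import Cfsg.Agent.Lib.Recog.CoOneInv.CoverBasis
import Cfsg.Agent.Lib.Golay.E8Co1
import Cfsg.Agent.Lib.Golay.MatrixElement
import Cfsg.Agent.Lib.Recog.CoOneInv.Defs

/-!
The action of `Co1` on the classes of the lattice modulo two, written on numbers below `2 ^ 24`.
-/

set_option autoImplicit false
set_option maxRecDepth 100000

namespace CfsgLib.Recog.CoOneInv

open Cfsg CfsgLib.Golay
open scoped Pointwise

attribute [local irreducible] permOf mset monoCo0

/-- A list of coordinates as a function. -/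
def ofList (L : List ℤ) : GolayPt → ℤ := fun p => L.getD (idx p) 0

/-- A basis vector. -/
def bf (j : Fin 24) : GolayPt → ℤ := ofList (basL.getD j.val [])

/-- A dual basis vector. -/
def df (j : Fin 24) : GolayPt → ℤ := ofList (dualL.getD j.val [])

theorem bases_ok : (∀ j : Fin 24, inLat (bf j) = true ∧ inLat (df j) = true) ∧
    (∀ p q : GolayPt, ((List.finRange 24).map fun j => df j p * bf j q).sum = if p = q then 8 else 0) := by
  decide +kernel

/-- A dual basis vector as an element of the lattice. -/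
def dv (j : Fin 24) : leechLattice := ⟨df j, inLat_mem (bases_ok.1 j).2⟩

/-- The class of a coordinate vector. -/
def kz (x : GolayPt → ℤ) (j : Fin 24) : ℤ := dotInt x (bf j) / 8

theorem bf_dvd (x : leechLattice) (j : Fin 24) : (8 : ℤ) ∣ dotInt (x : GolayPt → ℤ) (bf j) :=
  leech_dot_dvd x.2 (inLat_mem (bases_ok.1 j).1)

theorem kz_mul (x : leechLattice) (j : Fin 24) :
    8 * kz (x : GolayPt → ℤ) j = dotInt (x : GolayPt → ℤ) (bf j) :=
  Int.mul_ediv_cancel' (bf_dvd x j)

theorem kz_add (x y : leechLattice) (j : Fin 24) :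
    kz ((x + y : leechLattice) : GolayPt → ℤ) j = kz (x : GolayPt → ℤ) j + kz (y : GolayPt → ℤ) j := by
  have h1 := kz_mul (x + y) j
  have h2 := kz_mul x j
  have h3 := kz_mul y j
  rw [AddSubgroup.coe_add, CfsgLib.Golay.dotInt_add_left] at h1
  rw [AddSubgroup.coe_add]
  omega

theorem expand (x : leechLattice) : x = ∑ j, kz (x : GolayPt → ℤ) j • dv j := by
  refine Subtype.ext (funext fun p => ?_)
  have h : ∀ q, (∑ j : Fin 24, df j p * bf j q) = if p = q then (8 : ℤ) else 0 := fun q => by
    rw [← bases_ok.2 p q, Fin.sum_univ_def]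
  have e : 8 * (∑ j : Fin 24, kz (x : GolayPt → ℤ) j * df j p) = 8 * (x : GolayPt → ℤ) p := by
    rw [Finset.mul_sum]
    calc ∑ j : Fin 24, 8 * (kz (x : GolayPt → ℤ) j * df j p)
        = ∑ j : Fin 24, ∑ q, (x : GolayPt → ℤ) q * (df j p * bf j q) := by
          refine Finset.sum_congr rfl fun j _ => ?_
          rw [← mul_assoc, kz_mul, dotInt, Finset.sum_mul]
          exact Finset.sum_congr rfl fun q _ => by ring
      _ = ∑ q, (x : GolayPt → ℤ) q * ∑ j : Fin 24, df j p * bf j q := by
          rw [Finset.sum_comm]; simp only [Finset.mul_sum]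
      _ = 8 * (x : GolayPt → ℤ) p := by
          simp only [h, mul_ite, mul_zero, Finset.sum_ite_eq, Finset.mem_univ, if_true]; ring
  have e' := mul_left_cancel₀ (by norm_num : (8 : ℤ) ≠ 0) e
  rw [AddSubgroup.val_finsetSum, Finset.sum_apply]
  simp only [AddSubgroupClass.coe_zsmul, Pi.smul_apply, smul_eq_mul, dv]
  exact e'.symm

/-- The class of a coordinate vector as a number. -/
def keyF (x : GolayPt → ℤ) : ℕ := Nat.ofBits fun j : Fin 24 => decide (kz x j % 2 = 1)

/-- The class of a lattice vector as a number. -/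
def key (x : leechLattice) : ℕ := keyF (x : GolayPt → ℤ)

theorem key_lt (x : leechLattice) : key x < 16777216 :=
  Nat.lt_of_lt_of_eq (Nat.ofBits_lt_two_pow _) (by norm_num)

/-- A bit as a residue. -/
def bz (v : ℕ) (i : ℕ) : ZMod 2 := if v.testBit i then 1 else 0

theorem bz_key (x : leechLattice) (i : Fin 24) :
    bz (key x) i = (kz (x : GolayPt → ℤ) i : ZMod 2) := by
  rw [bz, key, keyF, Nat.testBit_ofBits_lt _ _ i.2]
  rcases Int.emod_two_eq_zero_or_one (kz (x : GolayPt → ℤ) i) with h | h
  · rw [← ZMod.intCast_mod (kz (x : GolayPt → ℤ) i)]; simp [h]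
  · rw [← ZMod.intCast_mod (kz (x : GolayPt → ℤ) i)]; simp [h]

theorem key_eq_iff {x y : leechLattice} :
    key x = key y ↔ leechR.cls x = leechR.cls y := by
  constructor
  · intro h
    have hj : ∀ j, (2 : ℤ) ∣ kz (x : GolayPt → ℤ) j - kz (y : GolayPt → ℤ) j := fun j => by
      have e := congrArg (fun v => bz v j) h
      simp only [bz_key] at e
      have := (ZMod.intCast_eq_intCast_iff' _ _ 2).1 e
      omega
    choose c hc using hj
    rw [exists_two_smul_iff]
    refine ⟨((∑ j, c j • dv j : leechLattice) : GolayPt → ℤ), SetLike.coe_mem _, ?_⟩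
    rw [← AddSubgroup.coe_sub, ← AddSubgroup.coe_nsmul]
    refine congrArg Subtype.val ?_
    conv_lhs => rw [expand x, expand y]
    rw [← Finset.sum_sub_distrib, Finset.smul_sum]
    refine Finset.sum_congr rfl fun j _ => ?_
    rw [← sub_smul, hc j, mul_smul, two_zsmul, two_nsmul]
  · intro h
    obtain ⟨z, rfl⟩ := leechR.cls_eq_iff.1 h
    refine Nat.eq_of_testBit_eq fun i => ?_
    by_cases hi : i < 24
    · simp only [key, keyF]
      rw [Nat.testBit_ofBits_lt _ _ hi, Nat.testBit_ofBits_lt _ _ hi, decide_eq_decide, kz_add, kz_add]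
      omega
    · simp only [key, keyF]
      rw [Nat.testBit_ofBits_ge _ _ (by omega), Nat.testBit_ofBits_ge _ _ (by omega)]

/-- A packed row. -/
def rowAt (R i : ℕ) : ℕ := Nat.land (Nat.shiftRight R (Nat.mul 24 i)) 16777215

/-- The contribution of one bit. -/
def term (R v i : ℕ) : ℕ := Nat.mul (rowAt R i) (Nat.land (Nat.shiftRight v i) 1)

/-- The first terms. -/
def appAux (R v : ℕ) : ℕ → ℕ
  | 0 => 0
  | n + 1 => Nat.xor (term R v n) (appAux R v n)

/-- A packed matrix applied to a vector. -/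
def app (R v : ℕ) : ℕ :=
  Nat.xor (term R v 23) (Nat.xor (term R v 22) (Nat.xor (term R v 21) (Nat.xor (term R v 20)
  (Nat.xor (term R v 19) (Nat.xor (term R v 18) (Nat.xor (term R v 17) (Nat.xor (term R v 16)
  (Nat.xor (term R v 15) (Nat.xor (term R v 14) (Nat.xor (term R v 13) (Nat.xor (term R v 12)
  (Nat.xor (term R v 11) (Nat.xor (term R v 10) (Nat.xor (term R v 9) (Nat.xor (term R v 8)
  (Nat.xor (term R v 7) (Nat.xor (term R v 6) (Nat.xor (term R v 5) (Nat.xor (term R v 4)
  (Nat.xor (term R v 3) (Nat.xor (term R v 2) (Nat.xor (term R v 1) (Nat.xor (term R v 0) 0)))))))))))))))))))))))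

theorem app_eq (R v : ℕ) : app R v = appAux R v 24 := rfl

theorem term_eq (R v i : ℕ) : term R v i = if v.testBit i then rowAt R i else 0 := by
  show rowAt R i * ((v >>> i) &&& 1) = _
  rw [Nat.and_one_is_mod, Nat.shiftRight_eq_div_pow, ← Nat.toNat_testBit]
  cases v.testBit i <;> simp

theorem bz_xor (a b i : ℕ) : bz (Nat.xor a b) i = bz a i + bz b i := by
  show bz (a ^^^ b) i = _
  simp only [bz, Nat.testBit_xor]
  cases a.testBit i <;> cases b.testBit i <;> decide

theorem bz_appAux (R v i : ℕ) : ∀ n,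
    bz (appAux R v n) i = ∑ j ∈ Finset.range n, bz v j * bz (rowAt R j) i
  | 0 => by simp [appAux, bz]
  | n + 1 => by
    rw [appAux, bz_xor, bz_appAux R v i n, Finset.sum_range_succ, add_comm, term_eq]
    congr 1
    cases h : v.testBit n <;> simp [bz, h]

theorem bz_app (R v i : ℕ) : bz (app R v) i = ∑ j : Fin 24, bz v j * bz (rowAt R j) i := by
  rw [app_eq, bz_appAux, Fin.sum_univ_eq_sum_range (fun j => bz v j * bz (rowAt R j) i) 24]

theorem rowAt_lt (R i : ℕ) : rowAt R i < 16777216 := by
  show (R >>> (24 * i)) &&& 16777215 < 16777216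
  exact lt_of_le_of_lt Nat.and_le_right (by norm_num)

theorem app_lt (R v : ℕ) : app R v < 16777216 := by
  have : ∀ n, appAux R v n < 2 ^ 24 := by
    intro n
    induction n with
    | zero => norm_num [appAux]
    | succ n ih =>
      refine Nat.xor_lt_two_pow ?_ ih
      rw [term_eq]
      split_ifs
      · exact Nat.lt_of_lt_of_eq (rowAt_lt R n) (by norm_num)
      · norm_num
  rw [app_eq]
  exact Nat.lt_of_lt_of_eq (this 24) (by norm_num)

theorem eq_of_bz {a b : ℕ} (ha : a < 16777216) (hb : b < 16777216)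
    (h : ∀ i : Fin 24, bz a i = bz b i) : a = b := by
  refine Nat.eq_of_testBit_eq fun i => ?_
  by_cases hi : i < 24
  · have := h ⟨i, hi⟩
    simp only [bz] at this
    cases e1 : a.testBit i <;> cases e2 : b.testBit i <;> simp [e1, e2] at this ⊢
  · have e : 16777216 ≤ 2 ^ i := le_trans (by norm_num) (Nat.pow_le_pow_right (by norm_num) (show 24 ≤ i by omega))
    rw [Nat.testBit_lt_two_pow (lt_of_lt_of_le ha e), Nat.testBit_lt_two_pow (lt_of_lt_of_le hb e)]

/-- The rows `R` describe the element `g`. -/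
def IsRows (g : Co0) (R : ℕ) : Prop := ∀ j : Fin 24, rowAt R j = key (g • dv j)

theorem app_key {g : Co0} {R : ℕ} (h : IsRows g R) (x : leechLattice) :
    app R (key x) = key (g • x) := by
  refine eq_of_bz (app_lt _ _) (key_lt _) fun i => ?_
  rw [bz_app, bz_key]
  let F : leechLattice →+ ZMod 2 := AddMonoidHom.mk'
    (fun w => ((kz ((g • w : leechLattice) : GolayPt → ℤ) i : ℤ) : ZMod 2))
    (fun a b => by rw [co0_add, kz_add, Int.cast_add])
  show _ = F x
  conv_rhs => rw [expand x]
  rw [map_sum]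
  refine Finset.sum_congr rfl fun j _ => ?_
  rw [map_zsmul, h j, bz_key, bz_key, zsmul_eq_mul]
  rfl

theorem exists_key {v : ℕ} (hv : v < 16777216) : ∃ x : leechLattice, key x = v := by
  have hk : ∀ j i : Fin 24, kz (df j) i = if j = i then 1 else 0 := by decide +kernel
  refine ⟨∑ j : Fin 24, (bz v j).val • dv j, eq_of_bz (key_lt _) hv fun i => ?_⟩
  rw [bz_key]
  let F : leechLattice →+ ZMod 2 := AddMonoidHom.mk'
    (fun w => ((kz (w : GolayPt → ℤ) i : ℤ) : ZMod 2))
    (fun a b => by rw [kz_add, Int.cast_add])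
  show F _ = _
  rw [map_sum]
  simp only [map_nsmul, F, AddMonoidHom.mk'_apply, dv, hk, nsmul_eq_mul, ZMod.natCast_val,
    ZMod.cast_id', id_eq]
  simp

/-- Rows packed into one number. -/
def packR : List ℕ → ℕ
  | [] => 0
  | a :: l => Nat.add a (Nat.mul 16777216 (packR l))

theorem rowAt_packR : ∀ (l : List ℕ) (i : ℕ), (∀ a ∈ l, a < 16777216) →
    rowAt (packR l) i = l.getD i 0
  | [], i, _ => by simp [rowAt, packR]
  | a :: l, i, h => by
    have ha : a < 16777216 := h a List.mem_cons_self
    show ((a + 16777216 * packR l) >>> (24 * i)) &&& 16777215 = _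
    rw [show (16777215 : ℕ) = 2 ^ 24 - 1 by norm_num, Nat.and_two_pow_sub_one_eq_mod, Nat.shiftRight_eq_div_pow]
    cases i with
    | zero => simp [Nat.add_mul_mod_self_left, Nat.mod_eq_of_lt ha]
    | succ i =>
      rw [Nat.mul_succ, pow_add, show (2 : ℕ) ^ 24 = 16777216 by norm_num, mul_comm (2 ^ (24 * i)),
        ← Nat.div_div_eq_div_mul, Nat.add_mul_div_left _ _ (by norm_num), Nat.div_eq_of_lt ha,
        Nat.zero_add, List.getD_cons_succ]
      have e := rowAt_packR l i fun b hb => h b (List.mem_cons_of_mem _ hb)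
      rw [← e]
      show _ = ((packR l) >>> (24 * i)) &&& 16777215
      rw [show (16777215 : ℕ) = 2 ^ 24 - 1 by norm_num, Nat.and_two_pow_sub_one_eq_mod, Nat.shiftRight_eq_div_pow,
        show (2 : ℕ) ^ 24 = 16777216 by norm_num]

/-- The product of packed matrices. -/
def mulR (A B : ℕ) : ℕ := packR ((List.range 24).map fun j => app A (rowAt B j))

theorem isRows_mulR {g h : Co0} {A B : ℕ} (hA : IsRows g A) (hB : IsRows h B) :
    IsRows (g * h) (mulR A B) := fun j => by
  rw [mulR, rowAt_packR _ _ (fun a ha => by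
    obtain ⟨k, -, rfl⟩ := List.mem_map.1 ha; exact app_lt _ _), mul_smul, ← app_key hA, ← hB j]
  simp

theorem key_neg (x : leechLattice) : key (-x) = key x :=
  key_eq_iff.2 (leechR.cls_eq_iff.2 ⟨-x, by abel⟩)

theorem key_pr {g h : Co0} (e : E8Cent.pr g = E8Cent.pr h) (x : leechLattice) :
    key (g • x) = key (h • x) := by
  rcases E8Cent.pr_eq e with rfl | rfl
  · rfl
  · rw [mul_smul, negCo0_smul, key_neg]

/-- The matrix of an element of `Co1`. -/
noncomputable def rowsC (q : Spor.Co1) : ℕ :=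
  packR ((List.finRange 24).map fun j => key (Quotient.out q • dv j))

/-- The action of `Co1` on classes. -/
noncomputable def act (q : Spor.Co1) (v : ℕ) : ℕ := app (rowsC q) v

theorem pr_out (q : Spor.Co1) : E8Cent.pr (Quotient.out q) = q := Quotient.out_eq q

theorem isRows_out (q : Spor.Co1) : IsRows (Quotient.out q) (rowsC q) := fun j => by
  rw [rowsC, rowAt_packR _ _ (fun a ha => by
    obtain ⟨k, -, rfl⟩ := List.mem_map.1 ha; exact key_lt _)]
  simp

theorem act_pr (g : Co0) (x : leechLattice) : act (E8Cent.pr g) (key x) = key (g • x) := by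
  rw [act, app_key (isRows_out _)]
  exact key_pr (pr_out _) x

theorem act_lt (q : Spor.Co1) (v : ℕ) : act q v < 16777216 := app_lt _ _

theorem act_mul (p q : Spor.Co1) {v : ℕ} (hv : v < 16777216) :
    act (p * q) v = act p (act q v) := by
  obtain ⟨x, rfl⟩ := exists_key hv
  rw [← pr_out p, ← pr_out q, ← map_mul, act_pr, act_pr, act_pr, mul_smul]

theorem act_one {v : ℕ} (hv : v < 16777216) : act 1 v = v := by
  obtain ⟨x, rfl⟩ := exists_key hv
  rw [← map_one E8Cent.pr, act_pr, one_smul]

theorem act_inv_act (p : Spor.Co1) {v : ℕ} (hv : v < 16777216) : act p⁻¹ (act p v) = v := by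
  rw [← act_mul _ _ hv, inv_mul_cancel, act_one hv]

theorem act_inj (p : Spor.Co1) {v w : ℕ} (hv : v < 16777216) (hw : w < 16777216)
    (h : act p v = act p w) : v = w := by
  rw [← act_inv_act p hv, h, act_inv_act p hw]

/-- Classes separate the elements of `Co1`. -/
theorem act_ext {p q : Spor.Co1} (h : ∀ v < 16777216, act p v = act q v) : p = q := by
  obtain ⟨a, rfl⟩ : ∃ a, E8Cent.pr a = p := ⟨_, pr_out p⟩
  obtain ⟨b, rfl⟩ : ∃ b, E8Cent.pr b = q := ⟨_, pr_out q⟩
  have hd : ∀ x, leechR.q x = 8 → b⁻¹ * a ∈ classStab x := fun x _ => by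
    have e := h _ (key_lt x)
    rw [act_pr, act_pr] at e
    rw [mem_classStab, mul_smul, ← key_eq_iff, ← act_pr, e, ← act_pr, ← act_mul _ _ (key_lt x), ← map_mul,
      inv_mul_cancel, map_one, act_one (key_lt x)]
  rcases scalar_of_all_fixed hd with e | e
  · rw [inv_mul_eq_one.1 e]
  · rw [show a = b * negCo0 by rw [← e, mul_inv_cancel_left], map_mul, ← mul_one negCo0, E8Cent.pr_neg,
      map_one, mul_one]

/-- The packed matrix `R` describes the element `q`. -/
def RowsOf (q : Spor.Co1) (R : ℕ) : Prop := ∀ v < 16777216, app R v = act q v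

theorem rowsOf_pr {g : Co0} {R : ℕ} (h : IsRows g R) : RowsOf (E8Cent.pr g) R := fun v hv => by
  obtain ⟨x, rfl⟩ := exists_key hv
  rw [app_key h, act_pr]

theorem RowsOf.mul {p q : Spor.Co1} {A B : ℕ} (hA : RowsOf p A) (hB : RowsOf q B) :
    RowsOf (p * q) (mulR A B) := fun v hv => by
  have hj : IsRows (Quotient.out p * Quotient.out q) (mulR A B) := fun j => by
    rw [mulR, rowAt_packR _ _ (fun a ha => by
      obtain ⟨k, -, rfl⟩ := List.mem_map.1 ha; exact app_lt _ _)]
    have hk : rowAt B j = key (Quotient.out q • dv j) := by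
      have e : ∀ i : Fin 24, bz (key (dv j)) i = if j = i then 1 else 0 := by
        intro i
        rw [bz_key]
        have : ∀ j i : Fin 24, kz (df j) i = if j = i then 1 else 0 := by decide +kernel
        show ((kz (df j) i : ℤ) : ZMod 2) = _
        rw [this]; split_ifs <;> simp
      refine (eq_of_bz (rowAt_lt _ _) (app_lt _ _) fun i => ?_).trans
        ((hB _ (key_lt (dv j))).trans (by rw [← act_pr, pr_out]))
      rw [bz_app]
      simp only [e, ite_mul, one_mul, zero_mul, Finset.sum_ite_eq, Finset.mem_univ, if_true]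
    simp only [List.getD_eq_getElem, List.length_map, List.length_range, List.getElem_map,
      List.getElem_range, j.2]
    rw [hk, hA _ (key_lt _), mul_smul, ← act_pr (Quotient.out p), pr_out]
  rw [rowsOf_pr hj v hv, map_mul, pr_out, pr_out]

theorem RowsOf.unique {p q : Spor.Co1} {R : ℕ} (hp : RowsOf p R) (hq : RowsOf q R) : p = q :=
  act_ext fun v hv => (hp v hv).symm.trans (hq v hv)

/-- The standard class. -/
def C0 : ℕ := keyF (Pi.single pinf 8)

theorem C0_eq : C0 = key (vec8 pinf) := rfl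

theorem C0_lt : C0 < 16777216 := by rw [C0_eq]; exact key_lt _

theorem act_C0_iff (q : Spor.Co1) : act q C0 = C0 ↔ q ∈ N2 := by
  rw [C0_eq]
  constructor
  · intro h
    refine ⟨Quotient.out q, ?_, pr_out q⟩
    rw [SetLike.mem_coe, mem_classStab, ← key_eq_iff, ← act_pr, pr_out, h]
  · rintro ⟨g, hg, rfl⟩
    rw [act_pr, key_eq_iff]
    exact hg

end CfsgLib.Recog.CoOneInv
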