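import Cfsg.Agent.Lib.Recog.CoOneInv.CoverData
import Cfsg.Agent.Lib.Golay.E8Mats
import Cfsg.Agent.Lib.Golay.Gen

/-!
The checker of the derivations.
-/

set_option autoImplicit false
set_option maxRecDepth 100000

namespace CfsgLib.Recog.CoOneInv.Cover

open CfsgLib.Golay

/-- The other letter applied to the standard class. -/
def c1 : ℕ := app (rt nX) C0

/-- The matrices of the representatives. -/
def GR (i : ℕ) : ℕ :=
  bif Nat.beq i 1 then idR else (orbT.getD (i - 2) (0, 0, [], 0)).2.2.2

/-- The representatives. -/
def VV (i : ℕ) : ℕ := app (GR i) C0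

/-- The parent of a representative. -/
def par (i : ℕ) : ℕ := (orbT.getD (i - 2) (0, 0, [], 0)).1

/-- The step to a representative. -/
def parR (i : ℕ) : ℕ := (orbT.getD (i - 2) (0, 0, [], 0)).2.1

/-- The word of a step. -/
def parW (i : ℕ) : List ℕ := (orbT.getD (i - 2) (0, 0, [], 0)).2.2.1

/-- One representative. -/
def orbOK (i : ℕ) : Bool :=
  let A := wordR idR (parW i)
  Nat.blt (par i) i && (parW i).all (fun g => Nat.blt g nX) && Nat.beq (app A c1) (parR i) &&
    Nat.beq (GR i) (mulR (GR (par i)) (mulR A (rt nX))) && Nat.beq (app (GR i) c1) (VV (par i))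

/-- A letter known to fix the lift of a representative. -/
def okLet (S : St) (i g : ℕ) : Bool :=
  Nat.blt g nX && (Nat.beq i 1 || (Nat.beq i 2 && Nat.beq (app (rt g) c1) c1) ||
    S.fixes.any fun x => Nat.beq x.1 i && Nat.beq x.2 g)

/-- The fact with the given index, moved by a word. -/
def moved (S : St) (f : ℕ) (w : List ℕ) (M : ℕ) : Option Fact :=
  bif Nat.blt f S.facts.length then
    let F := S.facts.getD f ⟨0, 0, 0, 0⟩
    bif w.all (okLet S F.i) then some ⟨F.i, F.r, F.l, mulR (wordR M w) F.m⟩ else none
  else none

/-- Follow the steps of a walk around the representative `i`. -/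
def walk (S : St) (i : ℕ) : List Step → Fact → Option Fact
  | [], F => some F
  | s :: ss, F =>
    match moved S s.f s.word F.m with
    | none => none
    | some N =>
      bif Nat.beq N.i F.l && Nat.blt s.res nX && Nat.beq (app (GR i) s.r) (app N.m (VV N.l)) &&
          inTree adjLevel (app (rt s.res) F.r) && inTree adjLevel (app (rt s.res) s.r) &&
          Nat.blt F.r 16777216 && Nat.blt s.r 16777216 then
        walk S i ss ⟨i, s.r, N.l, N.m⟩
      else none

/-- Start a walk: the relative class is found from the steps. -/
def start (S : St) (i f : ℕ) (w : List ℕ) : Option Fact :=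
  match moved S f w idR with
  | none => none
  | some N => bif Nat.beq N.i i then
      (match w with
        | [] => some N
        | _ :: _ =>
          (match (List.range nbrLevel.n).find? (fun k =>
              Nat.beq (app (GR i) (rowAt nbrLevel.V k)) (app N.m (VV N.l))) with
            | none => none
            | some k => some ⟨N.i, rowAt nbrLevel.V k, N.l, N.m⟩))
    else none

/-- The letter `h` and the matrix `M` move the representative `p` alike. -/
def sameAt (S : St) (p h M : ℕ) : Option ℕ → Bool
  | none => Nat.beq p 2 && Nat.beq (app M c1) (app (rt h) c1)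
  | some g => okLet S p g && Nat.beq (mulR (rt h) (rt g)) M

/-- One derivation. -/
def stepOp (S : St) : Op → Option St
  | .defF p i =>
    bif Nat.beq (par i) p && Nat.ble 2 i && Nat.ble i 6 then
      some ⟨S.facts ++ [⟨p, parR i, i, idR⟩, ⟨i, c1, p, idR⟩], S.fixes⟩
    else none
  | .walkF i f w steps =>
    match start S i f w with
    | none => none
    | some F =>
      match walk S i steps F with
      | none => none
      | some N => some ⟨S.facts ++ [N], S.fixes⟩
  | .fixF i h f steps fl =>
    match start S i f [] with
    | none => none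
    | some F =>
      bif Nat.beq F.m idR && Nat.beq F.r c1 && Nat.beq F.l (par i) && Nat.blt h nX && Nat.ble 2 i &&
          Nat.beq (app (rt h) (VV i)) (VV i) then
        match walk S i steps F with
        | none => none
        | some N =>
          bif Nat.beq N.l (par i) && Nat.beq (app (GR i) N.r) (app (rt h) (VV (par i))) &&
            sameAt S (par i) h N.m fl then
            some ⟨S.facts, S.fixes ++ [(i, h)]⟩
          else none
      else none

/-- All derivations. -/
def runOps : List Op → St → Option St
  | [], S => some S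
  | o :: os, S =>
    match stepOp S o with
    | none => none
    | some S' => runOps os S'

/-- One entry of a cover. -/
def covEntryOK (S : St) (i : ℕ) (C : Cov) (k : ℕ) : Bool :=
  let e := rowAt C.P k
  bif Nat.beq (Nat.land e 255) 255 then
    let f := Nat.shiftRight e 8
    Nat.blt f S.facts.length && Nat.beq (S.facts.getD f ⟨0, 0, 0, 0⟩).i i &&
      Nat.beq (app (GR i) (S.facts.getD f ⟨0, 0, 0, 0⟩).r) (rowAt C.V k)
  else
    Nat.blt (Nat.shiftRight e 8) k && okLet S i (Nat.land e 255) &&
      Nat.beq (app (rt (Nat.land e 255)) (rowAt C.V (Nat.shiftRight e 8))) (rowAt C.V k)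

/-- A cover. -/
def covOK (S : St) (i : ℕ) : Bool :=
  let C := coverT.getD (i - 1) ⟨0, 0, 0, 0⟩
  (List.range C.n).all (covEntryOK S i C) &&
    (List.range nbrLevel.n).all fun j =>
      Nat.blt (rowAt C.pos j) C.n &&
        Nat.beq (rowAt C.V (rowAt C.pos j)) (app (GR i) (rowAt nbrLevel.V j))

/-- A chain of fixing letters for a representative. -/
def fixChainOK (S : St) (i : ℕ) : Bool :=
  chainOK nX (chains.getD i []) && (chainGens (chains.getD i [])).all (okLet S i)

/-- The final state. -/
def finalSt : Option St := runOps opsT ⟨[], []⟩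

/-- The checks on a state. -/
def stateOK : Option St → Bool
  | none => false
  | some S => (List.range' 1 6).all fun i => covOK S i && fixChainOK S i

/-- The checks on the final state. -/
def finalOK : Bool := stateOK finalSt

end CfsgLib.Recog.CoOneInv.Cover

namespace CfsgLib.Recog.CoOneInv.Cover

open CfsgLib.Golay

/-- Columns modulo sixteen agree with the bases. -/
def tablesOK : Bool :=
  (List.finRange 24).all fun j => (List.range 24).all fun p =>
    Nat.beq (rowAt (bcolT.getD p 0) j) ((bf j (pt p) % 16).toNat) &&
      Nat.beq (rowAt (dposT.getD j.val 0) p) ((df j (pt p) % 16).toNat) &&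
      Nat.beq (rowAt (dnegT.getD j.val 0) p) ((-df j (pt p) % 16).toNat)

/-- Two letters commute with the third. -/
def commZ (g : ℕ) : Bool := Nat.beq (mulR (rt g) (rt zLet)) (mulR (rt zLet) (rt g))

/-- The local facts at the standard class. -/
def localOK : Bool :=
  treeOK nX nbrLevel && Nat.beq nbrLevel.b c1 && treeOK (nX + 1) resLevel && Nat.beq resLevel.b C0 &&
  chainOK nX chainN && chainOK nX chainCN && chainOK nX chainS0 &&
  treeOK nX adjLevel && Nat.beq adjLevel.b c1 &&
  (chainGens chainCN).all commZ && adjLevel.gens.all commZ &&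
  resLevel.gens.all (fun g => Nat.beq g nX || (commZ g && Nat.beq (app (rt g) C0) C0)) &&
  Nat.beq (chainVal chainN) 501397585920 && Nat.beq (chainVal chainCN) 660602880 &&
  Nat.beq (chainVal chainS0) 9437184 && Nat.beq resLevel.n 135 && Nat.beq nbrLevel.n 3542 &&
  (chainGens chainS0).all (fun g => commZ g && Nat.beq (app (rt g) c1) c1) &&
  (List.range resLevel.n).all fun k =>
    inTree adjLevel (rowAt resLevel.V k) || !inTree nbrLevel (rowAt resLevel.V k)

/-- A conjugate of the involution. -/
def conjOK (a : ℕ) : Bool :=
  let e := conjT.getD a (0, 0, 0)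
  Nat.blt e.1 a && (memN e.2.1 (chainGens chainS0) || Nat.beq e.2.1 kLet) && Nat.blt e.2.2 nX &&
    Nat.beq (mulR (rt e.2.2) (rt e.2.1)) (mulR (rt e.2.1) (rt (conjT.getD e.1 (0, 0, 0)).2.2))

/-- The conjugates are distinct. -/
def conjNe : Bool :=
  (List.range conjT.length).all fun a => (List.range a).all fun b =>
    !Nat.beq (rt (conjT.getD a (0, 0, 0)).2.2) (rt (conjT.getD b (0, 0, 0)).2.2)

/-- The element moving the octad. -/
def kOK : Bool :=
  Nat.blt kLet nX && Nat.blt kInv nX && Nat.blt kZ nX && Nat.beq (app (rt kLet) c1) c1 &&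
    Nat.beq (mulR (rt kLet) (rt kInv)) idR &&
    Nat.beq (mulR (mulR (rt kLet) (rt zLet)) (rt kInv)) (rt kZ) &&
    commZ nX &&
    Nat.beq (mulR (mulR (mulR (rt kLet) (rt nX)) (rt kInv)) (rt zLet))
      (mulR (rt zLet) (mulR (mulR (rt kLet) (rt nX)) (rt kInv))) &&
    Nat.beq (mulR (rt nX) (rt nX)) idR

/-- All the local data. -/
def conjAllOK : Bool :=
  Nat.beq conjT.length 15 && Nat.beq (conjT.getD 0 (0, 0, 0)).2.2 zLet &&
    (List.range' 1 14).all conjOK && conjNe

end CfsgLib.Recog.CoOneInv.Cover
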