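import Cfsg.Agent.Lib.Recog.CoOneInv.CoverLetters
import Cfsg.Agent.Lib.Golay.E8Xi

/-!
The boolean checks of the certificate.
-/

set_option autoImplicit false
set_option maxRecDepth 100000

namespace CfsgLib.Recog.CoOneInv.Cover

open CfsgLib.Golay

/-- The matrix of a letter. -/
def rt (k : ℕ) : ℕ := rowT.getD k 0

/-- Membership in a list of numbers. -/
def memN (k : ℕ) : List ℕ → Bool
  | [] => false
  | a :: l => Nat.beq a k || memN k l

/-- The weighted sum of columns for one monomial letter and one dual vector. -/
def monoAcc (code mask j : ℕ) : ℕ :=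
  (List.range 24).foldr (fun p acc => Nat.add (Nat.mul
    (rowAt (bif mask.testBit (img code p) then dnegT.getD j 0 else dposT.getD j 0) p)
    (bcolT.getD (img code p) 0)) acc) 0

/-- A row of a monomial letter. -/
def monoRowOK (code mask R j : ℕ) : Bool :=
  (List.range 24).all fun i => Nat.beq (Nat.mod (rowAt (monoAcc code mask j) i) 16)
    (bif (rowAt R j).testBit i then 8 else 0)

/-- A monomial letter. -/
def letterOK (k : ℕ) : Bool :=
  let p := letT.getD k (0, 0)
  inM24 p.1 && isCode p.2 && (List.range 24).all (monoRowOK p.1 p.2 (rt k))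

/-- All monomial letters. -/
def lettersOK (lo n : ℕ) : Bool := (List.range' lo n).all letterOK

/-- An orbit tree with a permutation sorting the points. -/
structure Level where
  b : ℕ
  gens : List ℕ
  n : ℕ
  V : ℕ
  P : ℕ
  S : ℕ

/-- An orbit tree whose letters are below `m`. -/
def treeOK (m : ℕ) (L : Level) : Bool :=
  L.gens.all (fun g => Nat.blt g m) && Nat.blt 0 L.n && Nat.beq (rowAt L.V 0) L.b &&
  ((List.range' 1 (L.n - 1)).all fun k =>
    let e := rowAt L.P k
    Nat.blt (Nat.shiftRight e 8) k && memN (Nat.land e 255) L.gens &&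
      Nat.beq (app (rt (Nat.land e 255)) (rowAt L.V (Nat.shiftRight e 8))) (rowAt L.V k)) &&
  ((List.range L.n).all fun k => Nat.blt (rowAt L.S k) L.n) &&
  (List.range (L.n - 1)).all fun k =>
    Nat.blt (rowAt L.V (rowAt L.S k)) (rowAt L.V (rowAt L.S (k + 1)))

/-- A chain of orbit trees. -/
def chainOK (m : ℕ) : List Level → Bool
  | [] => true
  | [L] => treeOK m L
  | L :: L' :: Ls => treeOK m L &&
      L'.gens.all (fun g => memN g L.gens && Nat.beq (app (rt g) L.b) L.b) && chainOK m (L' :: Ls)

/-- The product of the orbit lengths. -/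
def chainVal : List Level → ℕ
  | [] => 1
  | L :: Ls => L.n * chainVal Ls

/-- The top generators. -/
def chainGens : List Level → List ℕ
  | [] => []
  | L :: _ => L.gens

/-- Membership in the points of a tree. -/
def inTree (L : Level) (v : ℕ) : Bool := (List.range L.n).any fun k => Nat.beq (rowAt L.V k) v

/-- A step of a walk: a fact, a word moving it, the residue and the next class. -/
structure Step where
  f : ℕ
  word : List ℕ
  res : ℕ
  r : ℕ

/-- A derivation. -/
inductive Op
  | defF (p i : ℕ)
  | walkF (i f : ℕ) (word : List ℕ) (steps : List Step)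
  | fixF (i h f : ℕ) (steps : List Step) (fl : Option ℕ)

/-- A cover of the neighbourhood of an orbit representative. -/
structure Cov where
  n : ℕ
  V : ℕ
  P : ℕ
  pos : ℕ

/-- A known edge: from the representative `i`, relative class `r`, to `m` times the
representative `l`. -/
structure Fact where
  i : ℕ
  r : ℕ
  l : ℕ
  m : ℕ

/-- The facts and the fixing letters found so far. -/
structure St where
  facts : List Fact
  fixes : List (ℕ × ℕ)

/-- The matrix of the identity. -/
def idR : ℕ := packR ((List.range 24).map fun j => Nat.shiftLeft 1 j)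

/-- A word of matrices. -/
def wordR (M : ℕ) : List ℕ → ℕ
  | [] => M
  | g :: w => wordR (mulR M (rt g)) w

end CfsgLib.Recog.CoOneInv.Cover
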