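import Cfsg.Agent.Lib.Recog.CoOneInv.CoverCheck

/-! Kernel checks of the derivations. -/

set_option autoImplicit false
set_option maxRecDepth 100000
set_option maxHeartbeats 0

namespace CfsgLib.Recog.CoOneInv.Cover

theorem local_ok : localOK = true := by decide +kernel

theorem orb_ok : (List.range 5).all (fun i => orbOK (i + 2)) = true := by decide +kernel

theorem final_ok : finalOK = true := by decide +kernel

theorem chain_vals : ([2, 3, 4, 5, 6].map fun i => chainVal (chains.getD i [])) =
    [141557760, 344064, 10321920, 120960, 190080] := by decide +kernel

end CfsgLib.Recog.CoOneInv.Cover
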