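import Cfsg.Agent.Lib.Recog.CoOneInv.CoverSem
import Cfsg.Agent.Lib.Recog.CoOneInv.CoverOkCert
import Cfsg.Agent.Lib.Golay.StdCrossMax

/-!
The cosets of the monomial part in a cover of `Co1`: neighbours, their local uniqueness, and the residue lemma.
-/

set_option autoImplicit false
set_option maxRecDepth 100000

namespace CfsgLib.Recog.CoOneInv.Cover

open Cfsg CfsgLib.Golay

attribute [local irreducible] permOf mset monoCo0 rowT letT act app rowsC

theorem c1_eq : c1 = act (el nX) C0 := rows_el le_rfl _ C0_lt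

theorem c1_lt : c1 < 16777216 := app_lt _ _

/-- What `localOK` gives. -/
structure LocalData : Prop where
  nbr : TreeData nX nbrLevel
  nbr_b : nbrLevel.b = c1
  res : TreeData (nX + 1) resLevel
  res_b : resLevel.b = C0
  cCN : chainOK nX chainCN = true
  cS0 : chainOK nX chainS0 = true
  adj : TreeData nX adjLevel
  adj_b : adjLevel.b = c1
  cn_z : ∀ g ∈ chainGens chainCN, commZ g = true
  adj_z : ∀ g ∈ adjLevel.gens, commZ g = true
  res_g : ∀ g ∈ resLevel.gens, g = nX ∨ (commZ g = true ∧ app (rt g) C0 = C0)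
  vCN : chainVal chainCN = 660602880
  vS0 : chainVal chainS0 = 9437184
  res_n : resLevel.n = 135
  nbr_n : nbrLevel.n = 3542
  s0 : ∀ g ∈ chainGens chainS0, commZ g = true ∧ app (rt g) c1 = c1
  meet : ∀ k < resLevel.n, inTree adjLevel (rowAt resLevel.V k) = true ∨
    inTree nbrLevel (rowAt resLevel.V k) = false

theorem local_data : LocalData := by
  have h := local_ok
  simp only [localOK, Bool.and_eq_true, List.all_eq_true, List.mem_range, Bool.or_eq_true,
    Bool.not_eq_true'] at h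
  obtain ⟨⟨⟨⟨⟨⟨⟨⟨⟨⟨⟨⟨⟨⟨⟨⟨⟨⟨h1, h2⟩, h3⟩, h4⟩, -⟩, h6⟩, h7⟩, h8⟩, h9⟩, h10⟩, h11⟩, h12⟩, -⟩, h14⟩,
    h15⟩, h16⟩, h17⟩, h18⟩, h19⟩ := h
  exact ⟨tree_data h1, Nat.eq_of_beq_eq_true h2, tree_data h3, Nat.eq_of_beq_eq_true h4, h6, h7,
    tree_data h8, Nat.eq_of_beq_eq_true h9, h10, h11,
    fun g hg => (h12 g hg).imp Nat.eq_of_beq_eq_true fun e => ⟨e.1, Nat.eq_of_beq_eq_true e.2⟩,
    Nat.eq_of_beq_eq_true h14, Nat.eq_of_beq_eq_true h15, Nat.eq_of_beq_eq_true h16,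
    Nat.eq_of_beq_eq_true h17, fun g hg => ⟨(h18 g hg).1, Nat.eq_of_beq_eq_true (h18 g hg).2⟩, h19⟩

theorem chain_gens_lt {Ls : List Level} (h : chainOK nX Ls = true) {g : ℕ} (hg : g ∈ chainGens Ls) :
    g < nX := by
  match Ls, h, hg with
  | [], _, hg => simp [chainGens] at hg
  | [L], h, hg => exact (tree_data (show treeOK nX L = true from h)).gens_lt g hg
  | L :: L' :: Ls, h, hg =>
    simp only [chainOK, Bool.and_eq_true] at h
    exact (tree_data h.1.1).gens_lt g hg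

theorem el_act {k : ℕ} (hk : k ≤ nX) {v : ℕ} (hv : v < 16777216) : act (el k) v = app (rt k) v :=
  (rows_el hk v hv).symm

theorem el_X_C1 : el nX ∈ E8Cent.C1 := by
  have h := k_ok
  simp only [kOK, Bool.and_eq_true] at h
  exact commZ_spec le_rfl h.1.1.2

theorem el_X_sq : el nX * el nX = 1 := by
  have h := k_ok
  simp only [kOK, Bool.and_eq_true] at h
  exact el_eq_of_rows ((rows_el le_rfl).mul (rows_el le_rfl)) rowsOf_id h.2

theorem act_X_c1 : act (el nX) c1 = C0 := by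
  rw [c1_eq, ← act_mul _ _ C0_lt, el_X_sq, act_one C0_lt]

theorem N2_fix {q : Spor.Co1} (h : q ∈ N2) : act q C0 = C0 := (act_C0_iff q).2 h

/-- The common part. -/
noncomputable abbrev CN : Subgroup Spor.Co1 := E8Cent.C1 ⊓ N2

theorem CN_card_ge : 660602880 ≤ Nat.card CN := by
  rw [← local_data.vCN]
  exact chain_le _ _ local_data.cCN fun g hg =>
    ⟨commZ_spec (chain_gens_lt local_data.cCN hg).le (local_data.cn_z g hg),
      el_N2 (chain_gens_lt local_data.cCN hg)⟩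

theorem res_gens : genG resLevel.gens ≤ E8Cent.C1 := genG_le fun g hg => by
  rcases local_data.res_g g hg with rfl | h
  · exact el_X_C1
  · have := local_data.res.gens_lt g hg
    exact commZ_spec (by omega) h.1

theorem C1_decomp {h : Spor.Co1} (hh : h ∈ E8Cent.C1) :
    ∃ k < resLevel.n, ∃ w ∈ genG resLevel.gens, ∃ s ∈ CN, h = w * s ∧
      act h C0 = rowAt resLevel.V k := by
  have hfix : CN ≤ stab resLevel.b local_data.res.b_lt := fun q hq => by
    show act q resLevel.b = resLevel.b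
    rw [local_data.res_b]; exact N2_fix hq.2
  obtain ⟨h1, h2⟩ := local_data.res.mul_card_le le_rfl res_gens inf_le_left hfix
  rw [local_data.res_n, card_C1] at h1
  have hc := CN_card_ge
  have he : resLevel.n * Nat.card CN = Nat.card E8Cent.C1 := by
    rw [local_data.res_n, card_C1]
    exact le_antisymm h1 (le_trans (by norm_num) (Nat.mul_le_mul_left 135 hc))
  obtain ⟨k, hk, w, hw, s, hs, e1, e2⟩ := h2 he h hh
  rw [local_data.res_b] at e2
  exact ⟨k, hk, w, hw, s, hs, e1, e2⟩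

theorem C1_le_sup : E8Cent.C1 ≤ CN ⊔ Subgroup.zpowers (el nX) := fun h hh => by
  obtain ⟨k, -, w, hw, s, hs, rfl, -⟩ := C1_decomp hh
  refine mul_mem (genG_le (fun g hg => ?_) hw) (Subgroup.mem_sup_left hs)
  rcases local_data.res_g g hg with rfl | h
  · exact Subgroup.mem_sup_right (Subgroup.mem_zpowers _)
  · have hlt := local_data.res.gens_lt g hg
    refine Subgroup.mem_sup_left ⟨commZ_spec (by omega) h.1, (act_C0_iff _).1 ?_⟩
    rw [el_act (by omega) C0_lt, h.2]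

theorem C1_sup_N2 : E8Cent.C1 ⊔ N2 = ⊤ := by
  have hker : E8Cent.pr.ker ≤ N0 := fun g hg => by
    rw [mem_classStab, ← key_eq_iff, key_pr (g := g) (h := 1) (by rw [MonoidHom.mem_ker.1 hg, map_one]),
      one_smul]
  have hlt : N0 < (E8Cent.C1 ⊔ N2).comap E8Cent.pr := by
    refine lt_of_le_of_ne ?_ fun e => ?_
    · intro g hg
      exact Subgroup.mem_sup_right ⟨g, hg, rfl⟩
    · obtain ⟨g, hg⟩ : ∃ g, E8Cent.pr g = el nX := ⟨_, pr_out _⟩
      have hg' : g ∈ N0 := by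
        rw [e, Subgroup.mem_comap, hg]
        exact Subgroup.mem_sup_left el_X_C1
      have hne : c1 ≠ C0 := by decide +kernel
      exact hne (by rw [c1_eq, ← hg]; exact N2_fix ⟨g, hg', rfl⟩)
  have htop := isCoatom_N0.2 _ hlt
  rw [eq_top_iff]
  rintro q -
  have : Quotient.out q ∈ (E8Cent.C1 ⊔ N2).comap E8Cent.pr := htop ▸ Subgroup.mem_top _
  rwa [Subgroup.mem_comap, pr_out] at this

theorem chain2_gens : ∀ g ∈ chainGens (chains.getD 2 []), app (rt g) c1 = c1 := by decide +kernel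

theorem chain2_ok : chainOK nX (chains.getD 2 []) = true := by decide +kernel

theorem stab2_ge : 141557760 ≤ Nat.card ↥(N2 ⊓ stab c1 c1_lt) := by
  have hv : chainVal (chains.getD 2 []) = 141557760 := by decide +kernel
  rw [← hv]
  refine chain_le _ _ chain2_ok fun g hg => ?_
  have hlt := chain_gens_lt chain2_ok hg
  refine ⟨el_N2 hlt, ?_⟩
  show act (el g) c1 = c1
  rw [el_act hlt.le c1_lt, chain2_gens g hg]

theorem nbr_orbit : Nat.card ↥(N2 ⊓ stab c1 c1_lt) = 141557760 ∧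
    ∀ h ∈ N2, ∃ k < nbrLevel.n, act h c1 = rowAt nbrLevel.V k := by
  have hfix : N2 ⊓ stab c1 c1_lt ≤ stab nbrLevel.b local_data.nbr.b_lt := fun q hq => by
    rw [mem_stab, local_data.nbr_b]; exact hq.2
  obtain ⟨h1, h2⟩ := local_data.nbr.mul_card_le (by omega)
    (genG_le fun g hg => el_N2 (local_data.nbr.gens_lt g hg)) inf_le_left hfix
  rw [local_data.nbr_n, card_N2] at h1
  have hc := stab2_ge
  have he : Nat.card ↥(N2 ⊓ stab c1 c1_lt) = 141557760 := by omega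
  refine ⟨he, fun h hh => ?_⟩
  obtain ⟨k, hk, w, -, s, -, -, e2⟩ := h2 (by rw [local_data.nbr_n, card_N2, he]) h hh
  rw [local_data.nbr_b] at e2
  exact ⟨k, hk, e2⟩

theorem exists_nbr {k : ℕ} (hk : k < nbrLevel.n) :
    ∃ n ∈ N2, act n c1 = rowAt nbrLevel.V k := by
  obtain ⟨w, hw, e⟩ := local_data.nbr.exists_elem (by omega) k hk
  refine ⟨w, genG_le (fun g hg => el_N2 (local_data.nbr.gens_lt g hg)) hw, ?_⟩
  rwa [local_data.nbr_b] at e

theorem exists_adj {k : ℕ} (hk : k < adjLevel.n) : ∃ n ∈ CN, act n c1 = rowAt adjLevel.V k := by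
  obtain ⟨w, hw, e⟩ := local_data.adj.exists_elem (by omega) k hk
  refine ⟨w, genG_le (fun g hg => ?_) hw, ?_⟩
  · have hlt := local_data.adj.gens_lt g hg
    exact ⟨commZ_spec hlt.le (local_data.adj_z g hg), el_N2 hlt⟩
  · rwa [local_data.adj_b] at e

/-! ### The cover -/

/-- The hypotheses. -/
structure Setup (U : Type*) [Group U] where
  π : U →* Spor.Co1
  C : Subgroup U
  N : Subgroup U
  gen : C ⊔ N = ⊤
  injC : Set.InjOn π C
  injN : Set.InjOn π N
  mapC : C.map π = E8Cent.C1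
  mapN : N.map π = N2
  inter : E8Cent.C1 ⊓ N2 ≤ (C ⊓ N).map π
  twist : ∀ n ∈ N, π n * E8Cent.z1 * (π n)⁻¹ ∈ E8Cent.Qc.map E8Cent.C1.subtype →
    ∀ c ∈ C, π n * π c * (π n)⁻¹ ∈ E8Cent.C1 → n * c * n⁻¹ ∈ C

namespace Setup

variable {U : Type*} [Group U] (S : Setup U)

theorem exists_n {q : Spor.Co1} (h : q ∈ N2) : ∃ n ∈ S.N, S.π n = q := by
  rw [← S.mapN] at h; exact h

theorem exists_c {q : Spor.Co1} (h : q ∈ E8Cent.C1) : ∃ c ∈ S.C, S.π c = q := by
  rw [← S.mapC] at h; exact h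

theorem pi_N {n : U} (h : n ∈ S.N) : S.π n ∈ N2 := S.mapN ▸ Subgroup.mem_map_of_mem _ h

theorem pi_C {c : U} (h : c ∈ S.C) : S.π c ∈ E8Cent.C1 := S.mapC ▸ Subgroup.mem_map_of_mem _ h

theorem mem_N_of {c : U} (hc : c ∈ S.C) (h : S.π c ∈ N2) : c ∈ S.N := by
  obtain ⟨d, hd, e⟩ := S.inter ⟨S.pi_C hc, h⟩
  rw [← S.injC hd.1 hc e]; exact hd.2

open _root_.Classical in
/-- A lift in the monomial part. -/
noncomputable def ln (q : Spor.Co1) : U := if h : q ∈ N2 then (S.exists_n h).choose else 1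

theorem ln_spec {q : Spor.Co1} (h : q ∈ N2) : S.ln q ∈ S.N ∧ S.π (S.ln q) = q := by
  rw [ln, dif_pos h]; exact (S.exists_n h).choose_spec

theorem ln_eq {n : U} (hn : n ∈ S.N) : S.ln (S.π n) = n :=
  S.injN (S.ln_spec (S.pi_N hn)).1 hn (S.ln_spec (S.pi_N hn)).2

/-- The lift of the other letter. -/
noncomputable def tt : U := (S.exists_c el_X_C1).choose

theorem tt_mem : S.tt ∈ S.C := (S.exists_c el_X_C1).choose_spec.1

theorem tt_pi : S.π S.tt = el nX := (S.exists_c el_X_C1).choose_spec.2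

theorem tt_sq : S.tt * S.tt = 1 :=
  S.injC (mul_mem S.tt_mem S.tt_mem) (one_mem S.C) (by rw [map_mul, S.tt_pi, el_X_sq, map_one])

theorem tt_inv : S.tt⁻¹ = S.tt := inv_eq_of_mul_eq_one_right S.tt_sq

/-- The base coset. -/
def o : U ⧸ S.N := QuotientGroup.mk 1

theorem smul_mk (g u : U) : g • (QuotientGroup.mk u : U ⧸ S.N) = QuotientGroup.mk (g * u) := rfl

theorem smul_o (g : U) : g • S.o = QuotientGroup.mk g := by rw [o, S.smul_mk, mul_one]

theorem fix_o {n : U} (h : n ∈ S.N) : n • S.o = S.o := by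
  rw [S.smul_o, o, QuotientGroup.eq]; simpa using S.N.inv_mem h

/-- The class of a coset. -/
noncomputable def pb : U ⧸ S.N → ℕ :=
  Quotient.lift (fun u => act (S.π u) C0) (by
    intro a b hab
    have h : a⁻¹ * b ∈ S.N := QuotientGroup.leftRel_apply.1 hab
    show act (S.π a) C0 = act (S.π b) C0
    rw [show S.π b = S.π a * S.π (a⁻¹ * b) by rw [← map_mul, mul_inv_cancel_left], act_mul _ _ C0_lt,
      N2_fix (S.pi_N h)])

theorem pb_mk (u : U) : S.pb (QuotientGroup.mk u) = act (S.π u) C0 := rfl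

theorem pb_lt (x : U ⧸ S.N) : S.pb x < 16777216 := by
  induction x using Quotient.inductionOn' with
  | h u => exact act_lt _ _

theorem pb_smul (g : U) (x : U ⧸ S.N) : S.pb (g • x) = act (S.π g) (S.pb x) := by
  induction x using Quotient.inductionOn' with
  | h u =>
    show act (S.π (g * u)) C0 = _
    rw [map_mul, act_mul _ _ C0_lt]
    rfl

theorem pb_tt : S.pb (S.tt • S.o) = c1 := by
  rw [S.smul_o, S.pb_mk, S.tt_pi, c1_eq]

/-- Adjacency. -/
def Adj (x y : U ⧸ S.N) : Prop := ∃ u : U, x = u • S.o ∧ y = (u * S.tt) • S.o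

theorem adj_tt : S.Adj S.o (S.tt • S.o) := ⟨1, by rw [one_smul], by rw [one_mul]⟩

theorem adj_smul (g : U) {x y : U ⧸ S.N} (h : S.Adj x y) : S.Adj (g • x) (g • y) := by
  obtain ⟨u, rfl, rfl⟩ := h
  exact ⟨g * u, by rw [mul_smul], by rw [← mul_smul, mul_assoc]⟩

theorem adj_symm {x y : U ⧸ S.N} (h : S.Adj x y) : S.Adj y x := by
  obtain ⟨u, rfl, rfl⟩ := h
  exact ⟨u * S.tt, rfl, by rw [mul_assoc, S.tt_sq, mul_one]⟩

theorem tt_fix {c : U} (hc : c ∈ S.C) (h : act (S.π c) c1 = c1) :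
    c • (S.tt • S.o) = S.tt • S.o := by
  have hm : S.tt * c * S.tt ∈ S.C := mul_mem (mul_mem S.tt_mem hc) S.tt_mem
  have hN : S.tt * c * S.tt ∈ S.N := S.mem_N_of hm ((act_C0_iff _).1 (by
    rw [map_mul, map_mul, S.tt_pi, act_mul _ _ C0_lt, ← c1_eq, act_mul _ _ c1_lt, h, act_X_c1]))
  have e : c * S.tt = S.tt * (S.tt * c * S.tt) := by
    rw [← mul_assoc, ← mul_assoc, S.tt_sq, one_mul]
  rw [← mul_smul, e, mul_smul, S.fix_o hN]

/-- The edge stabiliser: the monomial lifts fixing the lift of the first neighbour. -/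
noncomputable def edgeStab : Subgroup Spor.Co1 :=
  (S.N ⊓ MulAction.stabilizer U (S.tt • S.o)).map S.π

theorem s0_le : genG (chainGens chainS0) ≤ S.edgeStab ⊓ E8Cent.C1 := genG_le fun g hg => by
  have hlt := chain_gens_lt local_data.cS0 hg
  obtain ⟨hz, hf⟩ := local_data.s0 g hg
  have hC := commZ_spec hlt.le hz
  obtain ⟨m, hm, e⟩ := S.inter ⟨hC, el_N2 hlt⟩
  refine ⟨⟨m, ⟨hm.2, MulAction.mem_stabilizer_iff.2 ?_⟩, e⟩, hC⟩
  exact S.tt_fix hm.1 (by rw [e, el_act hlt.le c1_lt, hf])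

theorem k_mem : el kLet ∈ S.edgeStab := by
  have h := k_ok
  simp only [kOK, Bool.and_eq_true] at h
  obtain ⟨⟨⟨⟨⟨⟨⟨⟨hk, hi⟩, hZ⟩, hf⟩, hinv⟩, hconj⟩, -⟩, hcomm⟩, -⟩ := h
  have hk' : kLet < nX := Nat.le_of_ble_eq_true hk
  have hi' : kInv < nX := Nat.le_of_ble_eq_true hi
  have hZ' : kZ < nX := Nat.le_of_ble_eq_true hZ
  have hz : zLet < nX := by decide
  have hf' : act (el kLet) c1 = c1 := by
    rw [el_act hk'.le c1_lt, Nat.eq_of_beq_eq_true hf]
  have einv : el kInv = (el kLet)⁻¹ := by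
    refine (inv_eq_of_mul_eq_one_right ?_).symm
    exact el_eq_of_rows ((rows_el hk'.le).mul (rows_el hi'.le)) rowsOf_id hinv
  have eQ : el kLet * E8Cent.z1 * (el kLet)⁻¹ = el kZ := by
    rw [← einv, ← el_zLet]
    exact el_eq_of_rows (((rows_el hk'.le).mul (rows_el hz.le)).mul (rows_el hi'.le)) (rows_el hZ'.le) hconj
  have eC : el kLet * el nX * (el kLet)⁻¹ ∈ E8Cent.C1 := by
    rw [E8Cent.C1, Subgroup.mem_centralizer_singleton_iff, ← einv, ← el_zLet]
    have r := ((rows_el hk'.le).mul (rows_el le_rfl)).mul (rows_el hi'.le)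
    exact el_eq_of_rows (r.mul (rows_el hz.le)) ((rows_el hz.le).mul r) hcomm
  obtain ⟨hn, hne⟩ := S.ln_spec (el_N2 hk')
  set n := S.ln (el kLet) with hnd
  have hs : n * S.tt * n⁻¹ ∈ S.C := S.twist n hn (by rw [hne, eQ]; exact el_kZ) _ S.tt_mem
    (by rw [hne, S.tt_pi]; exact eC)
  refine ⟨n, ⟨hn, MulAction.mem_stabilizer_iff.2 ?_⟩, hne⟩
  have hd : S.tt * (n * S.tt * n⁻¹) ∈ S.N := S.mem_N_of (mul_mem S.tt_mem hs) ((act_C0_iff _).1 (by
    rw [map_mul, map_mul, map_mul, map_inv, hne, S.tt_pi, act_mul _ _ C0_lt, act_mul _ _ C0_lt,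
      show act (el kLet)⁻¹ C0 = C0 from N2_fix (inv_mem (el_N2 hk')), act_mul _ _ C0_lt, ← c1_eq, hf',
      act_X_c1]))
  have e : n * S.tt = S.tt * (S.tt * (n * S.tt * n⁻¹)) * n := by
    rw [← mul_assoc, S.tt_sq, one_mul, inv_mul_cancel_right]
  rw [← mul_smul, e, mul_smul, S.fix_o hn, mul_smul, S.fix_o hd]

theorem edgeStab_le : S.edgeStab ≤ N2 ⊓ stab c1 c1_lt := by
  rintro q ⟨n, ⟨hn, hs⟩, rfl⟩
  refine ⟨S.pi_N hn, ?_⟩
  show act (S.π n) c1 = c1
  rw [← S.pb_tt, ← S.pb_smul, MulAction.mem_stabilizer_iff.1 hs]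

theorem edgeStab_eq : S.edgeStab = N2 ⊓ stab c1 c1_lt := by
  classical
  refine Subgroup.eq_of_le_of_card_ge S.edgeStab_le ?_
  rw [nbr_orbit.1]
  have h := conj_ok
  simp only [conjAllOK, Bool.and_eq_true, List.all_eq_true, List.mem_range'_1] at h
  obtain ⟨⟨⟨hlen, hroot⟩, hstep⟩, hne⟩ := h
  set zc : ℕ → ℕ := fun a => (conjT.getD a (0, 0, 0)).2.2 with hzc
  have hlen' : conjT.length = 15 := Nat.eq_of_beq_eq_true hlen
  have key : ∀ a < 15, zc a < nX ∧ ∃ g ∈ S.edgeStab, g * E8Cent.z1 * g⁻¹ = el (zc a) := by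
    intro a
    induction a using Nat.strongRecOn with
    | _ a ih =>
      intro ha
      rcases Nat.eq_zero_or_pos a with rfl | ha0
      · refine ⟨?_, 1, one_mem _, ?_⟩
        · show (conjT.getD 0 (0, 0, 0)).2.2 < nX
          rw [Nat.eq_of_beq_eq_true hroot]; decide
        · show _ = el (conjT.getD 0 (0, 0, 0)).2.2
          rw [Nat.eq_of_beq_eq_true hroot, el_zLet]; simp
      · have hc := hstep a ⟨ha0, by omega⟩
        simp only [conjOK, Bool.and_eq_true, Bool.or_eq_true] at hc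
        obtain ⟨⟨⟨h1, h2⟩, h3⟩, h4⟩ := hc
        obtain ⟨hp, g, hg, e⟩ := ih _ (Nat.le_of_ble_eq_true h1) (by
          have := Nat.le_of_ble_eq_true h1; omega)
        set l := (conjT.getD a (0, 0, 0)).2.1
        have hl : l < nX ∧ el l ∈ S.edgeStab := by
          rcases h2 with h2 | h2
          · have h2' := memN_iff.1 h2
            exact ⟨chain_gens_lt local_data.cS0 h2', (S.s0_le (Subgroup.subset_closure ⟨_, h2', rfl⟩)).1⟩
          · rw [Nat.eq_of_beq_eq_true h2]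
            exact ⟨by decide, S.k_mem⟩
        have h3' : zc a < nX := Nat.le_of_ble_eq_true h3
        refine ⟨h3', el l * g, mul_mem hl.2 hg, ?_⟩
        have e4 : el (zc a) * el l = el l * el (zc (conjT.getD a (0, 0, 0)).1) :=
          el_eq_of_rows ((rows_el h3'.le).mul (rows_el hl.1.le))
            ((rows_el hl.1.le).mul (rows_el hp.le)) h4
        rw [← e] at e4
        calc el l * g * E8Cent.z1 * (el l * g)⁻¹ = el l * (g * E8Cent.z1 * g⁻¹) * (el l)⁻¹ := by group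
          _ = el (zc a) := by rw [← e4, mul_inv_cancel_right]
  choose hzlt g hg hgz using key
  let F : Fin 15 × ↥(genG (chainGens chainS0)) → S.edgeStab := fun x =>
    ⟨g x.1 x.1.2 * x.2, mul_mem (hg _ _) (S.s0_le x.2.2).1⟩
  have hF : ∀ x : Fin 15 × ↥(genG (chainGens chainS0)),
      (F x : Spor.Co1) * E8Cent.z1 * (F x : Spor.Co1)⁻¹ = el (zc x.1) := fun x => by
    rw [← hgz x.1 x.1.2]
    show g x.1 x.1.2 * x.2 * E8Cent.z1 * (g x.1 x.1.2 * (x.2 : Spor.Co1))⁻¹ = _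
    have hc := Subgroup.mem_centralizer_singleton_iff.1 (S.s0_le x.2.2).2
    rw [mul_inv_rev, mul_assoc (g x.1 x.1.2) (x.2 : Spor.Co1) E8Cent.z1, hc]
    group
  have hinj : Function.Injective F := by
    rintro ⟨a, s⟩ ⟨b, t⟩ e
    have e1 := congrArg (fun q : S.edgeStab => (q : Spor.Co1) * E8Cent.z1 * (q : Spor.Co1)⁻¹) e
    simp only [hF] at e1
    have hab : a = b := by
      by_contra hne'
      wlog hlt : (b : ℕ) < a generalizing a b s t
      · exact this b t a s e.symm e1.symm (Ne.symm hne')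
          (lt_of_le_of_ne (Nat.not_lt.1 hlt) fun h => hne' (Fin.ext h))
      simp only [conjNe, List.all_eq_true, List.mem_range, Bool.not_eq_true'] at hne
      have hb := hne a (by rw [hlen']; exact a.2) b hlt
      have hr : rt (zc a) = rt (zc b) := by
        have ra := rows_el (hzlt a a.2).le
        have rb := rows_el (hzlt b b.2).le
        rw [e1] at ra
        exact rt_inj (hzlt a a.2) (hzlt b b.2) fun v hv => (ra v hv).trans (rb v hv).symm
      rw [show rt (conjT.getD (a : ℕ) (0, 0, 0)).2.2 = rt (conjT.getD (b : ℕ) (0, 0, 0)).2.2 from hr,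
        Nat.beq_refl] at hb
      exact Bool.noConfusion hb
    subst hab
    exact Prod.ext rfl (Subtype.ext (mul_left_cancel (congrArg Subtype.val e)))
  have h9 : 9437184 ≤ Nat.card ↥(genG (chainGens chainS0)) := local_data.vS0 ▸
    chain_le _ _ local_data.cS0 fun g hg => Subgroup.subset_closure ⟨g, hg, rfl⟩
  refine le_trans ?_ (Nat.card_le_card_of_injective F hinj)
  rw [Nat.card_prod, Nat.card_fin]
  omega

theorem eloc {n : U} (hn : n ∈ S.N) (h : act (S.π n) c1 = c1) :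
    n • (S.tt • S.o) = S.tt • S.o := by
  have hmem : S.π n ∈ S.edgeStab := by rw [S.edgeStab_eq]; exact ⟨S.pi_N hn, h⟩
  obtain ⟨m, ⟨hm, hs⟩, e⟩ := hmem
  rw [← S.injN hm hn e]
  exact MulAction.mem_stabilizer_iff.1 hs

theorem adj_unique {x y y' : U ⧸ S.N} (h : S.Adj x y) (h' : S.Adj x y') (e : S.pb y = S.pb y') :
    y = y' := by
  obtain ⟨u, rfl, rfl⟩ := h
  obtain ⟨v, hv, rfl⟩ := h'
  have hn : u⁻¹ * v ∈ S.N := by
    rw [S.smul_o, S.smul_o] at hv; exact QuotientGroup.eq.1 hv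
  obtain ⟨w, rfl⟩ : ∃ w, v = u * w := ⟨u⁻¹ * v, (mul_inv_cancel_left u v).symm⟩
  rw [inv_mul_cancel_left] at hn
  rw [mul_assoc u w S.tt] at e ⊢
  rw [mul_smul u S.tt, mul_smul u (w * S.tt), S.pb_smul u, S.pb_smul u] at e
  rw [mul_smul u S.tt, mul_smul u (w * S.tt), mul_smul w S.tt]
  have h2 : S.pb (S.tt • S.o) = S.pb ((w * S.tt) • S.o) :=
    act_inj (S.π u) (v := S.pb (S.tt • S.o)) (w := S.pb ((w * S.tt) • S.o)) (S.pb_lt _) (S.pb_lt _) e
  rw [S.pb_tt, mul_smul w S.tt, S.pb_smul, S.pb_tt] at h2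
  rw [S.eloc hn h2.symm]

theorem nbr_class {u : U} {y : U ⧸ S.N} (h : S.Adj (u • S.o) y) :
    ∃ k < nbrLevel.n, S.pb y = act (S.π u) (rowAt nbrLevel.V k) := by
  obtain ⟨v, hv, rfl⟩ := h
  have hn : u⁻¹ * v ∈ S.N := by
    rw [S.smul_o, S.smul_o] at hv; exact QuotientGroup.eq.1 hv
  obtain ⟨k, hk, e⟩ := nbr_orbit.2 _ (S.pi_N hn)
  refine ⟨k, hk, ?_⟩
  rw [show v * S.tt = u * ((u⁻¹ * v) * S.tt) by rw [← mul_assoc, mul_inv_cancel_left], mul_smul,
    S.pb_smul, mul_smul, S.pb_smul, S.pb_tt, e]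

theorem res_base {y z : U ⧸ S.N} {a b : ℕ} (ha : a < adjLevel.n) (hb : b < adjLevel.n)
    (h1 : S.Adj S.o y) (h2 : S.Adj y z) (ey : S.pb y = rowAt adjLevel.V a)
    (ez : S.pb z = rowAt adjLevel.V b) : S.Adj S.o z := by
  have lift : ∀ {w : U ⧸ S.N} {c : ℕ}, c < adjLevel.n → S.Adj S.o w → S.pb w = rowAt adjLevel.V c →
      ∃ d ∈ S.C, w = d • S.o := by
    intro w c hc hw ew
    obtain ⟨q, hq, e⟩ := exists_adj hc
    obtain ⟨m, hm, hme⟩ := S.inter hq
    refine ⟨m * S.tt, mul_mem hm.1 S.tt_mem, S.adj_unique hw ?_ ?_⟩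
    · have := S.adj_smul m S.adj_tt
      rwa [S.fix_o hm.2, ← mul_smul] at this
    · rw [ew, mul_smul, S.pb_smul, S.pb_tt, hme, e]
  obtain ⟨d, hd, rfl⟩ := lift ha h1 ey
  obtain ⟨q, hq, eb⟩ := exists_adj hb
  obtain ⟨m, hm, hme⟩ := S.inter hq
  set z' := (m * S.tt) • S.o with hz'
  have hz'adj : S.Adj S.o z' := by
    have := S.adj_smul m S.adj_tt
    rwa [S.fix_o hm.2, ← mul_smul] at this
  have hz'e : S.pb z' = rowAt adjLevel.V b := by rw [hz', mul_smul, S.pb_smul, S.pb_tt, hme, eb]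
  have h3 : S.Adj S.o (d⁻¹ • z) := by
    have := S.adj_smul d⁻¹ h2
    rwa [inv_smul_smul] at this
  have hC : S.π d⁻¹ * S.π (m * S.tt) ∈ E8Cent.C1 :=
    mul_mem (S.pi_C (inv_mem hd)) (S.pi_C (mul_mem hm.1 S.tt_mem))
  obtain ⟨k, hk, -, -, -, -, -, ek⟩ := C1_decomp hC
  have hzc : S.pb (d⁻¹ • z) = rowAt resLevel.V k := by
    rw [← ek, act_mul _ _ C0_lt, S.pb_smul, ez, ← hz'e, hz', S.smul_o, S.pb_mk]
  have hin : inTree nbrLevel (rowAt resLevel.V k) = true := by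
    obtain ⟨j, hj, ej⟩ := S.nbr_class (u := 1) (by rw [one_smul]; exact h3)
    rw [← hzc, ej, map_one, act_one (rowAt_lt _ _)]
    exact inTree_of hj
  rcases local_data.meet k hk with hm' | hm'
  · obtain ⟨c, hc, ec⟩ := inTree_spec hm'
    obtain ⟨d', hd', e'⟩ := lift hc h3 (by rw [hzc, ec])
    have hz : z = (d * d') • S.o := by rw [mul_smul, ← e', smul_inv_smul]
    have e2 : act (S.π (d * d')) C0 = act (S.π (m * S.tt)) C0 := by
      rw [← S.pb_mk, ← S.pb_mk, ← S.smul_o, ← S.smul_o, ← hz, ← hz', ez, hz'e]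
    have hN : (m * S.tt)⁻¹ * (d * d') ∈ S.N :=
      S.mem_N_of (mul_mem (inv_mem (mul_mem hm.1 S.tt_mem)) (mul_mem hd hd')) ((act_C0_iff _).1 (by
        rw [map_mul, map_inv, act_mul _ _ C0_lt, e2, act_inv_act _ C0_lt]))
    have : z = z' := by
      rw [hz, hz', show d * d' = (m * S.tt) * ((m * S.tt)⁻¹ * (d * d')) by rw [mul_inv_cancel_left],
        mul_smul _ ((m * S.tt)⁻¹ * (d * d')), S.fix_o hN]
    rw [this]; exact hz'adj
  · rw [hin] at hm'; exact Bool.noConfusion hm'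

theorem res_move {u : U} {y z : U ⧸ S.N} {n r r' : ℕ} (hn : n < nX)
    (hr : r < 16777216) (hr' : r' < 16777216)
    (h1 : S.Adj (u • S.o) y) (h2 : S.Adj y z) (ey : S.pb y = act (S.π u) r)
    (ez : S.pb z = act (S.π u) r') (i1 : inTree adjLevel (app (rt n) r) = true)
    (i2 : inTree adjLevel (app (rt n) r') = true) : S.Adj (u • S.o) z := by
  obtain ⟨hm, hme⟩ := S.ln_spec (el_N2 hn)
  set g := S.ln (el n) * u⁻¹ with hg
  obtain ⟨a, ha, ea⟩ := inTree_spec i1
  obtain ⟨b, hb, eb⟩ := inTree_spec i2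
  have hgo : g • (u • S.o) = S.o := by
    rw [← mul_smul, hg, inv_mul_cancel_right, S.fix_o hm]
  have hk : ∀ v, v < 16777216 → act (S.π g) (act (S.π u) v) = app (rt n) v := fun v hv => by
    rw [← act_mul _ _ hv, ← map_mul, hg, inv_mul_cancel_right, hme, el_act hn.le hv]
  have h := S.res_base (y := g • y) (z := g • z) ha hb
    (by have := S.adj_smul g h1; rwa [hgo] at this) (S.adj_smul g h2)
    (by rw [S.pb_smul, ey, hk r hr, ea]) (by rw [S.pb_smul, ez, hk r' hr', eb])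
  have := S.adj_smul g⁻¹ h
  rwa [inv_smul_smul, ← hgo, inv_smul_smul] at this

end Setup

end CfsgLib.Recog.CoOneInv.Cover
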