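import Cfsg.Agent.Lib.Recog.CoOneInv.CoverCheck

/-! Kernel checks of the letters. -/

set_option autoImplicit false
set_option maxRecDepth 100000
set_option maxHeartbeats 0

namespace CfsgLib.Recog.CoOneInv.Cover

open CfsgLib.Golay

theorem tables_ok : tablesOK = true := by decide +kernel

theorem letters_len : letT.length = nX := by decide +kernel

theorem letters_ok : lettersOK 0 nX = true := by decide +kernel

theorem xi_rows : ∀ j i : Fin 24,
    decide (kz (E8Cent.xiH (df j)) i % 2 = 1) = (rowAt (rt nX) j).testBit i := by decide +kernel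

theorem conj_ok : conjAllOK = true := by decide +kernel

theorem k_ok : kOK = true := by decide +kernel

theorem kZ_avoid : Nat.land (letT.getD kZ (0, 0)).2 E8Cent.octB = 0 ∧ (letT.getD kZ (0, 0)).1 = idCode ∧
    (letT.getD zLet (0, 0)).1 = idCode ∧ (letT.getD zLet (0, 0)).2 = E8Cent.octC := by decide +kernel

end CfsgLib.Recog.CoOneInv.Cover
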