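import Cfsg.Agent.Lib.Recog.CoOneInv.CoverLift

/-!
The derivations are sound: every listed edge and every listed fixing letter holds in a cover.
-/

set_option autoImplicit false
set_option maxRecDepth 100000

namespace CfsgLib.Recog.CoOneInv.Cover

open Cfsg CfsgLib.Golay

attribute [local irreducible] permOf mset monoCo0 rowT letT act app rowsC rt orbT opsT coverT chains mulR packR idR GR inTree el

/-- The indices of the representatives. -/
def Idx (i : ℕ) : Prop := 1 ≤ i ∧ i ≤ 6

theorem par_ok : ∀ i, 2 ≤ i → i ≤ 6 → 1 ≤ par i ∧ par i < i := by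
  have h : ∀ i < 7, 2 ≤ i → 1 ≤ par i ∧ par i < i := by decide +kernel
  exact fun i h1 h2 => h i (by omega) h1

theorem idx_par {i : ℕ} (h1 : 2 ≤ i) (h2 : i ≤ 6) : Idx (par i) := by
  have := par_ok i h1 h2
  exact ⟨this.1, by omega⟩

theorem parR_two : parR 2 = c1 ∧ par 2 = 1 := by decide +kernel

theorem GR_one : GR 1 = idR := by decide +kernel

theorem orb_spec {i : ℕ} (h1 : 2 ≤ i) (h2 : i ≤ 6) :
    (∀ g ∈ parW i, g < nX) ∧ app (wordR idR (parW i)) c1 = parR i ∧
      GR i = mulR (GR (par i)) (mulR (wordR idR (parW i)) (rt nX)) ∧ app (GR i) c1 = VV (par i) := by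
  have h := orb_ok
  simp only [List.all_eq_true, List.mem_range] at h
  have h' := h (i - 2) (by omega)
  rw [show i - 2 + 2 = i by omega] at h'
  simp only [orbOK, Bool.and_eq_true, List.all_eq_true] at h'
  obtain ⟨⟨⟨⟨-, ha⟩, hb⟩, hc⟩, hd⟩ := h'
  exact ⟨fun g hg => Nat.le_of_ble_eq_true (ha g hg), Nat.eq_of_beq_eq_true hb, Nat.eq_of_beq_eq_true hc,
    Nat.eq_of_beq_eq_true hd⟩

namespace Setup

variable {U : Type*} [Group U] (S : Setup U)

/-- The product of the lifts of a word. -/
noncomputable def wordU (w : List ℕ) : U := (w.map fun g => S.ln (el g)).prod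

theorem wordU_spec : ∀ (w : List ℕ), (∀ g ∈ w, g < nX) → S.wordU w ∈ S.N ∧
    ∀ (q : Spor.Co1) (M : ℕ), RowsOf q M → RowsOf (q * S.π (S.wordU w)) (wordR M w)
  | [], _ => ⟨by simp [wordU], fun q M h => by simpa [wordU, wordR] using h⟩
  | g :: w, h => by
    obtain ⟨hm, hw⟩ := wordU_spec w fun x hx => h x (List.mem_cons_of_mem _ hx)
    have hg := h g List.mem_cons_self
    obtain ⟨hgm, hge⟩ := S.ln_spec (el_N2 hg)
    have e : S.wordU (g :: w) = S.ln (el g) * S.wordU w := by simp [wordU]
    refine ⟨e ▸ mul_mem hgm hm, fun q M hq => ?_⟩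
    rw [e, map_mul, ← mul_assoc, wordR]
    exact hw _ _ (by rw [hge]; exact hq.mul (rows_el hg.le))

/-- The lifts of the representatives. -/
noncomputable def uI : ℕ → U
  | i => if h : 2 ≤ i ∧ par i < i then uI (par i) * S.wordU (parW i) * S.tt else 1
termination_by i => i
decreasing_by exact h.2

theorem uI_one : S.uI 1 = 1 := by
  rw [uI, dif_neg]; rintro ⟨h, -⟩; omega

theorem uI_step {i : ℕ} (h1 : 2 ≤ i) (h2 : i ≤ 6) :
    S.uI i = S.uI (par i) * S.wordU (parW i) * S.tt := by
  rw [uI, dif_pos ⟨h1, (par_ok i h1 h2).2⟩]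

/-- The representatives. -/
noncomputable def xr (i : ℕ) : U ⧸ S.N := S.uI i • S.o

theorem uI_rows : ∀ i, Idx i → RowsOf (S.π (S.uI i)) (GR i) := by
  intro i
  induction i using Nat.strongRecOn with
  | _ i ih =>
    intro hi
    obtain ⟨h1, h2⟩ := hi
    rcases Nat.lt_or_ge i 2 with hlt | hge
    · obtain rfl : i = 1 := by omega
      rw [S.uI_one, map_one, GR_one]; exact rowsOf_id
    · obtain ⟨ha, -, hc, -⟩ := orb_spec hge h2
      obtain ⟨hp1, hp⟩ := par_ok i hge h2
      have hw := (S.wordU_spec _ ha).2 1 idR rowsOf_id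
      rw [one_mul] at hw
      rw [S.uI_step hge h2, hc, map_mul, map_mul, S.tt_pi, mul_assoc]
      exact (ih _ hp ⟨hp1, by omega⟩).mul (hw.mul (rows_el le_rfl))

theorem app_GR {i : ℕ} (hi : Idx i) {v : ℕ} (hv : v < 16777216) :
    app (GR i) v = act (S.π (S.uI i)) v := S.uI_rows i hi v hv

theorem pb_xr {i : ℕ} (hi : Idx i) : S.pb (S.xr i) = VV i := by
  rw [VV, S.app_GR hi C0_lt, xr, S.pb_smul]
  show act _ (S.pb (QuotientGroup.mk 1)) = _
  rw [S.pb_mk, map_one, act_one C0_lt]

theorem VV_lt (i : ℕ) : VV i < 16777216 := app_lt _ _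

theorem parR_lt {i : ℕ} (h1 : 2 ≤ i) (h2 : i ≤ 6) : parR i < 16777216 := by
  rw [← (orb_spec h1 h2).2.1]; exact app_lt _ _

theorem tree_edge {i : ℕ} (h1 : 2 ≤ i) (h2 : i ≤ 6) : S.Adj (S.xr (par i)) (S.xr i) ∧
    S.pb (S.xr i) = app (GR (par i)) (parR i) := by
  obtain ⟨ha, hb, -, -⟩ := orb_spec h1 h2
  obtain ⟨hm, hw⟩ := S.wordU_spec _ ha
  refine ⟨⟨S.uI (par i) * S.wordU (parW i), ?_, ?_⟩, ?_⟩
  · rw [mul_smul, S.fix_o hm]; rfl
  · rw [xr, S.uI_step h1 h2]
  · have hw1 := hw 1 idR rowsOf_id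
    rw [one_mul] at hw1
    rw [xr, S.uI_step h1 h2, mul_assoc, mul_smul, mul_smul, S.pb_smul, S.pb_smul, S.pb_tt,
      S.app_GR (idx_par h1 h2) (parR_lt h1 h2), ← hb, hw1 _ c1_lt]

theorem xr_one : S.xr 1 = S.o := by rw [xr, S.uI_one, one_smul]

theorem xr_two : S.xr 2 = S.tt • S.o := by
  obtain ⟨h, e⟩ := S.tree_edge (i := 2) le_rfl (by norm_num)
  rw [parR_two.2, S.xr_one] at h
  refine S.adj_unique h S.adj_tt ?_
  rw [e, parR_two.1, parR_two.2, GR_one, S.pb_tt, rowsOf_id _ c1_lt, act_one c1_lt]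

/-- A fixing letter. -/
def FixOK (i g : ℕ) : Prop := g < nX ∧ S.ln (el g) • S.xr i = S.xr i

/-- A fact. -/
def FOK (F : Fact) : Prop :=
  Idx F.i ∧ Idx F.l ∧ ∃ m ∈ S.N, RowsOf (S.π m) F.m ∧ S.Adj (S.xr F.i) (m • S.xr F.l) ∧
    app F.m (VV F.l) = app (GR F.i) F.r ∧ F.r < 16777216

/-- A state. -/
def SOK (T : St) : Prop := (∀ F ∈ T.facts, S.FOK F) ∧ ∀ x ∈ T.fixes, S.FixOK x.1 x.2

theorem okLet_spec {T : St} (hT : S.SOK T) {i g : ℕ} (h : okLet T i g = true) : S.FixOK i g := by
  simp only [okLet, Bool.and_eq_true, Bool.or_eq_true, List.any_eq_true] at h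
  obtain ⟨hg, h⟩ := h
  have hg' : g < nX := Nat.le_of_ble_eq_true hg
  obtain ⟨hm, he⟩ := S.ln_spec (el_N2 hg')
  refine ⟨hg', ?_⟩
  rcases h with (h | ⟨h, h'⟩) | ⟨x, hx, h1, h2⟩
  · rw [Nat.eq_of_beq_eq_true h, S.xr_one, S.fix_o hm]
  · rw [Nat.eq_of_beq_eq_true h, S.xr_two]
    refine S.eloc hm ?_
    rw [he, el_act hg'.le c1_lt, Nat.eq_of_beq_eq_true h']
  · rw [← Nat.eq_of_beq_eq_true h1, ← Nat.eq_of_beq_eq_true h2]
    exact (hT.2 x hx).2

theorem word_fix {T : St} (hT : S.SOK T) {i : ℕ} : ∀ {w : List ℕ}, (∀ g ∈ w, okLet T i g = true) →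
    S.wordU w • S.xr i = S.xr i
  | [], _ => by simp [wordU]
  | g :: w, h => by
    rw [show S.wordU (g :: w) = S.ln (el g) * S.wordU w by simp [wordU], mul_smul,
      word_fix hT fun x hx => h x (List.mem_cons_of_mem _ hx), (S.okLet_spec hT (h g List.mem_cons_self)).2]

theorem rows_app {q : Spor.Co1} {M v : ℕ} (h : RowsOf q M) (hv : v < 16777216) :
    app M v = act q v := h v hv

theorem moved_spec {T : St} (hT : S.SOK T) {f : ℕ} {w : List ℕ} {M : ℕ} {N : Fact}
    (h : moved T f w M = some N) {m : U} (hm : m ∈ S.N) (hM : RowsOf (S.π m) M) :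
    Idx N.i ∧ Idx N.l ∧ ∃ m' ∈ S.N, RowsOf (S.π m') N.m ∧ S.Adj (m • S.xr N.i) (m' • S.xr N.l) := by
  simp only [moved] at h
  cases hlt : Nat.blt f T.facts.length
  · rw [hlt] at h; exact absurd h (by simp)
  rw [hlt, cond_true] at h
  cases hw : w.all (okLet T (T.facts.getD f ⟨0, 0, 0, 0⟩).i)
  · rw [hw] at h; exact absurd h (by simp)
  rw [hw, cond_true, Option.some.injEq] at h
  have hf : f < T.facts.length := Nat.le_of_ble_eq_true hlt
  have hF : S.FOK (T.facts.getD f ⟨0, 0, 0, 0⟩) := by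
    rw [List.getD_eq_getElem _ _ hf]; exact hT.1 _ (List.getElem_mem hf)
  obtain ⟨hi, hl, g, hg, hgr, hadj, -⟩ := hF
  subst h
  simp only [List.all_eq_true] at hw
  obtain ⟨hwm, hwr⟩ := S.wordU_spec w fun x hx => (S.okLet_spec hT (hw x hx)).1
  refine ⟨hi, hl, m * S.wordU w * g, mul_mem (mul_mem hm hwm) hg, ?_, ?_⟩
  · rw [map_mul, map_mul]; exact (hwr _ _ hM).mul hgr
  · have := S.adj_smul (m * S.wordU w) hadj
    rw [mul_smul, S.word_fix hT hw] at this
    rwa [mul_smul _ g]

theorem start_spec {T : St} (hT : S.SOK T) {i f : ℕ} {w : List ℕ} {F : Fact}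
    (h : start T i f w = some F) : F.i = i ∧ S.FOK F := by
  rw [start] at h
  cases hmv : moved T f w idR with
  | none => rw [hmv] at h; exact absurd h (by simp)
  | some N =>
    rw [hmv] at h
    simp only at h
    cases hi : Nat.beq N.i i
    · rw [hi] at h; exact absurd h (by simp)
    rw [hi, cond_true] at h
    have hi' := Nat.eq_of_beq_eq_true hi
    obtain ⟨h1, h2, m', hm', hr', hadj⟩ :=
      S.moved_spec hT hmv (one_mem S.N) (by rw [map_one]; exact rowsOf_id)
    rw [one_smul] at hadj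
    cases w with
    | nil =>
      simp only [Option.some.injEq] at h
      subst h
      refine ⟨hi', h1, h2, m', hm', hr', hadj, ?_⟩
      simp only [moved] at hmv
      cases hlt : Nat.blt f T.facts.length
      · rw [hlt] at hmv; exact absurd hmv (by simp)
      rw [hlt, cond_true, List.all_nil, cond_true, Option.some.injEq] at hmv
      have hf : f < T.facts.length := Nat.le_of_ble_eq_true hlt
      have hF : S.FOK (T.facts.getD f ⟨0, 0, 0, 0⟩) := by
        rw [List.getD_eq_getElem _ _ hf]; exact hT.1 _ (List.getElem_mem hf)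
      obtain ⟨hiF, -, g, -, hgr, -, he, hlt'⟩ := hF
      subst hmv
      refine ⟨?_, hlt'⟩
      show app (mulR idR _) _ = _
      rw [(rowsOf_id.mul hgr) _ (VV_lt _), one_mul, ← hgr _ (VV_lt _), he]
    | cons a as =>
      simp only at h
      split at h
      · exact absurd h (by simp)
      · rename_i k hk
        rw [Option.some.injEq] at h
        subst h
        have hk' := List.find?_some hk
        have := Nat.eq_of_beq_eq_true hk'
        exact ⟨hi', h1, h2, m', hm', hr', hadj, (by simp only; rw [hi', ← this]), rowAt_lt _ _⟩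

theorem walk_spec {T : St} (hT : S.SOK T) {i : ℕ} : ∀ {ss : List Step} {F N : Fact},
    walk T i ss F = some N → F.i = i → S.FOK F → N.i = i ∧ S.FOK N
  | [], F, N, h, hi, hF => by
    simp only [walk, Option.some.injEq] at h
    subst h; exact ⟨hi, hF⟩
  | s :: ss, F, N, h, hi, hF => by
    rw [walk] at h
    cases hmv : moved T s.f s.word F.m with
    | none => rw [hmv] at h; exact absurd h (by simp)
    | some K =>
      rw [hmv] at h
      simp only at h
      cases hc : (Nat.beq K.i F.l && Nat.blt s.res nX && Nat.beq (app (GR i) s.r) (app K.m (VV K.l)) &&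
          inTree adjLevel (app (rt s.res) F.r) && inTree adjLevel (app (rt s.res) s.r) &&
          Nat.blt F.r 16777216 && Nat.blt s.r 16777216)
      · rw [hc] at h; exact absurd h (by simp)
      rw [hc, cond_true] at h
      simp only [Bool.and_eq_true] at hc
      obtain ⟨⟨⟨⟨⟨⟨c1', c2⟩, c3⟩, c4⟩, c5⟩, c6⟩, c7⟩ := hc
      obtain ⟨hiF, hlF, m, hm, hr, hadj, he, hlt⟩ := hF
      obtain ⟨hiK, hlK, m', hm', hr', hadj'⟩ := S.moved_spec hT hmv hm hr
      rw [Nat.eq_of_beq_eq_true c1'] at hadj'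
      rw [hi] at hiF hadj he
      have hlt2 : s.r < 16777216 := Nat.le_of_ble_eq_true c7
      have e1 : S.pb (m • S.xr F.l) = act (S.π (S.uI i)) F.r := by
        rw [S.pb_smul, S.pb_xr hlF, ← hr _ (VV_lt _), he, S.app_GR hiF hlt]
      have e2 : S.pb (m' • S.xr K.l) = act (S.π (S.uI i)) s.r := by
        rw [S.pb_smul, S.pb_xr hlK, ← hr' _ (VV_lt _), ← Nat.eq_of_beq_eq_true c3, S.app_GR hiF hlt2]
      have h3 := S.res_move (u := S.uI i) (Nat.le_of_ble_eq_true c2) hlt hlt2 hadj hadj' e1 e2 c4 c5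
      exact walk_spec hT h rfl ⟨hiF, hlK, m', hm', hr', h3, (Nat.eq_of_beq_eq_true c3).symm, hlt2⟩

theorem step_spec {T T' : St} (hT : S.SOK T) {op : Op} (h : stepOp T op = some T') : S.SOK T' := by
  cases op with
  | defF p i =>
    rw [stepOp] at h
    cases hc : (Nat.beq (par i) p && Nat.ble 2 i && Nat.ble i 6)
    · rw [hc] at h; exact absurd h (by simp)
    rw [hc, cond_true, Option.some.injEq] at h
    simp only [Bool.and_eq_true] at hc
    obtain ⟨⟨c1', c2⟩, c3⟩ := hc
    have h1 : 2 ≤ i := Nat.le_of_ble_eq_true c2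
    have h2 : i ≤ 6 := Nat.le_of_ble_eq_true c3
    obtain ⟨hadj, he⟩ := S.tree_edge h1 h2
    subst h
    rw [← Nat.eq_of_beq_eq_true c1']
    refine ⟨fun F hF => ?_, hT.2⟩
    rcases List.mem_append.1 hF with hF | hF
    · exact hT.1 F hF
    have hid : ∀ l, app idR (VV l) = VV l := fun l => by
      rw [rowsOf_id _ (VV_lt l), act_one (VV_lt l)]
    simp only [List.mem_cons, List.not_mem_nil, or_false] at hF
    rcases hF with rfl | rfl
    · refine ⟨idx_par h1 h2, ⟨(by omega : 1 ≤ i), h2⟩, 1, one_mem _, by rw [map_one]; exact rowsOf_id, ?_, ?_,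
        parR_lt h1 h2⟩
      · rwa [one_smul]
      · rw [hid, ← S.pb_xr ⟨(by omega : 1 ≤ i), h2⟩, he]
    · refine ⟨⟨(by omega : 1 ≤ i), h2⟩, idx_par h1 h2, 1, one_mem _, by rw [map_one]; exact rowsOf_id, ?_, ?_, c1_lt⟩
      · rw [one_smul]; exact S.adj_symm hadj
      · rw [hid, (orb_spec h1 h2).2.2.2]
  | walkF i f w steps =>
    rw [stepOp] at h
    cases hs : start T i f w with
    | none => rw [hs] at h; exact absurd h (by simp)
    | some F =>
      rw [hs] at h
      simp only at h
      cases hw : walk T i steps F with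
      | none => rw [hw] at h; exact absurd h (by simp)
      | some N =>
        rw [hw] at h
        simp only [Option.some.injEq] at h
        subst h
        obtain ⟨hi, hF⟩ := S.start_spec hT hs
        obtain ⟨-, hN⟩ := S.walk_spec hT hw hi hF
        refine ⟨fun G hG => ?_, hT.2⟩
        rcases List.mem_append.1 hG with hG | hG
        · exact hT.1 G hG
        · rw [List.mem_singleton.1 hG]; exact hN
  | fixF i hh f steps fl =>
    rw [stepOp] at h
    cases hs : start T i f [] with
    | none => rw [hs] at h; exact absurd h (by simp)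
    | some F =>
      rw [hs] at h
      simp only at h
      cases hc : (Nat.beq F.m idR && Nat.beq F.r c1 && Nat.beq F.l (par i) && Nat.blt hh nX && Nat.ble 2 i &&
          Nat.beq (app (rt hh) (VV i)) (VV i))
      · rw [hc] at h; exact absurd h (by simp)
      rw [hc, cond_true] at h
      cases hw : walk T i steps F with
      | none => rw [hw] at h; exact absurd h (by simp)
      | some N =>
        rw [hw] at h
        simp only at h
        cases hd : (Nat.beq N.l (par i) && Nat.beq (app (GR i) N.r) (app (rt hh) (VV (par i))) &&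
            sameAt T (par i) hh N.m fl)
        · rw [hd] at h; exact absurd h (by simp)
        rw [hd, cond_true, Option.some.injEq] at h
        subst h
        simp only [Bool.and_eq_true] at hc hd
        obtain ⟨⟨⟨⟨⟨a1, -⟩, a3⟩, a4⟩, -⟩, a6⟩ := hc
        obtain ⟨⟨b1, -⟩, b3⟩ := hd
        obtain ⟨hi, hF⟩ := S.start_spec hT hs
        obtain ⟨hiN, hN⟩ := S.walk_spec hT hw hi hF
        obtain ⟨hiF, hlF, m0, hm0, hr0, hadj0, -⟩ := hF
        obtain ⟨-, hlN, m, hm, hr, hadj, -⟩ := hN
        have hg : hh < nX := Nat.le_of_ble_eq_true a4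
        obtain ⟨hhm, hhe⟩ := S.ln_spec (el_N2 hg)
        refine ⟨hT.1, fun x hx => ?_⟩
        rcases List.mem_append.1 hx with hx | hx
        · exact hT.2 x hx
        rw [List.mem_singleton.1 hx]
        refine ⟨hg, ?_⟩
        rw [hi, Nat.eq_of_beq_eq_true a3] at hadj0
        rw [hi] at hiF
        have hone : m0 = 1 := S.injN hm0 (one_mem _) (by
          rw [map_one]; exact el_eq_of_rows hr0 rowsOf_id a1)
        rw [hone, one_smul] at hadj0
        rw [hiN, Nat.eq_of_beq_eq_true b1] at hadj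
        set h0 := S.ln (el hh) with hh0
        have hfix : m • S.xr (par i) = h0 • S.xr (par i) := by
          cases fl with
          | none =>
            simp only [sameAt, Bool.and_eq_true] at b3
            rw [Nat.eq_of_beq_eq_true b3.1, S.xr_two]
            have : (h0⁻¹ * m) • (S.tt • S.o) = S.tt • S.o := by
              refine S.eloc (mul_mem (inv_mem hhm) hm) ?_
              rw [map_mul, map_inv, hhe, act_mul _ _ c1_lt, ← hr _ c1_lt, Nat.eq_of_beq_eq_true b3.2,
                ← el_act hg.le c1_lt, act_inv_act _ c1_lt]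
            rw [mul_smul] at this
            exact inv_smul_eq_iff.1 this
          | some g =>
            simp only [sameAt, Bool.and_eq_true] at b3
            obtain ⟨hgl, hgf⟩ := S.okLet_spec hT b3.1
            obtain ⟨hgm, hge⟩ := S.ln_spec (el_N2 hgl)
            have : m = h0 * S.ln (el g) := S.injN hm (mul_mem hhm hgm) (by
              rw [map_mul, hhe, hge]
              exact (el_eq_of_rows ((rows_el hg.le).mul (rows_el hgl.le)) hr b3.2).symm)
            rw [this, mul_smul, hgf]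
        rw [hfix] at hadj
        refine S.adj_unique (S.adj_smul h0 (S.adj_symm hadj0)) (S.adj_symm hadj) ?_
        rw [S.pb_smul, hhe, S.pb_xr hiF, el_act hg.le (VV_lt i), Nat.eq_of_beq_eq_true a6]

theorem run_spec : ∀ {os : List Op} {T T' : St}, S.SOK T → runOps os T = some T' → S.SOK T'
  | [], T, T', hT, h => by
    simp only [runOps, Option.some.injEq] at h
    subst h; exact hT
  | o :: os, T, T', hT, h => by
    rw [runOps] at h
    cases hs : stepOp T o with
    | none => rw [hs] at h; exact absurd h (by simp)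
    | some T1 => rw [hs] at h; exact run_spec (S.step_spec hT hs) h

end Setup

end CfsgLib.Recog.CoOneInv.Cover
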