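import Cfsg.Agent.Lib.Recog.CoOneInv.CoverOkLetters
import Cfsg.Agent.Lib.ClassK.ConwayMain

/-!
The letters of the certificate as elements of `Co1`, and orders of subgroups from orbit trees.
-/

set_option autoImplicit false
set_option maxRecDepth 100000
set_option maxHeartbeats 1000000

namespace CfsgLib.Recog.CoOneInv.Cover

open Cfsg CfsgLib.Golay
open scoped Pointwise

attribute [local irreducible] permOf mset monoCo0

instance co1_finite : Finite Spor.Co1 := Quotient.finite _

/-- A monomial letter in `Co0`. -/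
noncomputable def mono0 (k : ℕ) : Co0 :=
  if h : inM24 (letT.getD k (0, 0)).1 = true ∧ isCode (letT.getD k (0, 0)).2 = true then
    monoCo0 (permOf (letT.getD k (0, 0)).1) (inM24_mem h.1) (mset (letT.getD k (0, 0)).2)
      (mem_supports_iff.2 ⟨_, h.2, rfl⟩)
  else 1

/-- A letter. -/
noncomputable def el (k : ℕ) : Spor.Co1 :=
  if k = nX then E8Cent.pr E8Cent.xi else E8Cent.pr (mono0 k)

theorem cast_md16 (a : ℤ) : (((a % 16).toNat : ℕ) : ZMod 16) = (a : ZMod 16) := by
  have h : (((a % 16).toNat : ℕ) : ℤ) = a % 16 := Int.toNat_of_nonneg (Int.emod_nonneg _ (by norm_num))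
  rw [← Int.cast_natCast, h]
  exact ZMod.intCast_mod a 16

theorem table_spec (j : Fin 24) {p : ℕ} (hp : p < 24) :
    rowAt (bcolT.getD p 0) j = (bf j (pt p) % 16).toNat ∧
      rowAt (dposT.getD j.val 0) p = (df j (pt p) % 16).toNat ∧
      rowAt (dnegT.getD j.val 0) p = (-df j (pt p) % 16).toNat := by
  have h := tables_ok
  simp only [tablesOK, List.all_eq_true, List.mem_range, Bool.and_eq_true] at h
  obtain ⟨⟨h1, h2⟩, h3⟩ := h j (List.mem_finRange j) p hp
  exact ⟨Nat.eq_of_beq_eq_true h1, Nat.eq_of_beq_eq_true h2, Nat.eq_of_beq_eq_true h3⟩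

theorem packR_map : ∀ (n : ℕ) (f : ℕ → ℕ),
    packR ((List.range n).map f) = ∑ i ∈ Finset.range n, f i * 16777216 ^ i
  | 0, _ => rfl
  | n + 1, f => by
    rw [List.range_succ_eq_map, List.map_cons, List.map_map, packR, packR_map n (f ∘ Nat.succ),
      Finset.sum_range_succ']
    show f 0 + 16777216 * (_ : ℕ) = _
    rw [add_comm (f 0)]
    refine congrArg₂ (· + ·) ?_ ?_
    · rw [Finset.mul_sum]
      refine Finset.sum_congr rfl fun i _ => ?_
      rw [Function.comp_apply, pow_succ]
      ring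
    · simp

theorem bcol_pack : (List.range 24).all (fun q => Nat.beq (bcolT.getD q 0)
    (packR ((List.range 24).map fun i => rowAt (bcolT.getD q 0) i)) &&
    (List.range 24).all fun i => Nat.blt (rowAt (bcolT.getD q 0) i) 16) = true := by decide +kernel

theorem dual_small : (List.range 24).all (fun j => (List.range 24).all fun p =>
    Nat.blt (rowAt (dposT.getD j 0) p) 16 && Nat.blt (rowAt (dnegT.getD j 0) p) 16) = true := by
  decide +kernel

theorem foldr_sum : ∀ (l : List ℕ) (f : ℕ → ℕ),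
    l.foldr (fun p acc => Nat.add (f p) acc) 0 = (l.map f).sum
  | [], _ => rfl
  | a :: l, f => by
    rw [List.foldr_cons, List.map_cons, List.sum_cons, foldr_sum l f]
    rfl

section

attribute [local irreducible] bcolT dposT dnegT rowAt img packR Nat.testBit

theorem monoAcc_spec {code : ℕ} (hv : valid code = true) (mask : ℕ) (j i : Fin 24) :
    ((rowAt (monoAcc code mask j) i : ℕ) : ZMod 16) =
      (dotInt (signedPerm (permOf code) (mset mask) (df j)) (bf i) : ℤ) := by
  set w : ℕ → ℕ := fun p =>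
    rowAt (bif mask.testBit (img code p) then dnegT.getD j 0 else dposT.getD j 0) p with hw
  have himg : ∀ p < 24, img code p < 24 := fun p hp => valid_lt hv hp
  have hb : ∀ q < 24, bcolT.getD q 0 = packR ((List.range 24).map fun i => rowAt (bcolT.getD q 0) i) ∧
      ∀ i < 24, rowAt (bcolT.getD q 0) i < 16 := fun q hq => by
    have h := bcol_pack
    simp only [List.all_eq_true, List.mem_range, Bool.and_eq_true] at h
    exact ⟨Nat.eq_of_beq_eq_true (h q hq).1, fun i hi => Nat.le_of_ble_eq_true ((h q hq).2 i hi)⟩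
  have hws : ∀ p < 24, w p < 16 := fun p hp => by
    have h := dual_small
    simp only [List.all_eq_true, List.mem_range, Bool.and_eq_true] at h
    simp only [hw]
    cases mask.testBit (img code p)
    · exact Nat.le_of_ble_eq_true (h j j.2 p hp).1
    · exact Nat.le_of_ble_eq_true (h j j.2 p hp).2
  have hacc : monoAcc code mask j = packR ((List.range 24).map fun i =>
      ∑ p ∈ Finset.range 24, w p * rowAt (bcolT.getD (img code p) 0) i) := by
    rw [monoAcc, foldr_sum, packR_map, ← List.sum_toFinset _ List.nodup_range, List.toFinset_range]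
    simp only [Finset.sum_mul]
    rw [Finset.sum_comm]
    refine Finset.sum_congr rfl fun p hp => ?_
    show Nat.mul (w p) _ = _
    have hp' := himg p (Finset.mem_range.1 hp)
    conv_lhs => rw [(hb _ hp').1, packR_map]
    show w p * _ = _
    rw [Finset.mul_sum]
    exact Finset.sum_congr rfl fun i _ => (mul_assoc _ _ _).symm
  rw [hacc, rowAt_packR _ _ (fun a ha => by
    obtain ⟨k, hk, rfl⟩ := List.mem_map.1 ha
    refine lt_of_le_of_lt (Finset.sum_le_card_nsmul _ _ 256 fun p hp => ?_) (by norm_num)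
    have h1 := hws p (Finset.mem_range.1 hp)
    have h2 := (hb _ (himg p (Finset.mem_range.1 hp))).2 k (List.mem_range.1 hk)
    nlinarith),
    List.getD_eq_getElem _ _ (by simp), List.getElem_map, List.getElem_range, Nat.cast_sum]
  rw [dotInt, Int.cast_sum, ← Equiv.sum_comp (permOf code), Finset.sum_range fun p =>
    ((w p * rowAt (bcolT.getD (img code p) 0) i : ℕ) : ZMod 16)]
  let ε : Fin 24 ≃ GolayPt :=
    { toFun := fun p => pt p.val
      invFun := fun q => ⟨idx q, idx_lt q⟩
      left_inv := fun p => Fin.ext (idx_pt p.2)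
      right_inv := pt_idx }
  rw [← Equiv.sum_comp ε]
  refine Finset.sum_congr rfl fun p _ => ?_
  show _ = ((signedPerm (permOf code) (mset mask) (df j) (permOf code (pt p)) * bf i (permOf code (pt p)) : ℤ) : ZMod 16)
  have hpt : (permOf code) (pt p) = pt (img code p) := permOf_pt hv p.2
  have hmem : permOf code (pt p) ∈ mset mask ↔ mask.testBit (img code p) = true := by
    rw [hpt, mem_mset, idx_pt (himg p p.2)]
  simp only [signedPerm, Equiv.symm_apply_apply, hmem]
  obtain ⟨e1, -, -⟩ := table_spec i (himg p p.2)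
  obtain ⟨-, e2, e3⟩ := table_spec j p.2
  rw [Nat.cast_mul, e1, cast_md16, hpt, Int.cast_mul]
  refine congrArg (· * _) ?_
  simp only [hw]
  cases mask.testBit (img code p)
  · simp only [cond_false, Bool.false_eq_true, if_false]
    rw [e2, cast_md16]
  · simp only [cond_true, if_true]
    rw [e3, cast_md16]

end

theorem mono_rows {k : ℕ} (hk : k < nX) : IsRows (mono0 k) (rt k) := by
  have h := letters_ok
  simp only [lettersOK, List.all_eq_true, List.mem_range'_1] at h
  have hk' := h k ⟨Nat.zero_le _, by omega⟩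
  simp only [letterOK, Bool.and_eq_true, List.all_eq_true, List.mem_range] at hk'
  obtain ⟨⟨h1, h2⟩, h3⟩ := hk'
  intro j
  refine eq_of_bz (rowAt_lt _ _) (key_lt _) fun i => ?_
  have h4 := h3 j j.2
  simp only [monoRowOK, List.all_eq_true, List.mem_range] at h4
  have h5 : rowAt (monoAcc (letT.getD k (0, 0)).1 (letT.getD k (0, 0)).2 j) i % 16 =
      bif (rowAt (rt k) j).testBit i then 8 else 0 := Nat.eq_of_beq_eq_true (h4 i i.2)
  have h6 := monoAcc_spec (inM24_valid h1) (letT.getD k (0, 0)).2 j i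
  set x : leechLattice := mono0 k • dv j with hx
  have e : (x : GolayPt → ℤ) = signedPerm (permOf (letT.getD k (0, 0)).1)
      (mset (letT.getD k (0, 0)).2) (df j) := by
    rw [hx, mono0, dif_pos ⟨h1, h2⟩, monoCo0_smul]
    rfl
  rw [← e] at h6
  have hd := kz_mul x i
  rw [← Int.cast_natCast (R := ZMod 16), ZMod.intCast_eq_intCast_iff'] at h6
  rw [bz, bz_key]
  generalize rowAt (monoAcc (letT.getD k (0, 0)).1 (letT.getD k (0, 0)).2 j) i = a at h5 h6
  rcases Int.emod_two_eq_zero_or_one (kz (x : GolayPt → ℤ) i) with h' | h'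
  · rw [← ZMod.intCast_mod (kz (x : GolayPt → ℤ) i)]
    cases hb : (rowAt (rt k) j).testBit i <;> simp [hb] at h5
    · simp [h']
    · omega
  · rw [← ZMod.intCast_mod (kz (x : GolayPt → ℤ) i)]
    cases hb : (rowAt (rt k) j).testBit i <;> simp [hb] at h5
    · omega
    · simp [h']

theorem xi_isRows : IsRows E8Cent.xi (rt nX) := fun j => by
  refine eq_of_bz (rowAt_lt _ _) (key_lt _) fun i => ?_
  rw [bz, bz, key, keyF, Nat.testBit_ofBits_lt _ _ i.2, ← xi_rows j i]
  rfl

theorem rows_el {k : ℕ} (hk : k ≤ nX) : RowsOf (el k) (rt k) := by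
  rcases Nat.lt_or_eq_of_le hk with h | h
  · rw [el, if_neg h.ne]; exact rowsOf_pr (mono_rows h)
  · subst h; rw [el, if_pos rfl]; exact rowsOf_pr xi_isRows

theorem el_N2 {k : ℕ} (hk : k < nX) : el k ∈ N2 := by
  rw [el, if_neg hk.ne]
  refine ⟨_, ?_, rfl⟩
  rw [mono0]
  split_ifs with h
  · exact mono_mem_N0 ⟨_, inM24_mem h.1⟩ _ _
  · exact one_mem _

theorem rowsOf_id : RowsOf (1 : Spor.Co1) idR := by
  have h : IsRows (1 : Co0) idR := fun j => by
    have e : ∀ j : Fin 24, rowAt idR j = keyF (df j) := by decide +kernel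
    rw [one_smul]
    exact e j
  simpa using rowsOf_pr h

theorem el_eq_of_rows {p q : Spor.Co1} {A B : ℕ} (hp : RowsOf p A) (hq : RowsOf q B)
    (h : Nat.beq A B = true) : p = q := by
  rw [Nat.eq_of_beq_eq_true h] at hp
  exact hp.unique hq

theorem el_zLet : el zLet = E8Cent.z1 := by
  obtain ⟨-, -, e1, e2⟩ := kZ_avoid
  have hlt : zLet < nX := by decide
  have h := letters_ok
  simp only [lettersOK, List.all_eq_true, List.mem_range'_1] at h
  have hk' := h zLet ⟨Nat.zero_le _, by omega⟩
  simp only [letterOK, Bool.and_eq_true] at hk'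
  rw [el, if_neg hlt.ne, E8Cent.z1, mono0, dif_pos ⟨hk'.1.1, hk'.1.2⟩, E8Cent.epsC, sign0]
  refine congrArg E8Cent.pr (monoCo0_congr (σ := ⟨_, inM24_mem hk'.1.1⟩) (τ := 1) (Subtype.ext ?_) ?_)
  · show permOf (letT.getD zLet (0, 0)).1 = 1
    rw [e1, permOf_idCode]
  · rw [e2]

theorem el_kZ : el kZ ∈ E8Cent.Qc.map E8Cent.C1.subtype := by
  obtain ⟨e1, e2, -, -⟩ := kZ_avoid
  have hlt : kZ < nX := by decide
  have hm : mono0 kZ ∈ E8Cent.K0 := by
    rw [mono0]
    split_ifs with h
    · refine E8Cent.mono_mem_K0 (σ := ⟨_, inM24_mem h.1⟩) ?_ ?_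
      · show permOf (letT.getD kZ (0, 0)).1 ∈ _
        rw [e2, permOf_idCode]; exact one_mem _
      · intro p hp hp'
        have : p ∈ mset ((letT.getD kZ (0, 0)).2 &&& E8Cent.octB) := by
          rw [mset_and]; exact Finset.mem_inter.2 ⟨hp, hp'⟩
        rw [show (letT.getD kZ (0, 0)).2 &&& E8Cent.octB = 0 from e1, mset_zero] at this
        exact absurd this (Finset.notMem_empty p)
    · exact one_mem _
  refine ⟨E8Cent.kHom ⟨_, hm⟩, ⟨_, rfl⟩, ?_⟩
  rw [el, if_neg hlt.ne]
  rfl

theorem commZ_spec {g : ℕ} (hg : g ≤ nX) (h : commZ g = true) : el g ∈ E8Cent.C1 := by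
  have hz : zLet ≤ nX := by decide
  rw [E8Cent.C1, Subgroup.mem_centralizer_singleton_iff, ← el_zLet]
  exact el_eq_of_rows ((rows_el hg).mul (rows_el hz)) ((rows_el hz).mul (rows_el hg)) h

theorem card_N2 : Nat.card N2 = 501397585920 := by
  have hker : E8Cent.pr.ker ≤ N0 := fun g hg => by
    rw [mem_classStab, ← key_eq_iff, key_pr (g := g) (h := 1) (by rw [MonoidHom.mem_ker.1 hg, map_one]),
      one_smul]
  have hi : N2.index = 8292375 :=
    (Subgroup.index_map_eq _ (QuotientGroup.mk'_surjective _) hker).trans index_N0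
  have h := Subgroup.card_mul_index N2
  have hc : Nat.card Spor.Co1 = 4157776806543360000 := card_Co1
  rw [hi, hc] at h
  exact Nat.eq_of_mul_eq_mul_right (show 0 < 8292375 by norm_num) (h.trans (by norm_num))

theorem card_C1 : Nat.card E8Cent.C1 = 89181388800 := by
  have h := Subgroup.card_mul_index (E8Cent.barO.ker)
  rw [Subgroup.index_ker, MonoidHom.range_eq_top.2 E8Cent.barO_surjective, Subgroup.card_top,
    E8Cent.ker_barO, ← Nat.card_congr E8Cent.qEquiv.toEquiv, E8Cent.card_K0] at h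
  rw [← h, CfsgLib.Classical.qfPlus_coe, CfsgLib.ClassK.Conway.card_omega8plus]
  norm_num

theorem rows_canonical : (List.range (nX + 1)).all (fun k =>
    Nat.beq (rt k) (packR ((List.range 24).map fun j => rowAt (rt k) j))) = true := by decide +kernel

theorem app_single (R : ℕ) (j : Fin 24) : app R (2 ^ j.val) = rowAt R j := by
  refine eq_of_bz (app_lt _ _) (rowAt_lt _ _) fun i => ?_
  rw [bz_app, Finset.sum_eq_single j]
  · simp [bz]
  · intro k _ hk
    have : ((2 : ℕ) ^ j.val).testBit k.val = false := by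
      rw [Nat.testBit_two_pow]
      exact decide_eq_false fun e => hk (Fin.ext e.symm)
    simp [bz, this]
  · simp

/-- Letters acting alike have the same matrix. -/
theorem rt_inj {a b : ℕ} (ha : a < nX) (hb : b < nX)
    (h : ∀ v < 16777216, app (rt a) v = app (rt b) v) : rt a = rt b := by
  have hc := rows_canonical
  simp only [List.all_eq_true, List.mem_range] at hc
  rw [Nat.eq_of_beq_eq_true (hc a (by omega)), Nat.eq_of_beq_eq_true (hc b (by omega))]
  refine congrArg packR (List.map_congr_left fun j hj => ?_)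
  have hj' := List.mem_range.1 hj
  have := h (2 ^ j) (lt_of_lt_of_le (Nat.pow_lt_pow_right (by norm_num) hj') (by norm_num))
  rwa [show (j : ℕ) = ((⟨j, hj'⟩ : Fin 24) : ℕ) from rfl, app_single, app_single] at this

/-! ### Orbit trees -/

theorem memN_iff {k : ℕ} : ∀ {l : List ℕ}, memN k l = true ↔ k ∈ l
  | [] => by simp [memN]
  | a :: l => by
    simp only [memN, Bool.or_eq_true, memN_iff (l := l), List.mem_cons]
    refine or_congr ⟨fun h => (Nat.eq_of_beq_eq_true h).symm, fun h => ?_⟩ Iff.rfl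
    rw [h]; exact Nat.beq_refl _

/-- The subgroup generated by letters. -/
noncomputable def genG (gens : List ℕ) : Subgroup Spor.Co1 :=
  Subgroup.closure (el '' {g | g ∈ gens})

theorem genG_le {gens : List ℕ} {H : Subgroup Spor.Co1} (h : ∀ g ∈ gens, el g ∈ H) : genG gens ≤ H :=
  (Subgroup.closure_le _).2 fun _ ⟨g, hg, e⟩ => e ▸ h g hg

/-- The stabiliser of a class. -/
noncomputable def stab (v : ℕ) (hv : v < 16777216) : Subgroup Spor.Co1 where
  carrier := {q | act q v = v}
  one_mem' := act_one hv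
  mul_mem' := fun {p q} hp hq => by
    show act (p * q) v = v
    rw [act_mul _ _ hv, hq, hp]
  inv_mem' := fun {p} hp => by
    show act p⁻¹ v = v
    calc act p⁻¹ v = act p⁻¹ (act p v) := by rw [hp]
      _ = v := act_inv_act p hv

theorem mem_stab {v : ℕ} {hv : v < 16777216} {q : Spor.Co1} : q ∈ stab v hv ↔ act q v = v := Iff.rfl

/-- What a checked tree gives. -/
structure TreeData (m : ℕ) (L : Level) : Prop where
  gens_lt : ∀ g ∈ L.gens, g < m
  pos : 0 < L.n
  root : rowAt L.V 0 = L.b
  step : ∀ k < L.n, 0 < k → rowAt L.P k >>> 8 < k ∧ rowAt L.P k &&& 255 ∈ L.gens ∧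
    app (rt (rowAt L.P k &&& 255)) (rowAt L.V (rowAt L.P k >>> 8)) = rowAt L.V k
  inj : ∀ a < L.n, ∀ b < L.n, rowAt L.V a = rowAt L.V b → a = b

theorem tree_data {m : ℕ} {L : Level} (h : treeOK m L = true) : TreeData m L := by
  simp only [treeOK, Bool.and_eq_true, List.all_eq_true, List.mem_range, List.mem_range'_1] at h
  obtain ⟨⟨⟨⟨⟨hg, hn⟩, hr⟩, hs⟩, hlt⟩, hinc⟩ := h
  refine ⟨fun g hg' => Nat.le_of_ble_eq_true (hg g hg'), Nat.le_of_ble_eq_true hn,
    Nat.eq_of_beq_eq_true hr, fun k hk hk0 => ?_, fun a ha b hb hab => ?_⟩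
  · obtain ⟨⟨h1, h2⟩, h3⟩ := hs k ⟨hk0, by omega⟩
    exact ⟨Nat.le_of_ble_eq_true h1, memN_iff.1 h2, Nat.eq_of_beq_eq_true h3⟩
  · let s : Fin L.n → Fin L.n := fun k => ⟨rowAt L.S k, Nat.le_of_ble_eq_true (hlt k k.2)⟩
    have hmono : StrictMono (fun k : Fin L.n => rowAt L.V (s k)) := by
        intro x y hxy
        have key : ∀ d, ∀ x, x + d + 1 < L.n →
            rowAt L.V (rowAt L.S x) < rowAt L.V (rowAt L.S (x + d + 1)) := by
          intro d
          induction d with
          | zero => exact fun x hx => Nat.le_of_ble_eq_true (hinc x (by omega))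
          | succ d ih =>
            intro x hx
            exact (ih x (by omega)).trans (Nat.le_of_ble_eq_true (hinc (x + d + 1) (by omega)))
        obtain ⟨d, hd⟩ : ∃ d, y.val = x.val + d + 1 := ⟨y.val - x.val - 1, by have := hxy; omega⟩
        show rowAt L.V (rowAt L.S x) < rowAt L.V (rowAt L.S y)
        rw [hd]
        exact key d _ (by rw [← hd]; exact y.2)
    have hsinj : Function.Injective s := fun x y e => hmono.injective (by simp only [e])
    obtain ⟨x, hx⟩ := (Finite.injective_iff_surjective.1 hsinj) ⟨a, ha⟩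
    obtain ⟨y, hy⟩ := (Finite.injective_iff_surjective.1 hsinj) ⟨b, hb⟩
    have : x = y := hmono.injective (by simp only [hx, hy]; exact hab)
    subst this
    exact congrArg Fin.val (hx.symm.trans hy)

theorem TreeData.b_lt {m : ℕ} {L : Level} (T : TreeData m L) : L.b < 16777216 := by
  rw [← T.root]; exact rowAt_lt _ _

theorem TreeData.exists_elem {m : ℕ} {L : Level} (T : TreeData m L) (hm : m ≤ nX + 1) :
    ∀ k < L.n, ∃ w ∈ genG L.gens, act w L.b = rowAt L.V k := by
  intro k
  induction k using Nat.strongRecOn with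
  | _ k ih =>
    intro hk
    rcases Nat.eq_zero_or_pos k with rfl | hk0
    · exact ⟨1, one_mem _, by rw [act_one T.b_lt, T.root]⟩
    · obtain ⟨h1, h2, h3⟩ := T.step k hk hk0
      obtain ⟨w, hw, e⟩ := ih _ h1 (h1.trans hk)
      refine ⟨el (rowAt L.P k &&& 255) * w,
        mul_mem (Subgroup.subset_closure ⟨_, h2, rfl⟩) hw, ?_⟩
      rw [act_mul _ _ T.b_lt, e, ← rows_el (by have := T.gens_lt _ h2; omega) _ (rowAt_lt _ _), h3]

theorem TreeData.mul_card_le {m : ℕ} {L : Level} (T : TreeData m L) (hm : m ≤ nX + 1)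
    {H S : Subgroup Spor.Co1} (hH : genG L.gens ≤ H) (hS : S ≤ H) (hfix : S ≤ stab L.b T.b_lt) :
    L.n * Nat.card S ≤ Nat.card H ∧
      (L.n * Nat.card S = Nat.card H → ∀ h ∈ H, ∃ k < L.n, ∃ w ∈ genG L.gens, ∃ s ∈ S,
        h = w * s ∧ act h L.b = rowAt L.V k) := by
  classical
  choose w hw hwe using T.exists_elem hm
  let F : Fin L.n × S → H := fun x => ⟨w x.1 x.1.2 * x.2, mul_mem (hH (hw _ _)) (hS x.2.2)⟩
  have hF : ∀ x : Fin L.n × S, act ((F x : H) : Spor.Co1) L.b = rowAt L.V x.1 := fun x => by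
    show act (w x.1 x.1.2 * x.2) L.b = _
    rw [act_mul _ _ T.b_lt, mem_stab.1 (hfix x.2.2), hwe]
  have hinj : Function.Injective F := by
    rintro ⟨a, s⟩ ⟨b, t⟩ e
    have e1 := congrArg (fun h : H => act (h : Spor.Co1) L.b) e
    simp only [hF] at e1
    obtain rfl : a = b := Fin.ext (T.inj _ a.2 _ b.2 e1)
    exact Prod.ext rfl (Subtype.ext (mul_left_cancel (congrArg Subtype.val e)))
  have hc : Nat.card (Fin L.n × S) = L.n * Nat.card S := by rw [Nat.card_prod, Nat.card_fin]
  refine ⟨hc ▸ Nat.card_le_card_of_injective F hinj, fun e h hh => ?_⟩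
  obtain ⟨x, hx⟩ := (hinj.bijective_of_nat_card_le (by rw [hc, e])).2 ⟨h, hh⟩
  have hx' : w x.1 x.1.2 * (x.2 : Spor.Co1) = h := congrArg Subtype.val hx
  refine ⟨x.1, x.1.2, _, hw x.1 x.1.2, _, x.2.2, hx'.symm, ?_⟩
  rw [← hF x, hx]

theorem chain_le : ∀ (Ls : List Level) (H : Subgroup Spor.Co1), chainOK nX Ls = true →
    (∀ g ∈ chainGens Ls, el g ∈ H) → chainVal Ls ≤ Nat.card H
  | [], H, _, _ => Nat.card_pos
  | [L], H, h, hg => by
    have T := tree_data (show treeOK nX L = true from h)
    have := (T.mul_card_le (by omega) (genG_le hg) bot_le bot_le).1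
    rw [Subgroup.card_bot] at this
    simpa [chainVal] using this
  | L :: L' :: Ls, H, h, hg => by
    simp only [chainOK, Bool.and_eq_true, List.all_eq_true] at h
    obtain ⟨⟨h1, h2⟩, h3⟩ := h
    have T := tree_data h1
    have hsub : genG L'.gens ≤ H ⊓ stab L.b T.b_lt := by
      refine genG_le fun g hg' => ⟨hg g (memN_iff.1 (h2 g hg').1), ?_⟩
      have hlt : g < nX := T.gens_lt g (memN_iff.1 (h2 g hg').1)
      show act (el g) L.b = L.b
      rw [← rows_el hlt.le _ T.b_lt, Nat.eq_of_beq_eq_true (h2 g hg').2]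
    have ih := chain_le (L' :: Ls) _ h3 (fun g hg' => Subgroup.subset_closure ⟨g, hg', rfl⟩ :
      ∀ g ∈ chainGens (L' :: Ls), el g ∈ genG L'.gens)
    have := (T.mul_card_le (by omega) (genG_le hg) (hsub.trans inf_le_left) (hsub.trans inf_le_right)).1
    exact le_trans (Nat.mul_le_mul le_rfl ih) this

theorem inTree_spec {L : Level} {v : ℕ} (h : inTree L v = true) : ∃ k < L.n, rowAt L.V k = v := by
  simp only [inTree, List.any_eq_true, List.mem_range] at h
  obtain ⟨k, hk, e⟩ := h
  exact ⟨k, hk, Nat.eq_of_beq_eq_true e⟩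

theorem inTree_of {L : Level} {k : ℕ} (h : k < L.n) : inTree L (rowAt L.V k) = true := by
  simp only [inTree, List.any_eq_true, List.mem_range]
  exact ⟨k, h, Nat.beq_refl _⟩

end CfsgLib.Recog.CoOneInv.Cover
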