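import Cfsg.Agent.Lib.Golay.Code

/-!
Witness data for the centraliser of the dodecad involution: for each candidate four-group, an octad.
-/

set_option autoImplicit false

namespace CfsgLib.Recog.CoOneInv

/-- An octad meeting the dodecad in four points. -/
def oFour : ℕ := 15777

/-- An octad meeting the dodecad in six points. -/
def oSix : ℕ := 5279

/-- Witnesses for the first kind. -/
def tabFour : List (ℕ × ℕ) := [
    (13, 31554), (14, 90318), (26, 99029), (27, 57883), (29, 31554),
    (69, 145176), (71, 45159), (79, 45159), (80, 95313), (83, 95313),
    (86, 45159), (89, 39257), (238, 90318), (252, 31554), (270, 95313),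
    (274, 21116), (278, 201013), (279, 104010), (285, 31554), (323, 21116),
    (328, 57883), (330, 99029), (332, 90318), (340, 104010), (347, 39257),
    (348, 21116), (419, 21116), (421, 104010), (425, 99029), (433, 95313),
    (485, 45159), (489, 39257), (515, 21116), (516, 39257), (523, 104010),
    (531, 90318), (533, 99029), (535, 57883), (540, 21116), (578, 31554),
    (584, 104010), (585, 201013), (589, 21116), (593, 95313), (694, 39257),
    (698, 45159), (750, 95313), (758, 99029), (762, 104010), (764, 21116),
    (774, 39257), (777, 45159), (780, 95313), (783, 95313), (784, 45159),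
    (792, 45159), (794, 145176), (834, 31554), (836, 57883), (837, 99029),
    (849, 90318), (850, 31554), (931, 31554), (945, 90318), (1142, 145176),
    (1146, 140167), (1182, 31554), (1246, 90318), (1315, 21116), (1317, 201013),
    (1321, 210955), (1329, 90318), (1379, 31554), (1393, 39257), (1409, 21116),
    (1415, 45159), (1419, 99029), (1429, 104010), (1433, 39257), (1473, 95313),
    (1582, 39257), (1596, 31554), (1646, 90318), (1654, 210955), (1658, 201013),
    (1660, 21116), (1694, 95313), (1734, 39257), (1738, 104010), (1748, 99029),
    (1752, 45159), (1758, 21116), (1829, 140167), (1833, 145176), (1921, 90318),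
    (1985, 31554)]

/-- Witnesses for the second kind. -/
def tabSix : List (ℕ × ℕ) := [
    (143, 15777), (157, 15777), (158, 39257), (159, 21116), (175, 10558),
    (183, 10558), (187, 10558), (189, 10558), (190, 18147), (222, 31554),
    (239, 10558), (253, 10558), (407, 15777), (411, 15777), (447, 21116),
    (448, 15777), (484, 10558), (488, 10558), (671, 18147), (695, 10558),
    (699, 10558), (708, 21116), (712, 21116), (736, 21116), (897, 15777),
    (930, 10558), (944, 10558), (960, 15777), (961, 15777), (962, 18147),
    (976, 21116), (993, 31554), (994, 10558), (996, 10558), (1000, 10558),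
    (1008, 10558), (1047, 15777), (1051, 15777), (1054, 39257), (1055, 21116),
    (1071, 10558), (1079, 10558), (1083, 10558), (1085, 10558), (1087, 21116),
    (1119, 18147), (1143, 10558), (1147, 10558), (1295, 15777), (1309, 15777),
    (1342, 18147), (1345, 15777), (1378, 10558), (1392, 10558), (1566, 31554),
    (1583, 10558), (1597, 10558), (1602, 18147), (1616, 21116), (1633, 31554),
    (1792, 15777), (1828, 10558), (1832, 10558), (1856, 15777), (1857, 15777),
    (1860, 21116), (1864, 21116), (1888, 21116), (1890, 10558), (1892, 10558),
    (1896, 10558), (1904, 10558)]

/-- A fixed-point-free involution exchanging the dodecad and its complement. -/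
def uP : ℕ := 1795248432537898728475572672376535

/-- Signs making it square to minus one. -/
def uC : ℕ := 16375860

/-- An octad kept by it. -/
def uX : ℕ := 208020

end CfsgLib.Recog.CoOneInv
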