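import Cfsg.Agent.Lib.Invol.Basic

/-!
Two involutions: either conjugate by an element centralising their common centraliser, or both
commute with a third involution which, multiplied on, either joins or separates their classes.
-/

set_option autoImplicit false

namespace CfsgLib.Recog.CoOneInv

open CfsgLib.Invol

variable {G : Type*} [Group G]

/-- Conjugate by an element commuting with everything commuting with `a` and `y`. -/
def Conj2 (a y p q : G) : Prop :=
  ∃ k : G, (∀ e, Commute a e → Commute y e → Commute k e) ∧ k * p * k⁻¹ = q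

theorem zpow_comm (a y : G) (n : ℤ) (e : G) (ha : Commute a e) (hy : Commute y e) :
    Commute ((a * y) ^ n) e := (ha.mul_left hy).zpow_left n

theorem pair_cases [Finite G] {a y : G} (ha : orderOf a = 2) (hy : orderOf y = 2) :
    Conj2 a y a y ∨ ∃ t, orderOf t = 2 ∧ Commute t a ∧ Commute t y ∧
      (∀ e, Commute a e → Commute y e → Commute t e) ∧
      (Conj2 a y (a * t) y ∨ (Conj2 a y a (a * t) ∧ Conj2 a y y (y * t))) := by
  rcases Nat.even_or_odd (orderOf (a * y)) with heven | hodd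
  swap
  · obtain ⟨d, hd, e⟩ := exists_conj_of_odd ha hy hodd
    obtain ⟨n, rfl⟩ := hd
    exact Or.inl ⟨_, zpow_comm a y n, e⟩
  set t := (a * y) ^ (orderOf (a * y) / 2) with ht
  set h := orderOf (a * y) / 2 with hh
  have hta : Commute t a := commute_pow_half_left ha hy heven
  have hty : Commute t y := commute_pow_half_right ha hy heven
  refine Or.inr ⟨t, orderOf_pow_half heven, hta, hty,
    fun e h1 h2 => (h1.mul_left h2).pow_left _, ?_⟩
  have htz : t = (a * y) ^ (h : ℤ) := by rw [ht, zpow_natCast]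
  have hyr : y = (a * y) ^ (-1 : ℤ) * a := (right_eq ha hy).symm
  rcases Nat.even_or_odd h with ⟨i, hi⟩ | ⟨i, hi⟩
  · refine Or.inr ?_
    have e1 : (a * y) ^ (i : ℤ) * a * ((a * y) ^ (i : ℤ))⁻¹ = a * t := by
      rw [zpow_conj_left ha hy, ← hta.eq, htz]
      congr 2
      omega
    refine ⟨⟨_, zpow_comm a y i, e1⟩, ⟨_, zpow_comm a y i, ?_⟩⟩
    calc (a * y) ^ (i : ℤ) * y * ((a * y) ^ (i : ℤ))⁻¹
        = (a * y) ^ (i : ℤ) * ((a * y) ^ (-1 : ℤ) * a) * ((a * y) ^ (i : ℤ))⁻¹ := by rw [← hyr]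
      _ = (a * y) ^ (-1 : ℤ) * ((a * y) ^ (i : ℤ) * a * ((a * y) ^ (i : ℤ))⁻¹) := by
          rw [← mul_assoc, ← zpow_add, add_comm, zpow_add, mul_assoc, mul_assoc, mul_assoc]
      _ = (a * y) ^ (-1 : ℤ) * a * t := by rw [e1, mul_assoc]
      _ = y * t := by rw [← hyr]
  · refine Or.inl ⟨(a * y) ^ (-(i + 1 : ℕ) : ℤ), zpow_comm a y _, ?_⟩
    have e : (a * y) ^ (-(i + 1 : ℕ) : ℤ) * a * ((a * y) ^ (-(i + 1 : ℕ) : ℤ))⁻¹ =
        (a * y) ^ (2 * (-(i + 1 : ℕ) : ℤ)) * a := zpow_conj_left ha hy _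
    calc (a * y) ^ (-(i + 1 : ℕ) : ℤ) * (a * t) * ((a * y) ^ (-(i + 1 : ℕ) : ℤ))⁻¹
        = (a * y) ^ (-(i + 1 : ℕ) : ℤ) * (t * a) * ((a * y) ^ (-(i + 1 : ℕ) : ℤ))⁻¹ := by
          rw [hta.eq]
      _ = t * ((a * y) ^ (-(i + 1 : ℕ) : ℤ) * a * ((a * y) ^ (-(i + 1 : ℕ) : ℤ))⁻¹) := by
          rw [htz, ← mul_assoc ((a * y) ^ (-(i + 1 : ℕ) : ℤ)), ← zpow_add, add_comm, zpow_add,
            mul_assoc, mul_assoc, mul_assoc]
      _ = (a * y) ^ (-1 : ℤ) * a := by
          rw [e, htz, ← mul_assoc, ← zpow_add]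
          congr 2
          omega
      _ = y := hyr.symm

theorem Conj2.isConj {a y p q : G} (h : Conj2 a y p q) : IsConj p q :=
  let ⟨k, _, e⟩ := h; isConj_iff.2 ⟨k, e⟩

/-- Multiplying on a common commuting element. -/
theorem Conj2.mul {a y p q e : G} (h : Conj2 a y p q) (ha : Commute a e) (hy : Commute y e) :
    IsConj (p * e) (q * e) := by
  obtain ⟨k, hk, rfl⟩ := h
  refine isConj_iff.2 ⟨k, ?_⟩
  have := (hk e ha hy).eq
  rw [← mul_assoc, mul_assoc _ e, ← (hk e ha hy).inv_left.eq, ← mul_assoc]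

end CfsgLib.Recog.CoOneInv
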