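import Cfsg.Agent.Lib.Recog.CoOneInv.Facts
import Cfsg.Agent.Lib.Recog.CoOneInv.Pair
import Cfsg.Agent.Lib.Recog.Co3Inv.TopAbs

/-!
A subgroup containing the centraliser of the central involution and isomorphic to `Co1` is the
whole group, in a group of Conway type.
-/

set_option autoImplicit false
set_option maxRecDepth 100000

namespace CfsgLib.Recog.CoOneInv

open Cfsg CfsgLib.Golay CfsgLib.Golay.E8Cent CfsgLib.Invol
open scoped Pointwise

variable {G : Type*} [Group G] [Finite G]

/-- The situation at the end. -/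
structure Ctx (z : G) (G0 : Subgroup G) (ψ : ↥G0 ≃* Spor.Co1) : Prop where
  hC : Subgroup.centralizer ({z} : Set G) ≤ G0
  hψ : IsConj (ψ ⟨z, hC (Subgroup.mem_centralizer_singleton_iff.2 rfl)⟩) z1
  three : ∃ a b c : G, orderOf a = 2 ∧ orderOf b = 2 ∧ orderOf c = 2 ∧ ¬ IsConj a b ∧
    ¬ IsConj a c ∧ ¬ IsConj b c
  into : ∀ x : G, orderOf x = 2 → ∃ g, g * x * g⁻¹ ∈ Subgroup.centralizer ({z} : Set G)
  cover : ∀ x : Spor.Co1, orderOf x = 2 → IsConj z1 x ∨ IsConj vv x ∨ IsConj uu x

/-- The element of `G` with a given image. -/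
def el {G0 : Subgroup G} (ψ : ↥G0 ≃* Spor.Co1) (s : Spor.Co1) : G := (ψ.symm s : G)

section

variable {G0 : Subgroup G} {ψ : ↥G0 ≃* Spor.Co1}

omit [Finite G] in
theorem el_mem (s : Spor.Co1) : el ψ s ∈ G0 := (ψ.symm s).2

omit [Finite G] in
theorem el_mul (s t : Spor.Co1) : el ψ (s * t) = el ψ s * el ψ t := by simp [el]

omit [Finite G] in
theorem el_one : el ψ 1 = 1 := by simp [el]

omit [Finite G] in
theorem el_inj {s t : Spor.Co1} (h : el ψ s = el ψ t) : s = t :=
  ψ.symm.injective (Subtype.ext h)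

omit [Finite G] in
theorem el_surj {x : G} (hx : x ∈ G0) : ∃ s, el ψ s = x := ⟨ψ ⟨x, hx⟩, by simp [el]⟩

omit [Finite G] in
theorem el_comm {s t : Spor.Co1} (h : Commute s t) : Commute (el ψ s) (el ψ t) := by
  rw [Commute, SemiconjBy, ← el_mul, ← el_mul, h.eq]

omit [Finite G] in
theorem el_comm' {s t : Spor.Co1} (h : Commute (el ψ s) (el ψ t)) : Commute s t :=
  el_inj (ψ := ψ) (by rw [el_mul, el_mul]; exact h.eq)

omit [Finite G] in
theorem el_isConj {s t : Spor.Co1} (h : IsConj s t) : IsConj (el ψ s) (el ψ t) := by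
  obtain ⟨k, rfl⟩ := isConj_iff.1 h
  exact isConj_iff.2 ⟨el ψ k, by simp [el]⟩

omit [Finite G] in
theorem el_orderOf (s : Spor.Co1) : orderOf (el ψ s) = orderOf s := by
  rw [el, Subgroup.orderOf_coe, MulEquiv.orderOf_eq]

end

theorem orderOf_two {M : Type*} [Group M] {x : M} (h : x * x = 1) (h1 : x ≠ 1) : orderOf x = 2 :=
  orderOf_eq_prime (hp := ⟨Nat.prime_two⟩) (by rw [pow_two, h]) h1

theorem orderOf_vv : orderOf vv = 2 :=
  orderOf_two vv_sq fun h => by
    have := atr_vv
    rw [h, ← sgn1_zero, sgn1, atr_pr, tr_sign, mset_zero] at this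
    simp at this

theorem orderOf_uu : orderOf uu = 2 :=
  orderOf_two uu_sq fun h => by
    have := negSq_uu
    rw [h, ← sgn1_zero] at this
    exact not_negSq_sgn1 this

theorem z1_ne : ¬ IsConj z1 vv ∧ ¬ IsConj z1 uu ∧ ¬ IsConj vv uu := by
  refine ⟨fun h => ?_, fun h => ?_, fun h => ?_⟩
  · have := atr_conj h; rw [atr_z1, atr_vv] at this; omega
  · have := atr_conj h; rw [atr_z1, atr_uu] at this; omega
  · exact not_negSq_sgn1 (negSq_conj h.symm negSq_uu)

namespace Ctx

variable {z : G} {G0 : Subgroup G} {ψ : ↥G0 ≃* Spor.Co1} (X : Ctx z G0 ψ)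
include X

theorem z_conj : IsConj z (el ψ z1) := by
  have h := el_isConj (ψ := ψ) X.hψ
  simpa [el] using h

theorem rep {x : G} (hx : orderOf x = 2) :
    IsConj (el ψ z1) x ∨ IsConj (el ψ vv) x ∨ IsConj (el ψ uu) x := by
  obtain ⟨g, hg⟩ := X.into x hx
  obtain ⟨s, hs⟩ := el_surj (ψ := ψ) (X.hC hg)
  have hc : IsConj (el ψ s) x := by
    rw [hs]; exact (isConj_iff.2 ⟨g, rfl⟩ : IsConj x _).symm
  have hs2 : orderOf s = 2 := by rw [← el_orderOf (ψ := ψ), hs, orderOf_conj_eq, hx]
  rcases X.cover s hs2 with h | h | h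
  · exact Or.inl ((el_isConj h).trans hc)
  · exact Or.inr (Or.inl ((el_isConj h).trans hc))
  · exact Or.inr (Or.inr ((el_isConj h).trans hc))

theorem reps_ne : ¬ IsConj (el ψ z1) (el ψ vv) ∧ ¬ IsConj (el ψ z1) (el ψ uu) ∧
    ¬ IsConj (el ψ vv) (el ψ uu) := by
  obtain ⟨a, b, c, ha, hb, hc, hab, hac, hbc⟩ := X.three
  have two : ∀ p q : G, (∀ x : G, orderOf x = 2 → IsConj p x ∨ IsConj q x) → False := by
    intro p q h
    rcases h a ha with u | u <;> rcases h b hb with v | v <;> rcases h c hc with w | w <;> first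
      | exact hab (u.symm.trans v)
      | exact hac (u.symm.trans w)
      | exact hbc (v.symm.trans w)
  refine ⟨fun e => ?_, fun e => ?_, fun e => ?_⟩
  · refine two (el ψ z1) (el ψ uu) fun x hx => ?_
    rcases X.rep hx with h | h | h
    · exact Or.inl h
    · exact Or.inl (e.trans h)
    · exact Or.inr h
  · refine two (el ψ z1) (el ψ vv) fun x hx => ?_
    rcases X.rep hx with h | h | h
    · exact Or.inl h
    · exact Or.inr h
    · exact Or.inl (e.trans h)
  · refine two (el ψ z1) (el ψ vv) fun x hx => ?_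
    rcases X.rep hx with h | h | h
    · exact Or.inl h
    · exact Or.inr h
    · exact Or.inr (e.trans h)

theorem inj {s t : Spor.Co1} (hs : orderOf s = 2) (ht : orderOf t = 2)
    (h : IsConj (el ψ s) (el ψ t)) : IsConj s t := by
  obtain ⟨n1, n2, n3⟩ := X.reps_ne
  rcases X.cover s hs with a | a | a <;> rcases X.cover t ht with b | b | b <;> first
    | exact a.symm.trans b
    | exfalso
      have e := ((el_isConj (ψ := ψ) a).trans h).trans (el_isConj (ψ := ψ) b).symm
      first
        | exact n1 e | exact n1 e.symm | exact n2 e | exact n2 e.symm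
        | exact n3 e | exact n3 e.symm

theorem D_iff {s : Spor.Co1} (hs : orderOf s = 2) : IsConj z (el ψ s) ↔ IsConj z1 s :=
  ⟨fun h => X.inj z1_order hs (X.z_conj.symm.trans h), fun h => X.z_conj.trans (el_isConj h)⟩

omit [Finite G] in
theorem order_of_D {x : G} (h : IsConj z x) (hz : orderOf z = 2) : orderOf x = 2 := by
  obtain ⟨k, rfl⟩ := isConj_iff.1 h
  rw [orderOf_conj_eq, hz]

theorem z_order : orderOf z = 2 := by
  obtain ⟨k, hk⟩ := isConj_iff.1 X.z_conj
  have h : orderOf (el ψ z1) = 2 := by rw [el_orderOf, z1_order]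
  rwa [← hk, orderOf_conj_eq] at h

theorem atr_D {s : Spor.Co1} (h : IsConj z (el ψ s)) : atr s = 64 := by
  have hs : orderOf s = 2 := by
    rw [← el_orderOf (ψ := ψ)]; exact order_of_D X h X.z_order
  rw [← atr_conj ((X.D_iff hs).1 h), atr_z1]

theorem D_sgn1 {m : ℕ} (hm : isCode m = true) : IsConj z (el ψ (sgn1 m hm)) ↔ isO m = true :=
  ⟨fun h => atr_sgn1 hm (X.atr_D h), fun h => X.z_conj.trans (el_isConj (isConj_sgn1 hm h))⟩

/-- The conjugating element can be taken inside. -/
theorem conj_in {s t : Spor.Co1} (h : IsConj s t) :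
    ∃ k ∈ G0, k * el ψ s * k⁻¹ = el ψ t := by
  obtain ⟨k, rfl⟩ := isConj_iff.1 h
  exact ⟨el ψ k, el_mem k, by simp [el]⟩

theorem cent_conj {s t : Spor.Co1} (h : IsConj s t)
    (hs : Subgroup.centralizer ({el ψ s} : Set G) ≤ G0) :
    Subgroup.centralizer ({el ψ t} : Set G) ≤ G0 := by
  obtain ⟨k, hk, e⟩ := X.conj_in h
  intro g hg
  rw [Subgroup.mem_centralizer_singleton_iff, ← e] at hg
  have : k⁻¹ * g * k ∈ G0 := hs (Subgroup.mem_centralizer_singleton_iff.2 (by
    calc k⁻¹ * g * k * el ψ s = k⁻¹ * (g * (k * el ψ s * k⁻¹)) * k := by group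
      _ = k⁻¹ * (k * el ψ s * k⁻¹ * g) * k := by rw [hg]
      _ = el ψ s * (k⁻¹ * g * k) := by group))
  have h2 := mul_mem (mul_mem hk this) (inv_mem hk)
  rwa [show k * (k⁻¹ * g * k) * k⁻¹ = g by group] at h2

theorem cent_z1 : Subgroup.centralizer ({el ψ z1} : Set G) ≤ G0 := by
  refine X.cent_conj X.hψ ?_
  simpa [el] using X.hC

theorem cent_D {x : G} (hx : x ∈ G0) (h : IsConj z x) :
    Subgroup.centralizer ({x} : Set G) ≤ G0 := by
  obtain ⟨s, rfl⟩ := el_surj (ψ := ψ) hx
  have hs : orderOf s = 2 := by rw [← el_orderOf (ψ := ψ)]; exact order_of_D X h X.z_order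
  exact X.cent_conj ((X.D_iff hs).1 h) X.cent_z1

theorem mem_of_commute {x g : G} (hx : x ∈ G0) (h : IsConj z x) (hg : Commute g x) : g ∈ G0 :=
  X.cent_D hx h (Subgroup.mem_centralizer_singleton_iff.2 hg.eq)

theorem control {x g : G} (hx : x ∈ G0) (h : IsConj z x) (hg : g * x * g⁻¹ ∈ G0) : g ∈ G0 := by
  obtain ⟨s, rfl⟩ := el_surj (ψ := ψ) hx
  obtain ⟨t, ht⟩ := el_surj (ψ := ψ) hg
  have hc : IsConj (el ψ s) (el ψ t) := by rw [ht]; exact isConj_iff.2 ⟨g, rfl⟩
  have o1 : orderOf s = 2 := by rw [← el_orderOf (ψ := ψ)]; exact order_of_D X h X.z_order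
  have o2 : orderOf t = 2 := by rw [← el_orderOf (ψ := ψ), ht, orderOf_conj_eq, el_orderOf, o1]
  obtain ⟨k, hk, e⟩ := X.conj_in (X.inj o1 o2 hc)
  have : k⁻¹ * g ∈ G0 := X.mem_of_commute hx h (by
    show k⁻¹ * g * el ψ s = el ψ s * (k⁻¹ * g)
    calc k⁻¹ * g * el ψ s = k⁻¹ * (g * el ψ s * g⁻¹) * g := by group
      _ = k⁻¹ * (k * el ψ s * k⁻¹) * g := by rw [e, ht]
      _ = el ψ s * (k⁻¹ * g) := by group)
  have h2 := mul_mem hk this
  rwa [mul_inv_cancel_left] at h2

omit X [Finite G] in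
theorem msk_code {m : ℕ} (hm : isCode m = true) (i j : Bool) : isCode (msk m i j) = true := by
  cases i <;> cases j
  · exact isCode_xor isCode_zero isCode_zero
  · exact isCode_xor isCode_zero hm
  · exact isCode_xor dM_code isCode_zero
  · exact isCode_xor dM_code hm

omit X [Finite G] in
theorem msk_add (m : ℕ) (i j i' j' : Bool) :
    msk m (xor i i') (xor j j') = msk m i j ^^^ msk m i' j' := by
  show Nat.xor _ _ = _
  simp only [msk, show ∀ a b : ℕ, Nat.xor a b = a ^^^ b from fun _ _ => rfl]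
  cases i <;> cases j <;> cases i' <;> cases j' <;> simp [Nat.xor_assoc, Nat.xor_comm,
    Nat.xor_left_comm]

omit X [Finite G] in
theorem mem_idx4 (i j : Bool) : (i, j) ∈ idx4 := by cases i <;> cases j <;> decide

omit X [Finite G] in
theorem idx4_tail {d : Bool × Bool} (h : d ∈ idx4.tail) : d ≠ (false, false) := by
  rintro rfl; revert h; decide

omit X [Finite G] in
theorem idx4_tail' {i j : Bool} (h : (i, j) ≠ (false, false)) : (i, j) ∈ idx4.tail := by
  cases i <;> cases j
  · exact absurd rfl h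
  all_goals decide

/-- No element outside has the given pattern on a checked four-group. -/
theorem leaf {m o2 : ℕ} {f : Bool → Bool → Bool} (hm : isCode m = true)
    (hok : leafOK m o2 f = true) {y : G} (hy : y ∉ G0)
    (hcom : ∀ i j, Commute y (el ψ (sgn1 (msk m i j) (msk_code hm i j))))
    (hpat : ∀ i j, IsConj z (y * el ψ (sgn1 (msk m i j) (msk_code hm i j))) ↔ f i j = true) :
    False := by
  simp only [leafOK, Bool.and_eq_true, List.all_eq_true, List.any_eq_true, Bool.not_eq_true',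
    bne_iff_ne, ne_eq] at hok
  obtain ⟨⟨⟨⟨⟨⟨⟨ho, hO⟩, hf0⟩, hne⟩, htl⟩, hg1⟩, hf1⟩, hall⟩ := hok
  set E : Bool → Bool → Spor.Co1 := fun i j => sgn1 (msk m i j) (msk_code hm i j) with hE
  have hE0 : E false false = 1 := (sgn1_congr (Nat.xor_self 0) _ isCode_zero).trans sgn1_zero
  have hyD : IsConj z y := by
    have := (hpat false false).2 hf0
    rwa [show sgn1 (msk m false false) (msk_code hm false false) = 1 from hE0, el_one, mul_one]
      at this
  set W := sgn1 o2 ho with hW
  have hWD : IsConj z (el ψ W) := (X.D_sgn1 ho).2 hO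
  have hz2 := X.z_order
  have hgp : ∀ i j, IsConj z (el ψ W * el ψ (E i j)) ↔ gpat m o2 i j = true := fun i j => by
    rw [← el_mul, hW, hE]
    simp only
    rw [sgn1_mul ho, X.D_sgn1]
    rfl
  have hWE : ∀ i j, Commute (el ψ W) (el ψ (E i j)) := fun i j => el_comm (sgn1_comm ho _)
  have tr' : ∀ {p q : G}, Conj2 (el ψ W) y p q → ∀ i j,
      (IsConj z (p * el ψ (E i j)) ↔ IsConj z (q * el ψ (E i j))) := fun h i j =>
    ⟨fun u => u.trans (h.mul (hWE i j) (hcom i j)),
      fun u => u.trans (h.mul (hWE i j) (hcom i j)).symm⟩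
  rcases pair_cases (order_of_D X hWD hz2) (order_of_D X hyD hz2) with hodd | ⟨t, ht2, htW, hty, htc, hcase⟩
  · obtain ⟨⟨i, j⟩, -, hij⟩ := hne
    exact hij (Bool.eq_iff_iff.2 ((hgp i j).symm.trans ((tr' hodd i j).trans (hpat i j))))
  obtain ⟨s, rfl⟩ := el_surj (ψ := ψ) (X.mem_of_commute (el_mem W) hWD htW)
  by_cases hin : ∃ a b, s = E a b
  · obtain ⟨a, b, rfl⟩ := hin
    have hd : (a, b) ≠ (false, false) := by
      intro h
      simp only [Prod.mk.injEq] at h
      rw [h.1, h.2, hE0, el_one, orderOf_one] at ht2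
      omega
    have hadd : ∀ i j, el ψ (E a b) * el ψ (E i j) = el ψ (E (xor i a) (xor j b)) := fun i j => by
      rw [← el_mul]
      simp only [hE]
      rw [sgn1_mul]
      refine congrArg _ (sgn1_congr ?_ _ _)
      rw [msk_add, Nat.xor_comm]
    obtain ⟨⟨n1, n2⟩, -⟩ := htl _ (idx4_tail' hd)
    rcases hcase with h | ⟨h1, h2⟩
    · have : (idx4.all fun e => gpat m o2 (xor e.1 a) (xor e.2 b) == f e.1 e.2) = true := by
        simp only [List.all_eq_true, beq_iff_eq]
        rintro ⟨i, j⟩ -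
        refine Bool.eq_iff_iff.2 ((hgp _ _).symm.trans ?_)
        rw [← hadd, ← mul_assoc]
        exact (tr' h i j).trans (hpat i j)
      rw [n1] at this
      exact absurd this (by decide)
    · have : (idx4.all fun e => gpat m o2 (xor e.1 a) (xor e.2 b) == gpat m o2 e.1 e.2 &&
          f (xor e.1 a) (xor e.2 b) == f e.1 e.2) = true := by
        simp only [List.all_eq_true, Bool.and_eq_true, beq_iff_eq]
        rintro ⟨i, j⟩ -
        constructor
        · refine Bool.eq_iff_iff.2 ((hgp _ _).symm.trans ?_)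
          rw [← hadd, ← mul_assoc]
          exact (tr' h1 i j).symm.trans (hgp i j)
        · refine Bool.eq_iff_iff.2 ((hpat _ _).symm.trans ?_)
          show IsConj z (y * el ψ (E (xor i a) (xor j b))) ↔ _
          rw [← hadd, ← mul_assoc]
          exact (tr' h2 i j).symm.trans (hpat i j)
      rw [n2] at this
      exact absurd this (by decide)
  push Not at hin
  have hts : ∀ i j, Commute s (E i j) := fun i j => el_comm' (htc _ (hWE i j) (hcom i j))
  have hnD : ∀ i j, ¬ IsConj z (el ψ (s * E i j)) := fun i j h => by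
    refine hy (X.mem_of_commute (el_mem _) h ?_)
    rw [el_mul]
    exact hty.symm.mul_right (hcom i j)
  obtain ⟨p, hp, hp0, hp1, hpsame⟩ : ∃ p : Bool → Bool → Bool,
      (∀ i j, IsConj z (el ψ (W * s) * el ψ (E i j)) ↔ p i j = true) ∧ p false false = true ∧
      (∃ d ∈ idx4.tail, p d.1 d.2 = true) ∧ (p = f ∨ p = gpat m o2) := by
    rcases hcase with h | ⟨h1, -⟩
    · refine ⟨f, fun i j => ?_, hf0, hf1, Or.inl rfl⟩
      rw [el_mul]
      exact (tr' h i j).trans (hpat i j)
    · refine ⟨gpat m o2, fun i j => ?_, ?_, hg1, Or.inr rfl⟩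
      · rw [el_mul]
        exact (tr' h1 i j).symm.trans (hgp i j)
      · show isO (Nat.xor o2 (msk m false false)) = true
        rw [show msk m false false = 0 from Nat.xor_self 0, show Nat.xor o2 0 = o2 from Nat.xor_zero o2]
        exact hO
  obtain ⟨⟨a, b⟩, hd, hpd⟩ := hp1
  obtain ⟨-, hd12⟩ := htl _ hd
  have hA : atr (W * s) = 64 := by
    refine X.atr_D ?_
    have := (hp false false).2 hp0
    rwa [hE0, el_one, mul_one] at this
  have hAe : atr (E a b * (W * s)) = 64 := by
    refine X.atr_D ?_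
    have hc : Commute (E a b) (W * s) := (sgn1_comm _ ho).mul_right (hts a b).symm
    rw [hc.eq, el_mul]
    exact (hp a b).2 hpd
  have hvv : Commute s vv := by
    have := hts true false
    simp only [hE] at this
    rwa [sgn1_congr (show msk m true false = dM from Nat.xor_zero dM) _ dM_code] at this
  have hs2 : s * s = 1 := by
    rw [← pow_two, ← (el_orderOf (ψ := ψ) s).symm.trans ht2]
    exact pow_orderOf_eq_one s
  obtain ⟨k, hkc, hk, rfl⟩ := exists_sgn1 hvv hs2 ho (msk_code hm a b)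
    (Nat.eq_of_beq_eq_true hd12) hA hAe
  have hbad : extBad m o2 f (enc k) = true := by
    simp only [extBad, Bool.and_eq_true, Bool.or_eq_true, List.all_eq_true, Bool.not_eq_true',
      beq_iff_eq]
    have hprod : ∀ i j, el ψ (W * sgn1 (enc k) hkc) * el ψ (E i j) =
        el ψ (sgn1 (o2 ^^^ (enc k ^^^ msk m i j))
          (isCode_xor ho (isCode_xor hkc (msk_code hm i j)))) := fun i j => by
      rw [← el_mul, hW, hE]
      simp only
      rw [mul_assoc, sgn1_mul hkc, sgn1_mul ho]
    have hval : ∀ i j, isO (Nat.xor o2 (Nat.xor (enc k) (msk m i j))) = p i j := fun i j => by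
      refine Bool.eq_iff_iff.2 (((X.D_sgn1 (isCode_xor ho (isCode_xor hkc (msk_code hm i j)))).symm).trans ?_)
      rw [← hprod]
      exact hp i j
    refine ⟨⟨?_, fun e _ => ⟨?_, ?_⟩⟩, ?_⟩
    · have := hval false false
      rw [hp0] at this
      rwa [show msk m false false = 0 from Nat.xor_self 0,
        show Nat.xor (enc k) 0 = enc k from Nat.xor_zero _] at this
    · rw [Bool.eq_false_iff]
      intro h
      refine hnD e.1 e.2 ?_
      simp only [hE]
      rw [sgn1_mul]
      exact (X.D_sgn1 _).2 h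
    · rw [Bool.eq_false_iff]
      intro h
      refine hin e.1 e.2 ?_
      have h1 : sgn1 (enc k) hkc * E e.1 e.2 = 1 := by
        simp only [hE]
        rw [sgn1_mul]
        simp only [trivM, Bool.or_eq_true] at h
        rcases h with h | h
        · exact (sgn1_congr (Nat.eq_of_beq_eq_true h) _ isCode_zero).trans sgn1_zero
        · exact (sgn1_congr (Nat.eq_of_beq_eq_true h) _ isCode_full).trans sgn1_full
      have h2 : E e.1 e.2 * E e.1 e.2 = 1 := sgn1_sq _
      exact (eq_inv_of_mul_eq_one_left h1).trans (eq_inv_of_mul_eq_one_left h2).symm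
    · rcases hpsame with rfl | rfl
      · exact Or.inl fun e _ => hval e.1 e.2
      · exact Or.inr fun e _ => hval e.1 e.2
  have := allB_range hall (k := k) hk
  simp only [Bool.not_eq_true'] at this
  rw [hbad] at this
  exact absurd this (by decide)

/-- A member of the table gives a contradiction. -/
theorem via_table {o : ℕ} {tab : List (ℕ × ℕ)} {f : Bool → Bool → Bool} (ho : isCode o = true)
    (hchk : allB 11 (fun k => !cand o (enc k) || leafOK (enc k) (lookup tab k) f) 0 = true)
    {w y : G} (hw2 : orderOf w = 2) (hwV : Commute w (el ψ vv)) (hwne : w ≠ el ψ vv)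
    (hwO : Commute w (el ψ (sgn1 o ho))) (hO : isO o = true)
    (hD1 : IsConj z (el ψ (sgn1 o ho) * w)) (hD2 : IsConj z (el ψ (sgn1 o ho) * w * el ψ vv))
    (hy : y ∉ G0) (hyV : Commute y (el ψ vv)) (hyw : Commute y w)
    (p00 : IsConj z y ↔ f false false = true) (p10 : IsConj z (y * el ψ vv) ↔ f true false = true)
    (p01 : IsConj z (y * w) ↔ f false true = true)
    (p11 : IsConj z (y * el ψ vv * w) ↔ f true true = true) : False := by
  have hOD : IsConj z (el ψ (sgn1 o ho)) := (X.D_sgn1 ho).2 hO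
  obtain ⟨s, rfl⟩ := el_surj (ψ := ψ) (X.mem_of_commute (el_mem _) hOD hwO)
  have hs : Commute s vv := el_comm' hwV
  have ho2 : orderOf s = 2 := by rwa [el_orderOf] at hw2
  have hs2 : s * s = 1 := by rw [← pow_two, ← ho2]; exact pow_orderOf_eq_one s
  have hnD : ¬ IsConj z (el ψ s) := fun h => hy (X.mem_of_commute (el_mem s) h hyw)
  have hnD2 : ¬ IsConj z (el ψ (vv * s)) := fun h =>
    hy (X.mem_of_commute (el_mem _) h (by rw [el_mul]; exact hyV.mul_right hyw))
  have hA : atr (sgn1 o ho * s) = 64 := X.atr_D (by rw [el_mul]; exact hD1)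
  have hAe : atr (sgn1 dM dM_code * (sgn1 o ho * s)) = 64 := X.atr_D (by
    have hc : Commute (sgn1 dM dM_code) (sgn1 o ho * s) := (sgn1_comm _ _).mul_right hs.symm
    rw [hc.eq, el_mul, el_mul]
    exact hD2)
  obtain ⟨k, hkc, hk, rfl⟩ := exists_sgn1 hs hs2 ho dM_code misc_checks.2.2.2.2.2.2 hA hAe
  have hdm : isCode (dM ^^^ enc k) = true := isCode_xor dM_code hkc
  have hcand : cand o (enc k) = true := by
    simp only [cand, Bool.and_eq_true, Bool.not_eq_true', Bool.eq_false_iff, ne_eq]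
    refine ⟨⟨⟨⟨⟨?_, ?_⟩, ?_⟩, ?_⟩, ?_⟩, ?_⟩
    · intro h
      have h1 : sgn1 (enc k) hkc = 1 := by
        simp only [trivM, Bool.or_eq_true] at h
        rcases h with h | h
        · exact (sgn1_congr (Nat.eq_of_beq_eq_true h) _ isCode_zero).trans sgn1_zero
        · exact (sgn1_congr (Nat.eq_of_beq_eq_true h) _ isCode_full).trans sgn1_full
      rw [h1, orderOf_one] at ho2
      omega
    · intro h
      have h1 : vv * sgn1 (enc k) hkc = 1 := by
        rw [vv, sgn1_mul]
        simp only [trivM, Bool.or_eq_true] at h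
        rcases h with h | h
        · exact (sgn1_congr (Nat.eq_of_beq_eq_true h) _ isCode_zero).trans sgn1_zero
        · exact (sgn1_congr (Nat.eq_of_beq_eq_true h) _ isCode_full).trans sgn1_full
      exact hwne (congrArg (el ψ)
        ((eq_inv_of_mul_eq_one_right h1).trans (eq_inv_of_mul_eq_one_right vv_sq).symm))
    · exact fun h => hnD ((X.D_sgn1 hkc).2 h)
    · intro h
      refine hnD2 ?_
      rw [vv, sgn1_mul]
      exact (X.D_sgn1 hdm).2 h
    · refine (X.D_sgn1 (isCode_xor ho hkc)).1 ?_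
      rw [← sgn1_mul ho hkc, el_mul]
      exact hD1
    · refine (X.D_sgn1 (isCode_xor ho hdm)).1 ?_
      rw [← el_mul, ← el_mul, mul_assoc, hs.eq, vv, sgn1_mul dM_code hkc, sgn1_mul ho hdm] at hD2
      exact hD2
  have hok := allB_range hchk (k := k) hk
  simp only [Bool.or_eq_true, Bool.not_eq_true'] at hok
  have hok2 : leafOK (enc k) (lookup tab k) f = true := hok.resolve_left (by rw [hcand]; decide)
  have e10 : sgn1 (msk (enc k) true false) (msk_code hkc _ _) = vv :=
    sgn1_congr (Nat.xor_zero dM) _ dM_code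
  have e01 : sgn1 (msk (enc k) false true) (msk_code hkc _ _) = sgn1 (enc k) hkc :=
    sgn1_congr (Nat.zero_xor (enc k)) _ hkc
  have e00 : sgn1 (msk (enc k) false false) (msk_code hkc _ _) = 1 :=
    (sgn1_congr (Nat.xor_self 0) _ isCode_zero).trans sgn1_zero
  have e11 : sgn1 (msk (enc k) true true) (msk_code hkc _ _) = vv * sgn1 (enc k) hkc := by
    rw [vv, sgn1_mul]
    exact sgn1_congr rfl _ _
  refine X.leaf hkc hok2 hy (fun i j => ?_) fun i j => ?_
  · cases i <;> cases j
    · rw [e00, el_one]; exact Commute.one_right y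
    · rw [e01]; exact hyw
    · rw [e10]; exact hyV
    · rw [e11, el_mul]; exact hyV.mul_right hyw
  · cases i <;> cases j
    · rw [e00, el_one, mul_one]; exact p00
    · rw [e01]; exact p01
    · rw [e10]; exact p10
    · rw [e11, el_mul, ← mul_assoc]; exact p11

/-- The centraliser of the dodecad involution is inside. -/
theorem cent_v : Subgroup.centralizer ({el ψ vv} : Set G) ≤ G0 := by
  by_contra hcon
  obtain ⟨h, hh, hhn⟩ := SetLike.not_le_iff_exists.1 hcon
  have hV : Commute h (el ψ vv) := Subgroup.mem_centralizer_singleton_iff.1 hh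
  obtain ⟨c4, o4, d4, c6, o6, d6, -⟩ := misc_checks
  set O := el ψ (sgn1 oFour c4) with hO
  set O1 := el ψ (sgn1 oSix c6) with hO1
  set V := el ψ vv with hVdef
  have hOD : IsConj z O := (X.D_sgn1 c4).2 o4
  have hO1D : IsConj z O1 := (X.D_sgn1 c6).2 o6
  have hOV : Commute O V := el_comm (sgn1_comm c4 dM_code)
  have hO1V : Commute O1 V := el_comm (sgn1_comm c6 dM_code)
  have hOVn : ¬ IsConj z (O * V) := by
    rw [hO, hVdef, ← el_mul, vv, sgn1_mul, X.D_sgn1]
    rw [show oFour ^^^ dM = Nat.xor oFour dM from rfl, d4]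
    decide
  have hO1VD : IsConj z (O1 * V) := by
    rw [hO1, hVdef, ← el_mul, vv, sgn1_mul, X.D_sgn1]
    exact d6
  set y := h * O1 * h⁻¹ with hy'
  have hy : y ∉ G0 := fun e => hhn (X.control (el_mem _) hO1D e)
  have hyD : IsConj z y := hO1D.trans (isConj_iff.2 ⟨h, rfl⟩)
  have hyV : Commute y V := (hV.mul_left hO1V).mul_left hV.inv_left
  have hyVD : IsConj z (y * V) := by
    refine hO1VD.trans (isConj_iff.2 ⟨h, ?_⟩)
    rw [hy', mul_assoc (h * O1) h⁻¹, hV.inv_left.eq, ← mul_assoc, ← mul_assoc]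
  have hz2 := X.z_order
  rcases pair_cases (order_of_D X hOD hz2) (order_of_D X hyD hz2) with hodd | ⟨t, ht2, htO, hty, htc, hcase⟩
  · exact hOVn (hyVD.trans (hodd.mul hOV hyV).symm)
  have htV : Commute t V := htc V hOV hyV
  by_cases htv : t = V
  · subst htv
    rcases hcase with h' | ⟨h1, -⟩
    · exact hOVn (hyD.trans h'.isConj.symm)
    · exact hOVn (hOD.trans h1.isConj)
  rcases hcase with h' | ⟨h1, h2⟩
  · have hOt : IsConj z (O * t) := hyD.trans h'.isConj.symm
    have hOtv : IsConj z (O * t * V) := hyVD.trans (h'.mul hOV hyV).symm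
    have htt : t * t = 1 := by rw [← pow_two, ← ht2]; exact pow_orderOf_eq_one t
    refine X.via_table c4 check_four ht2 htV htv htO o4 hOt hOtv hy hyV hty.symm
      ⟨fun _ => rfl, fun _ => hyD⟩ ⟨fun _ => rfl, fun _ => hyVD⟩
      ⟨fun _ => rfl, fun _ => ?_⟩ ⟨fun u => ?_, fun u => absurd u (by decide)⟩
    · have := (h'.mul htO.symm hty.symm)
      rw [mul_assoc, htt, mul_one] at this
      exact hOD.trans this
    · exfalso
      have := (h'.mul (hOV.mul_right htO.symm) (hyV.mul_right hty.symm))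
      rw [mul_assoc O t, ← mul_assoc t V t, htV.eq, mul_assoc V t t, htt, mul_one, ← mul_assoc y]
        at this
      exact hOVn (u.trans this.symm)
  · -- transport to the other side
    have cc : ∀ {p q : G}, Commute p q → Commute (h⁻¹ * p * h) (h⁻¹ * q * h) := fun {p q} e => by
      show _ = _
      calc h⁻¹ * p * h * (h⁻¹ * q * h) = h⁻¹ * (p * q) * h := by group
        _ = h⁻¹ * (q * p) * h := by rw [e.eq]
        _ = h⁻¹ * q * h * (h⁻¹ * p * h) := by group
    have cj : ∀ {p : G}, IsConj z p → IsConj z (h⁻¹ * p * h) := fun {p} e =>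
      e.trans (isConj_iff.2 ⟨h⁻¹, by rw [inv_inv]⟩)
    have cj' : ∀ {p : G}, IsConj z (h⁻¹ * p * h) → IsConj z p := fun {p} e =>
      e.trans (isConj_iff.2 ⟨h, by group⟩)
    have eV : h⁻¹ * V * h = V := by rw [hV.inv_left.eq, inv_mul_cancel_right]
    have eO1 : h⁻¹ * y * h = O1 := by rw [hy']; group
    set w := h⁻¹ * t * h with hw
    set y2 := h⁻¹ * O * h with hy2'
    have hy2 : y2 ∉ G0 := fun e => hhn (by
      have := X.control (g := h⁻¹) (el_mem _) hOD (by rwa [inv_inv])
      simpa using inv_mem this)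
    have hw2 : orderOf w = 2 := by
      rw [hw, show h⁻¹ * t * h = h⁻¹ * t * h⁻¹⁻¹ by rw [inv_inv], orderOf_conj_eq, ht2]
    have hwV : Commute w V := by have := cc htV; rwa [eV] at this
    have hwne : w ≠ V := fun e => htv (by
      have : h * w * h⁻¹ = h * V * h⁻¹ := by rw [e]
      rw [hw] at this
      rwa [show h * (h⁻¹ * t * h) * h⁻¹ = t by group, hV.eq, mul_inv_cancel_right] at this)
    have hwO : Commute w O1 := by have := cc hty; rwa [eO1] at this
    have q1 : IsConj z (O1 * w) := by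
      have := cj (hyD.trans h2.isConj)
      rwa [show h⁻¹ * (y * t) * h = (h⁻¹ * y * h) * w by rw [hw]; group, eO1] at this
    have q2 : IsConj z (O1 * w * V) := by
      have := cj (hyVD.trans (h2.mul hOV hyV))
      rwa [show h⁻¹ * (y * t * V) * h = (h⁻¹ * y * h) * w * (h⁻¹ * V * h) by rw [hw]; group,
        eO1, eV] at this
    have hy2V : Commute y2 V := by have := cc hOV; rwa [eV] at this
    have hy2w : Commute y2 w := cc htO.symm
    refine X.via_table c6 check_six hw2 hwV hwne hwO o6 q1 q2 hy2 hy2V hy2w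
      ⟨fun _ => rfl, fun _ => cj hOD⟩ ⟨fun u => ?_, fun u => absurd u (by decide)⟩
      ⟨fun _ => rfl, fun _ => ?_⟩ ⟨fun u => ?_, fun u => absurd u (by decide)⟩
    · exfalso
      exact hOVn (cj' (p := O * V) (by
        rwa [show h⁻¹ * (O * V) * h = y2 * (h⁻¹ * V * h) by rw [hy2']; group, eV]))
    · have := cj (hOD.trans h1.isConj)
      rwa [show h⁻¹ * (O * t) * h = y2 * w by rw [hy2', hw]; group] at this
    · exfalso
      have h3 : IsConj z (O * V * t) := cj' (p := O * V * t) (by
        rwa [show h⁻¹ * (O * V * t) * h = y2 * (h⁻¹ * V * h) * w by rw [hy2', hw]; group, eV])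
      have h4 := h1.mul hOV hyV
      rw [mul_assoc O t, htV.eq, ← mul_assoc] at h4
      exact hOVn (h3.trans h4.symm)

/-- The centraliser of the third representative is inside. -/
theorem cent_u : Subgroup.centralizer ({el ψ uu} : Set G) ≤ G0 := by
  by_contra hcon
  obtain ⟨h, hh, hhn⟩ := SetLike.not_le_iff_exists.1 hcon
  have hU : Commute h (el ψ uu) := Subgroup.mem_centralizer_singleton_iff.1 hh
  set V := el ψ vv with hVdef
  set U := el ψ uu with hUdef
  set xs := sgn1 uX u_checks.2.2.1 with hxs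
  have hxD : IsConj z (el ψ xs) := (X.D_sgn1 _).2 u_checks.2.2.2.1
  have hxU : Commute (el ψ xs) U := el_comm commute_uu_xx.symm
  have hxUn : ¬ IsConj z (el ψ xs * U) := fun e => by
    rw [hUdef, ← el_mul] at e
    have := X.atr_D e
    rw [hxs, atr_xx_uu] at this
    omega
  set y := h * el ψ xs * h⁻¹ with hy'
  have hy : y ∉ G0 := fun e => hhn (X.control (el_mem _) hxD e)
  have hyD : IsConj z y := hxD.trans (isConj_iff.2 ⟨h, rfl⟩)
  have hyU : Commute y U := (hU.mul_left hxU).mul_left hU.inv_left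
  have hyUn : ¬ IsConj z (y * U) := fun e => by
    refine hxUn (e.trans (isConj_iff.2 ⟨h⁻¹, ?_⟩))
    rw [hy', inv_inv, mul_assoc (h * el ψ xs), hU.inv_left.eq]
    group
  have hVU : Commute V U := el_comm commute_uu_vv.symm
  have hz2 := X.z_order
  have hVo : orderOf V = 2 := by rw [hVdef, el_orderOf, orderOf_vv]
  have hVn : ¬ IsConj z V := fun e => by have := X.atr_D e; rw [atr_vv] at this; omega
  rcases pair_cases hVo (order_of_D X hyD hz2) with hodd | ⟨t, ht2, htV, hty, htc, hcase⟩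
  · exact hVn (hyD.trans hodd.isConj.symm)
  obtain ⟨s, rfl⟩ := el_surj (ψ := ψ)
    (X.cent_v (Subgroup.mem_centralizer_singleton_iff.2 htV.eq))
  have hsu : Commute s uu := el_comm' (htc U hVU hyU)
  have hs2 : orderOf s = 2 := by rwa [el_orderOf] at ht2
  have hsv : Commute s vv := el_comm' htV
  have hvu : atr (vv * uu) = 0 := by
    rw [vv, uu, sgn1_mul_mono]; exact atr_fixfree uσ_free
  have hvun : ¬ NegSq (vv * uu) := fun e => by
    rw [vv, uu, sgn1_mul_mono, negSq_mono, uσ_smul, ← mset_xor] at e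
    have h0 : dM ^^^ uC ^^^ mimg uP (dM ^^^ uC) = 0 := by decide +kernel
    rw [h0, mset_zero] at e
    exact absurd (congrArg Finset.card e.2) (by simp)
  by_cases hsu' : s = uu
  · subst hsu'
    rcases hcase with h' | ⟨-, h2⟩
    · have := X.atr_D (s := vv * uu) (by rw [el_mul]; exact hyD.trans h'.isConj.symm)
      omega
    · exact hyUn (hyD.trans h2.isConj)
  have third : ∀ {r : Spor.Co1}, orderOf r = 2 → Commute y (el ψ r) → NegSq r := fun {r} hr hc => by
    rcases X.cover r hr with a | a | a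
    · exact absurd (X.mem_of_commute (el_mem r) ((X.D_iff hr).2 a) hc) hy
    · exact absurd (X.cent_conj a X.cent_v (Subgroup.mem_centralizer_singleton_iff.2 hc.eq)) hy
    · exact negSq_conj a negSq_uu
  have hns : NegSq s := third hs2 hty.symm
  have hsu2 : orderOf (s * uu) = 2 := by
    refine orderOf_two ?_ fun e => hsu' ?_
    · rw [mul_assoc, ← mul_assoc uu, ← hsu.eq, mul_assoc, uu_sq, mul_one, ← pow_two, ← hs2]
      exact pow_orderOf_eq_one s
    · exact (eq_inv_of_mul_eq_one_left e).trans (eq_inv_of_mul_eq_one_left uu_sq).symm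
  have hnsu : NegSq (s * uu) := third hsu2 (by rw [el_mul]; exact hty.symm.mul_right hyU)
  rcases hcase with h' | ⟨h1, -⟩
  · have h64 := X.atr_D (s := vv * s) (by rw [el_mul]; exact hyD.trans h'.isConj.symm)
    obtain ⟨σ, m, hm, rfl⟩ := exists_mono hsv
    change atr (vv * mono σ m hm) = 64 at h64
    change NegSq (mono σ m hm) at hns
    obtain ⟨-, hu⟩ := negSq_mono.1 hns
    rw [vv, sgn1_mul_mono, atr_fixfree] at h64
    · omega
    · intro p hp
      have hp' : p ∈ symmDiff (mset m) ((σ : Equiv.Perm GolayPt) • mset m) := by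
        rw [hu]; exact Finset.mem_univ p
      rw [Finset.mem_symmDiff, ← Finset.inv_smul_mem_iff, Equiv.Perm.smul_def,
        show (σ : Equiv.Perm GolayPt)⁻¹ p = p from by
          rw [Equiv.Perm.inv_def, Equiv.symm_apply_eq, hp]] at hp'
      tauto
  · have c1 : IsConj vv (vv * s) := X.inj orderOf_vv
      (orderOf_two (by rw [mul_assoc, ← mul_assoc s, hsv.eq, mul_assoc, ← mul_assoc, vv_sq,
        one_mul, ← pow_two, ← hs2]; exact pow_orderOf_eq_one s) fun e => by
        rw [← eq_inv_of_mul_eq_one_right vv_sq |>.trans (eq_inv_of_mul_eq_one_right e).symm] at hns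
        exact not_negSq_sgn1 hns)
      (by rw [el_mul]; exact h1.isConj)
    have c2' : IsConj (el ψ (vv * uu)) (el ψ (vv * (s * uu))) := by
      rw [el_mul, el_mul, el_mul, ← mul_assoc]
      exact h1.mul hVU hyU
    have o1 : orderOf (vv * uu) = 2 := by
      refine orderOf_two ?_ fun e => ?_
      · rw [mul_assoc, ← mul_assoc uu, commute_uu_vv.eq, mul_assoc, uu_sq, mul_one, vv_sq]
      · have := negSq_uu
        rw [← eq_inv_of_mul_eq_one_right vv_sq |>.trans (eq_inv_of_mul_eq_one_right e).symm] at this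
        exact not_negSq_sgn1 this
    have o2 : orderOf (vv * (s * uu)) = 2 := by
      obtain ⟨k, hk⟩ := isConj_iff.1 c2'
      rw [← el_orderOf (ψ := ψ), ← hk, orderOf_conj_eq, el_orderOf, o1]
    exact b_case hsv hns hnsu
      (fun e => not_negSq_sgn1 (m := dM) (hm := dM_code) (negSq_conj c1.symm e))
      (fun e => hvun (negSq_conj (X.inj o1 o2 c2').symm e))

theorem top : G0 = ⊤ := by
  by_contra hne
  have hcent : ∀ s : Spor.Co1, orderOf s = 2 → Subgroup.centralizer ({el ψ s} : Set G) ≤ G0 :=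
    fun s hs => by
      rcases X.cover s hs with a | a | a
      · exact X.cent_conj a X.cent_z1
      · exact X.cent_conj a X.cent_v
      · exact X.cent_conj a X.cent_u
  have hse : Cfsg.IsStronglyEmbedded G0 := by
    refine Co3Inv.stronglyEmbedded_of_control hne (u := el ψ vv) (el_mem _)
      (by rw [el_orderOf, orderOf_vv]) fun x hx hx2 g hg => ?_
    obtain ⟨s, rfl⟩ := el_surj (ψ := ψ) hx
    obtain ⟨t, ht⟩ := el_surj (ψ := ψ) hg
    have o1 : orderOf s = 2 := by rwa [el_orderOf] at hx2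
    have o2 : orderOf t = 2 := by rw [← el_orderOf (ψ := ψ), ht, orderOf_conj_eq, el_orderOf, o1]
    obtain ⟨k, hk, e⟩ :=
      X.conj_in (X.inj o1 o2 (by rw [ht]; exact isConj_iff.2 ⟨g, rfl⟩))
    have : k⁻¹ * g ∈ G0 := hcent s o1 (Subgroup.mem_centralizer_singleton_iff.2 (by
      calc k⁻¹ * g * el ψ s = k⁻¹ * (g * el ψ s * g⁻¹) * g := by group
        _ = k⁻¹ * (k * el ψ s * k⁻¹) * g := by rw [e, ht]
        _ = el ψ s * (k⁻¹ * g) := by group))
    have h2 := mul_mem hk this
    rwa [mul_inv_cancel_left] at h2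
  exact X.reps_ne.1 (CfsgLib.Invol.se_isConj hse (by rw [el_orderOf, z1_order])
    (by rw [el_orderOf, orderOf_vv]))

end Ctx

open CfsgLib.PLocal.LargeExtra in
/-- The involutions of `Co1`. -/
theorem co1_cover : ∀ x : Spor.Co1, orderOf x = 2 → IsConj z1 x ∨ IsConj vv x ∨ IsConj uu x := by
  haveI := Qc_normal
  let QG : Subgroup Spor.Co1 := Qc.map C1.subtype
  have hQC : QG ≤ C1 := Subgroup.map_subtype_le _
  have hsub : QG.subgroupOf C1 = Qc := Subgroup.comap_map_eq_self_of_injective C1.subtype_injective _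
  let eq : ↥Qc ≃* ↥QG := Qc.equivMapOfInjective _ C1.subtype_injective
  have hQ := extraspecial_congr qEquiv K0_extraspecial
  have hpack : Pack QG z1 := pack_of_fstar z1_order hQC (by rw [genFitting_C1])
    (CfsgLib.Trans3.LargeLinear.isExtraspecial_of_equiv eq hQ)
  haveI : (QG.subgroupOf C1).Normal := by rw [hsub]; infer_instance
  obtain ⟨g, ⟨hq, hmem⟩, hne⟩ := exists_conj
  obtain ⟨a, b, c, ha, hb, hc, -, -, -, hcov⟩ := CfsgLib.ClassK.Conway.three_classes_main z1_order
    hpack hQC (by rw [← Nat.card_congr eq.toEquiv, ← Nat.card_congr qEquiv.toEquiv, card_K0])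
    (by rw [hsub, Subgroup.index_eq_card, Nat.card_congr quotEquiv.toEquiv,
      ← CfsgLib.ClassK.Conway.card_omega8plus, ← CfsgLib.Classical.qfPlus_coe])
    ⟨g, ⟨_, hmem, rfl⟩, hne⟩
  obtain ⟨n1, n2, n3⟩ := z1_ne
  intro x hx
  rcases hcov z1 z1_order with p | p | p <;> rcases hcov vv orderOf_vv with q | q | q <;>
    rcases hcov uu orderOf_uu with r | r | r <;> rcases hcov x hx with w | w | w <;> first
    | exact absurd (p.trans q.symm) n1
    | exact absurd (p.trans r.symm) n2
    | exact absurd (q.trans r.symm) n3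
    | exact Or.inl (p.trans w.symm)
    | exact Or.inr (Or.inl (q.trans w.symm))
    | exact Or.inr (Or.inr (r.trans w.symm))

open CfsgLib.PLocal.LargeExtra in
/-- A subgroup containing `C(z)` and isomorphic to `Co1` is everything. -/
theorem eq_top {G : Type*} [Group G] [Finite G] {z : G} (hz : orderOf z = 2) {QG : Subgroup G}
    (hpack : Pack QG z) (hQC : QG ≤ Subgroup.centralizer ({z} : Set G))
    [(QG.subgroupOf (Subgroup.centralizer ({z} : Set G))).Normal]
    (hQcard : Nat.card QG = 2 ^ 9)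
    (hidx : (QG.subgroupOf (Subgroup.centralizer ({z} : Set G))).index = 174182400)
    (hnwc : ∃ g, g * z * g⁻¹ ∈ QG ∧ g * z * g⁻¹ ≠ z)
    (G0 : Subgroup G) (hC : Subgroup.centralizer ({z} : Set G) ≤ G0)
    (ψ : ↥G0 ≃* Spor.Co1)
    (hψ : IsConj (ψ ⟨z, hC (Subgroup.mem_centralizer_singleton_iff.2 rfl)⟩) z1) : G0 = ⊤ := by
  obtain ⟨a, b, c, ha, hb, hc, h1, h2, h3, -⟩ :=
    CfsgLib.ClassK.Conway.three_classes_main hz hpack hQC hQcard hidx hnwc
  refine Ctx.top (z := z) (ψ := ψ) ⟨hC, hψ, ⟨a, b, c, ha, hb, hc, h1, h2, h3⟩, fun x hx => ?_,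
    co1_cover⟩
  refine CfsgLib.ClassK.Conway.conj_into hpack ?_
  rw [← pow_two, ← hx]
  exact pow_orderOf_eq_one x

end CfsgLib.Recog.CoOneInv
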