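import Cfsg.Agent.Lib.Recog.CoOneInv.Checks
import Cfsg.Agent.Lib.Mathieu.Action
import Cfsg.Agent.Lib.ClassK.ConwayMain

/-!
Facts on involutions of `Co1` used at the end of the recognition: monomial elements with two traces
of full size are sign changes, the three classes, and the fixed-point-free case.
-/

set_option autoImplicit false
set_option maxRecDepth 100000

namespace CfsgLib.Recog.CoOneInv

open Cfsg CfsgLib.Golay CfsgLib.Golay.E8Cent CfsgLib.Mathieu
open scoped Pointwise

local notation "Code" => supports (golayCode : Set (GolayPt → ZMod 2))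

/-- A monomial element given by a mask. -/
noncomputable def mono (σ : M24) (m : ℕ) (h : isCode m = true) : Spor.Co1 :=
  pr (monoCo0 σ σ.2 (mset m) (mset_code h))

theorem sgn1_mul_mono {e m : ℕ} (he : isCode e = true) (hm : isCode m = true) (σ : M24) :
    sgn1 e he * mono σ m hm = mono σ (e ^^^ m) (isCode_xor he hm) := by
  rw [sgn1, mono, mono, ← map_mul, sign0_mul_mono σ (mset_code hm) (mset_code he)]
  exact congrArg pr (monoCo0_congr rfl (mset_xor e m).symm)

theorem mono_one {m : ℕ} (hm : isCode m = true) : mono 1 m hm = sgn1 m hm := rfl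

theorem neg_eq : negCo0 = monoCo0 (1 : M24) (1 : M24).2 Finset.univ univ_code := rfl

theorem perm_sq {σ : M24} {m : ℕ} {hm : isCode m = true}
    (h : mono σ m hm * mono σ m hm = 1) : σ * σ = 1 := by
  rw [mono, ← map_mul, monoCo0_mul, ← map_one pr] at h
  rcases pr_eq h.symm with e | e
  · have e1 : (1 : Co0) = sign0 (mset 0) (mset_code isCode_zero) := by
      have h0 : sign0 (mset 0) (mset_code isCode_zero) *
          sign0 (mset 0) (mset_code isCode_zero) = 1 := sign0_sq _ _
      rw [sign0_mul] at h0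
      rw [← h0]
      exact monoCo0_congr rfl (by rw [symmDiff_self, mset_zero]; rfl)
    rw [e1, sign0] at e
    exact Subtype.ext (monoCo0_inj e).1
  · rw [mul_one, neg_eq] at e
    exact Subtype.ext (monoCo0_inj e).1

theorem fix_cases {σ : M24} (h2 : σ * σ = 1) (h1 : σ ≠ 1) :
    (fixS (σ : Equiv.Perm GolayPt)).card = 8 ∧ fixS (σ : Equiv.Perm GolayPt) ∈ octads ∨
      fixS (σ : Equiv.Perm GolayPt) = ∅ := by
  haveI : Fact (Nat.Prime 2) := ⟨Nat.prime_two⟩
  have ho : orderOf (σ : Equiv.Perm GolayPt) = 2 := orderOf_eq_prime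
    (by rw [pow_two, ← Subgroup.coe_mul, h2]; rfl) fun e => h1 (Subtype.ext e)
  rcases invol_cases σ.2 ho with ⟨c, hc, e, h8⟩ | ⟨c, hc, e, he⟩
  · refine Or.inl ⟨h8, ?_⟩
    rw [e, fixS_conj]
    exact M24_smul_octad hc fixS_tOct_octad
  · exact Or.inr he

theorem all_or_none {F : Finset GolayPt} (h8 : F.card = 8) {m : Finset GolayPt}
    (h : (∑ p ∈ F, if p ∈ m then (-8 : ℤ) else 8).natAbs = 64) :
    (∀ p ∈ F, p ∈ m) ∨ ∀ p ∈ F, p ∉ m := by
  classical
  rw [Finset.sum_ite, Finset.sum_const, Finset.sum_const, nsmul_eq_mul, nsmul_eq_mul] at h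
  have hs := Finset.card_filter_add_card_filter_not (s := F) (p := fun p => p ∈ m)
  rw [h8] at hs
  rcases Nat.eq_zero_or_pos (F.filter fun p => p ∈ m).card with e | e
  · exact Or.inr fun p hp hpm => by
      rw [Finset.card_eq_zero, Finset.filter_eq_empty_iff] at e
      exact e hp hpm
  · refine Or.inl fun p hp => ?_
    have h0 : (F.filter fun p => p ∉ m).card = 0 := by omega
    by_contra hpm
    rw [Finset.card_eq_zero, Finset.filter_eq_empty_iff] at h0
    exact h0 hp hpm

/-- Two traces of full size across a dodecad force a sign change. -/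
theorem perm_trivial {σ : M24} {a e : ℕ} {ha : isCode a = true} {he : isCode e = true}
    (h2 : σ * σ = 1) (hA : atr (mono σ a ha) = 64)
    (hAe : atr (mono σ (e ^^^ a) (isCode_xor he ha)) = 64) (hpe : pop e = 12) : σ = 1 := by
  classical
  by_contra h1
  rw [mono, atr_pr, tr_mono] at hA hAe
  rw [show (Finset.univ.filter fun p => (σ : Equiv.Perm GolayPt) p = p) =
    fixS (σ : Equiv.Perm GolayPt) from rfl] at hA hAe
  rcases fix_cases h2 h1 with ⟨h8, hoct⟩ | h0
  swap
  · rw [h0, Finset.sum_empty] at hA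
    simp at hA
  set F := fixS (σ : Equiv.Perm GolayPt) with hF
  have hin : (∀ p ∈ F, p ∈ mset e) ∨ ∀ p ∈ F, p ∉ mset e := by
    have hmem : ∀ p, (p ∈ mset (e ^^^ a)) ↔ ¬ ((p ∈ mset e) ↔ (p ∈ mset a)) := fun p => by
      rw [mset_xor, Finset.mem_symmDiff]; tauto
    rcases all_or_none h8 hA with u | u <;> rcases all_or_none h8 hAe with w | w
    · exact Or.inr fun p hp => by have := (hmem p).1 (w p hp); have := u p hp; tauto
    · exact Or.inl fun p hp => by have := mt (hmem p).2 (w p hp); have := u p hp; tauto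
    · exact Or.inl fun p hp => by have := (hmem p).1 (w p hp); have := u p hp; tauto
    · exact Or.inr fun p hp => by have := mt (hmem p).2 (w p hp); have := u p hp; tauto
  have key : ∀ {d : ℕ}, isCode d = true → pop d = 12 → (∀ p ∈ F, p ∈ mset d) → False := by
    intro d hd hdp hsub
    obtain ⟨o, ho, hoF⟩ := mem_octads_iff.1 hoct
    have hc : (mset (o ^^^ d)).card = 4 := by
      rw [mset_xor, hoF, symmDiff_of_le (show F ≤ mset d from hsub),
        Finset.card_sdiff_of_subset hsub, card_mset, hdp, h8]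
    rw [card_mset] at hc
    rcases isCode_weights (isCode_xor (mem_octList.1 ho).1 hd) with h' | h' | h' | h' | h' <;>
      omega
  rcases hin with hin | hin
  · exact key he hpe hin
  · refine key (isCode_xor he isCode_full) ?_ fun p hp => ?_
    · rw [← card_mset, mset_xor, mset_full,
        show symmDiff (mset e) Finset.univ = (mset e)ᶜ from by ext; simp [Finset.mem_symmDiff],
        Finset.card_compl, card_mset, hpe]
      simp
    · rw [mset_xor, mset_full, Finset.mem_symmDiff]
      exact Or.inr ⟨Finset.mem_univ p, hin p hp⟩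

/-- An element commuting with the dodecad involution with two full traces is a sign change of
index below `2048`. -/
theorem exists_sgn1 {s : Spor.Co1} (hs : Commute s vv) (hs2 : s * s = 1) {x e : ℕ}
    (hx : isCode x = true) (he : isCode e = true) (hpe : pop e = 12)
    (hA : atr (sgn1 x hx * s) = 64) (hAe : atr (sgn1 e he * (sgn1 x hx * s)) = 64) :
    ∃ (k : ℕ) (h : isCode (enc k) = true), k < 2048 ∧ s = sgn1 (enc k) h := by
  obtain ⟨σ, m, hm, rfl⟩ := exists_mono hs
  change (atr (sgn1 x hx * mono σ m hm)) = 64 at hA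
  change (atr (sgn1 e he * (sgn1 x hx * mono σ m hm))) = 64 at hAe
  change mono σ m hm * mono σ m hm = 1 at hs2
  show ∃ k h, k < 2048 ∧ mono σ m hm = _
  rw [sgn1_mul_mono] at hA hAe
  rw [sgn1_mul_mono] at hAe
  obtain rfl := perm_trivial (he := he) (perm_sq hs2) hA hAe hpe
  rw [mono_one]
  have hk : m % 4096 < 4096 := Nat.mod_lt _ (by norm_num)
  by_cases hlt : m % 4096 < 2048
  · refine ⟨m % 4096, ?_, hlt, sgn1_congr (isCode_iff.1 hm).symm hm _⟩
    rw [isCode_iff.1 hm]; exact hm
  · refine ⟨(m % 4096) ^^^ 4095, isCode_enc (Nat.xor_lt_two_pow (n := 12) hk (by norm_num)), ?_, ?_⟩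
    · have hall : ∀ i < 4096, 2048 ≤ i → i ^^^ 4095 < 2048 := by
        intro i h1 h2
        have : allB 12 (fun i => Nat.ble 2048 i == Nat.ble (Nat.xor i 4095) 2047) 0 = true := by
          decide +kernel
        have h3 := allB_range this (k := i) h1
        have hb : Nat.ble 2048 i = true := by rw [Nat.ble_eq]; exact h2
        rw [beq_iff_eq, hb] at h3
        have h4 := h3.symm
        rw [Nat.ble_eq] at h4
        show Nat.xor i 4095 < 2048
        omega
      exact hall _ hk (by omega)
    · have e4 : enc 4095 = 16777215 := by decide +kernel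
      rw [← sgn1_compl hm]
      exact sgn1_congr (by rw [enc_xor, isCode_iff.1 hm, e4]) _ _

/-- Squares to minus one in `Co0`. -/
def NegSq (x : Spor.Co1) : Prop := ∃ g, pr g = x ∧ g * g = negCo0

theorem negSq_conj {x y : Spor.Co1} (h : IsConj x y) (hx : NegSq x) : NegSq y := by
  obtain ⟨k, rfl⟩ := isConj_iff.1 h
  obtain ⟨g, rfl, hg⟩ := hx
  obtain ⟨j, rfl⟩ := pr_surjective k
  refine ⟨j * g * j⁻¹, by rw [map_mul, map_mul, map_inv], ?_⟩
  rw [show j * g * j⁻¹ * (j * g * j⁻¹) = j * (g * g) * j⁻¹ by group, hg,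
    Subgroup.mem_center_iff.1 negCo0_central j, mul_inv_cancel_right]

theorem neg_sq : negCo0 * negCo0 = 1 :=
  co0_ext fun v => by rw [mul_smul, negCo0_smul, negCo0_smul, neg_neg, one_smul]

theorem negSq_mono {σ : M24} {m : ℕ} {hm : isCode m = true} :
    NegSq (mono σ m hm) ↔ σ * σ = 1 ∧
      symmDiff (mset m) ((σ : Equiv.Perm GolayPt) • mset m) = Finset.univ := by
  constructor
  · rintro ⟨g, hg, hg2⟩
    have e : g * g = monoCo0 σ σ.2 (mset m) (mset_code hm) *
        monoCo0 σ σ.2 (mset m) (mset_code hm) := by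
      rcases pr_eq hg.symm with rfl | rfl
      · rfl
      · rw [mul_assoc, ← mul_assoc _ negCo0, Subgroup.mem_center_iff.1 negCo0_central,
          mul_assoc negCo0 _ _, ← mul_assoc, neg_sq, one_mul]
    rw [hg2, monoCo0_mul, neg_eq] at e
    exact ⟨Subtype.ext (monoCo0_inj e).1.symm, (monoCo0_inj e).2.symm⟩
  · rintro ⟨h1, h2⟩
    exact ⟨_, rfl, by rw [monoCo0_mul, neg_eq]; exact monoCo0_congr h1 h2⟩

theorem not_negSq_sgn1 {m : ℕ} {hm : isCode m = true} : ¬ NegSq (sgn1 m hm) := fun h => by
  have e := (negSq_mono (σ := 1) (m := m) (hm := hm)).1 h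
  rw [OneMemClass.coe_one, one_smul, symmDiff_self, Finset.bot_eq_empty] at e
  exact absurd (congrArg Finset.card e.2) (by simp)

theorem atr_fixfree {σ : M24} {m : ℕ} {hm : isCode m = true}
    (h : ∀ p, (σ : Equiv.Perm GolayPt) p ≠ p) : atr (mono σ m hm) = 0 := by
  classical
  rw [mono, atr_pr, tr_mono,
    Finset.filter_false_of_mem fun p _ => h p, Finset.sum_empty]
  rfl

/-! ### The element of the third class -/

theorem u_checks : inM24 uP = true ∧ isCode uC = true ∧ isCode uX = true ∧ isO uX = true ∧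
    (List.range 24).all (fun i => !Nat.beq (img uP i) i && Nat.beq (img uP (img uP i)) i) = true ∧
    mimg uP dM = dM ^^^ 16777215 ∧ uC ^^^ mimg uP uC = 16777215 ∧ mimg uP uX = uX := by
  decide +kernel

/-- The permutation. -/
noncomputable def uσ : M24 := ⟨permOf uP, inM24_mem u_checks.1⟩

/-- The third representative. -/
noncomputable def uu : Spor.Co1 := mono uσ uC u_checks.2.1

theorem uσ_free (p : GolayPt) : (uσ : Equiv.Perm GolayPt) p ≠ p := by
  intro h
  have hv := inM24_valid u_checks.1
  have := u_checks.2.2.2.2.1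
  simp only [List.all_eq_true, List.mem_range, Bool.and_eq_true, Bool.not_eq_true'] at this
  have h2 := (this (idx p) (idx_lt p)).1
  rw [show (uσ : Equiv.Perm GolayPt) p = ptFun uP p from permOf_apply hv p] at h
  have e : idx (ptFun uP p) = idx p := by rw [h]
  rw [ptFun, idx_pt (valid_lt hv (idx_lt p))] at e
  rw [e, Nat.beq_refl] at h2
  exact absurd h2 (by decide)

theorem uσ_sq : uσ * uσ = 1 := by
  refine Subtype.ext (Equiv.ext fun p => ?_)
  have hv := inM24_valid u_checks.1
  have := u_checks.2.2.2.2.1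
  simp only [List.all_eq_true, List.mem_range, Bool.and_eq_true] at this
  show permOf uP (permOf uP p) = p
  rw [permOf_apply hv, permOf_apply hv]
  show pt (img uP (idx (pt (img uP (idx p))))) = p
  rw [idx_pt (valid_lt hv (idx_lt p)),
    Nat.eq_of_beq_eq_true (this (idx p) (idx_lt p)).2, pt_idx]

theorem uσ_smul (m : ℕ) : (uσ : Equiv.Perm GolayPt) • mset m = mset (mimg uP m) :=
  smul_mset (inM24_valid u_checks.1) m

theorem negSq_uu : NegSq uu := by
  refine negSq_mono.2 ⟨uσ_sq, ?_⟩
  rw [uσ_smul, ← mset_xor, u_checks.2.2.2.2.2.2.1, mset_full]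

theorem uu_sq : uu * uu = 1 := by
  obtain ⟨g, hg, hg2⟩ := negSq_uu
  rw [← hg, ← map_mul, hg2, ← mul_one negCo0, pr_neg, map_one]

theorem commute_uu_sgn1 {e : ℕ} (he : isCode e = true)
    (h : mset (mimg uP e) = mset e ∨ mset (mimg uP e) = mset (e ^^^ 16777215)) :
    Commute uu (sgn1 e he) := by
  have hσ := uσ_smul e
  show uu * sgn1 e he = sgn1 e he * uu
  conv_rhs => rw [uu, sgn1_mul_mono]
  rw [uu, sgn1, mono, mono, ← map_mul, mono_mul_sign0 uσ (mset_code u_checks.2.1) (mset_code he)]
  rcases h with h | h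
  · refine congrArg pr (monoCo0_congr rfl ?_)
    rw [hσ, h, mset_xor, symmDiff_comm]
  · rw [← pr_neg, neg_eq, monoCo0_mul]
    refine congrArg pr (monoCo0_congr (one_mul _) ?_)
    rw [OneMemClass.coe_one, one_smul, hσ, h, mset_xor, mset_full, mset_xor,
      symmDiff_comm (mset e) (mset uC)]
    ext p
    simp only [Finset.mem_symmDiff, Finset.mem_univ]
    tauto

theorem commute_uu_vv : Commute uu vv :=
  commute_uu_sgn1 dM_code (Or.inr (by rw [u_checks.2.2.2.2.2.1]))

theorem commute_uu_xx : Commute uu (sgn1 uX u_checks.2.2.1) :=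
  commute_uu_sgn1 _ (Or.inl (by rw [u_checks.2.2.2.2.2.2.2]))

theorem atr_xx_uu : atr (sgn1 uX u_checks.2.2.1 * uu) = 0 := by
  rw [uu, sgn1_mul_mono]; exact atr_fixfree uσ_free

theorem atr_uu : atr uu = 0 := atr_fixfree uσ_free

theorem atr_vv : atr vv = 0 := by
  rw [vv, sgn1, atr_pr, tr_sign, card_mset, misc_checks.2.2.2.2.2.2]
  norm_num

theorem vv_sq : vv * vv = 1 := sgn1_sq _

theorem smul_compl (σ : M24) (s : Finset GolayPt) :
    (σ : Equiv.Perm GolayPt) • sᶜ = ((σ : Equiv.Perm GolayPt) • s)ᶜ := by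
  ext p
  simp [← Finset.inv_smul_mem_iff]

theorem smul_symmDiff (σ : M24) (s t : Finset GolayPt) :
    (σ : Equiv.Perm GolayPt) • symmDiff s t =
      symmDiff ((σ : Equiv.Perm GolayPt) • s) ((σ : Equiv.Perm GolayPt) • t) := by
  ext p
  simp [← Finset.inv_smul_mem_iff, Finset.mem_symmDiff]

/-- In the third class, a product with the dodecad involution in the second class exchanges the
dodecad with its complement. -/
theorem swaps {σ : M24} {m : ℕ} {hm : isCode m = true} (hc : Commute (mono σ m hm) vv)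
    (hn : NegSq (mono σ m hm)) (hv : ¬ NegSq (vv * mono σ m hm)) :
    (σ : Equiv.Perm GolayPt) • mset dM = (mset dM)ᶜ := by
  obtain ⟨h2, hu⟩ := negSq_mono.1 hn
  have e1 : pr (monoCo0 σ σ.2 (mset m) (mset_code hm) * sign0 (mset dM) (mset_code dM_code)) =
      pr (sign0 (mset dM) (mset_code dM_code) * monoCo0 σ σ.2 (mset m) (mset_code hm)) := by
    rw [map_mul, map_mul]; exact hc.eq
  rw [mono_mul_sign0 σ (mset_code hm) (mset_code dM_code),
    sign0_mul_mono σ (mset_code hm) (mset_code dM_code)] at e1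
  rcases pr_eq e1 with e | e
  · exfalso
    have hd := (monoCo0_inj e).2
    rw [symmDiff_comm (mset dM), symmDiff_right_inj] at hd
    refine hv ?_
    rw [vv, sgn1_mul_mono]
    refine negSq_mono.2 ⟨h2, ?_⟩
    rw [mset_xor, smul_symmDiff, ← hd, ← hu]
    generalize mset dM = D
    generalize (σ : Equiv.Perm GolayPt) • mset m = A
    generalize mset m = M
    ext p
    simp only [Finset.mem_symmDiff]
    tauto
  · rw [neg_eq, monoCo0_mul] at e
    have hd := (monoCo0_inj e).2
    rw [OneMemClass.coe_one, one_smul] at hd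
    ext p
    have hp := Finset.ext_iff.1 hd p
    generalize (σ : Equiv.Perm GolayPt) • mset dM = A at hp ⊢
    generalize mset dM = D at hp ⊢
    generalize mset m = M at hp
    simp only [Finset.mem_symmDiff, Finset.mem_univ, Finset.mem_compl] at hp ⊢
    tauto

/-- The two swaps cannot both happen. -/
theorem b_case {s : Spor.Co1} (hs : Commute s vv) (h1 : NegSq s) (h2 : NegSq (s * uu))
    (h3 : ¬ NegSq (vv * s)) (h4 : ¬ NegSq (vv * (s * uu))) : False := by
  obtain ⟨σ, m, hm, rfl⟩ := exists_mono hs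
  have hc2 := hs.mul_left commute_uu_vv
  have e : ∃ (m' : ℕ) (hm' : isCode m' = true),
      pr (monoCo0 σ σ.2 (mset m) (mset_code hm)) * uu = mono (σ * uσ) m' hm' := by
    obtain ⟨m', hm', hme⟩ := mem_supports_iff.1
      (symmDiff_mem_supports (mset_code hm) (smul_code σ (mset_code u_checks.2.1)))
    refine ⟨m', hm', ?_⟩
    rw [uu, mono, ← map_mul, monoCo0_mul, mono]
    exact congrArg pr (monoCo0_congr rfl hme.symm)
  obtain ⟨m', hm', e⟩ := e
  rw [e] at h2 h4 hc2
  have s1 := swaps (σ := σ) (hm := hm) hs h1 h3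
  have s2 := swaps hc2 h2 h4
  rw [Subgroup.coe_mul, mul_smul, uσ_smul, u_checks.2.2.2.2.2.1, mset_xor, mset_full,
    show symmDiff (mset dM) Finset.univ = (mset dM)ᶜ from by ext; simp [Finset.mem_symmDiff],
    smul_compl, s1, compl_compl] at s2
  have h := Finset.ext_iff.1 s2 pinf
  simp at h

end CfsgLib.Recog.CoOneInv
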