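import Cfsg.Agent.Lib.Recog.CoOneInv.Defs
import Cfsg.Agent.Lib.Trans3.ConwayM24.Split
import Cfsg.Agent.Lib.Golay.Co0Simple

/-!
The local subgroup `2^11 : M24` of a group of Conway type is the monomial subgroup of the first
Conway group.
-/

set_option autoImplicit false
set_option maxRecDepth 20000
set_option synthInstance.maxSize 2000

namespace CfsgLib.Recog.CoOneInv

open Subgroup Cfsg CfsgLib.Golay CfsgLib.Golay.E8Cent CfsgLib.Mathieu
open CfsgLib.Trans3.ExtraTwo CfsgLib.Trans3.ConwayM24 CfsgLib.ClassK.Conway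
open scoped Pointwise symmDiff

theorem support_mem {w : Wd} (hw : w ∈ Cfsg.golayCode) :
    Cfsg.support₂ w ∈ supports (golayCode : Set (GolayPt → ZMod 2)) := ⟨w, hw, rfl⟩

theorem sgnW_eq {w : Wd} (hw : w ∈ Cfsg.golayCode) :
    sgnW w = E8Cent.pr (sign0 (Cfsg.support₂ w) (support_mem hw)) := dif_pos _

theorem support_add (v w : Wd) :
    Cfsg.support₂ (v + w) = Cfsg.support₂ v ∆ Cfsg.support₂ w := by
  ext p
  simp only [Cfsg.support₂, Finset.mem_filter, Finset.mem_univ, true_and, Finset.mem_symmDiff,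
    Pi.add_apply]
  generalize v p = a
  generalize w p = b
  revert a b
  decide

theorem sgnW_add {v w : Wd} (hv : v ∈ Cfsg.golayCode) (hw : w ∈ Cfsg.golayCode) :
    sgnW (v + w) = sgnW v * sgnW w := by
  rw [sgnW_eq hv, sgnW_eq hw, sgnW_eq (add_mem hv hw), ← map_mul, sign0_mul]
  exact congrArg _ (sign0_congr (support_add v w))

theorem neg_def : negCo0 = monoCo0 (1 : M24) (1 : M24).2 Finset.univ univ_code := rfl

theorem sgnW_one : sgnW (1 : Wd) = 1 := by
  have h : Cfsg.support₂ (1 : Wd) = Finset.univ := by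
    ext p; simp [Cfsg.support₂]
  have hm : Cfsg.support₂ (1 : Wd) ∈ supports (golayCode : Set (GolayPt → ZMod 2)) := h ▸ univ_code
  rw [sgnW, dif_pos hm, sign0_congr (hd := univ_code) h]
  calc E8Cent.pr (sign0 Finset.univ univ_code) = E8Cent.pr (negCo0 * 1) := by rw [mul_one, neg_def, sign0]
    _ = 1 := by rw [pr_neg, map_one]

theorem sgnW_zero : sgnW (0 : Wd) = 1 := by
  have h : Cfsg.support₂ (0 : Wd) = ∅ := by
    ext p; simp [Cfsg.support₂]
  rw [sgnW_eq (zero_mem _), sign0_congr (hd := empty_code) h, sign0_empty, map_one]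

theorem one_mem_code : (1 : Wd) ∈ Cfsg.golayCode := by
  obtain ⟨v, hv, e⟩ : Finset.univ ∈ supports (golayCode : Set (GolayPt → ZMod 2)) := univ_code
  rwa [show (1 : Wd) = v from support₂_injective (e.trans (by ext p; simp [Cfsg.support₂])).symm]

theorem sgnW_congr {v w : Wd} (h : Eq1 v w) (hw : w ∈ Cfsg.golayCode) : sgnW v = sgnW w := by
  rcases h with rfl | rfl
  · rfl
  · rw [sgnW_add hw one_mem_code, sgnW_one, mul_one]

/-- The permutation matrices. -/
noncomputable def permW : ↥Cfsg.M24 →* Spor.Co1 :=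
  MonoidHom.mk' (fun τ => E8Cent.pr (monoCo0 τ τ.2 ∅ empty_code)) fun a b => by
    rw [← map_mul, monoCo0_mul]
    refine congrArg _ (monoCo0_congr rfl ?_)
    rw [Finset.smul_finset_empty]; exact (symmDiff_self _).symm

theorem perm_sgn (τ : ↥Cfsg.M24) {w : Wd} (hw : w ∈ Cfsg.golayCode) :
    permW τ * sgnW w = sgnW (act (τ : Equiv.Perm GolayPt) w) * permW τ := by
  show E8Cent.pr _ * _ = _ * E8Cent.pr _
  rw [sgnW_eq hw, sgnW_eq (act_mem_code τ.2 hw), ← map_mul, ← map_mul, mono_mul_sign0,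
    sign0_mul_mono]
  refine congrArg _ (monoCo0_congr rfl ?_)
  rw [support_act]
  exact (symmDiff_comm _ _)

theorem pair_mul (a b : ↥Cfsg.M24) {v w : Wd} (hv : v ∈ Cfsg.golayCode) (hw : w ∈ Cfsg.golayCode) :
    sgnW v * permW a * (sgnW w * permW b) =
      sgnW (v + act (a : Equiv.Perm GolayPt) w) * permW (a * b) := by
  rw [sgnW_add hv (act_mem_code a.2 hw), map_mul]
  calc sgnW v * permW a * (sgnW w * permW b) = sgnW v * (permW a * sgnW w) * permW b := by group
    _ = _ := by rw [perm_sgn a hw]; group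

theorem perm_sgn_eq_one {τ : ↥Cfsg.M24} {w : Wd} (hw : w ∈ Cfsg.golayCode)
    (h : sgnW w * permW τ = 1) : τ = 1 ∧ Eq1 w 0 := by
  rw [sgnW_eq hw, show permW τ = E8Cent.pr (monoCo0 τ τ.2 ∅ empty_code) from rfl, ← map_mul,
    sign0_mul_mono,
    monoCo0_congr (σ := τ) (τ := τ) (c := Cfsg.support₂ w ∆ ∅) (d := Cfsg.support₂ w)
      (hc := symmDiff_mem_supports (support_mem hw) empty_code) (hd := support_mem hw) rfl (symmDiff_bot _)] at h
  rcases pr_eq (h.trans (map_one E8Cent.pr).symm) with e | e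
  · rw [← sign0_empty] at e
    obtain ⟨h1, h2⟩ := monoCo0_inj e.symm
    refine ⟨Subtype.ext h1, Or.inl (support₂_injective (h2.trans ?_))⟩
    ext p; simp [Cfsg.support₂]
  · have e' : monoCo0 τ τ.2 (Cfsg.support₂ w) (support_mem hw) = negCo0 := by
      calc monoCo0 τ τ.2 (Cfsg.support₂ w) (support_mem hw)
          = negCo0 * (negCo0 * monoCo0 τ τ.2 (Cfsg.support₂ w) (support_mem hw)) := by
            rw [← mul_assoc, neg_def, ← sign0, sign0_sq, one_mul]
        _ = negCo0 := by rw [← e, mul_one]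
    rw [neg_def] at e'
    obtain ⟨h1, h2⟩ := monoCo0_inj e'
    refine ⟨Subtype.ext h1, Or.inr ?_⟩
    rw [zero_add]
    exact support₂_injective (h2.trans (by ext p; simp [Cfsg.support₂]))

variable {G : Type*} [Group G] [Finite G] {z : G} {Q : Subgroup G} {e : ↥Q ≃* ES 4 (ff 4)} {ρ : G}

/-- **The local isomorphism.** -/
theorem exists_localIso (S : Std z e ρ) : ∃ φ σ, IsLocalIso S φ σ := by
  classical
  obtain ⟨K, hK⟩ := exists_complement S
  set π := permOfN S
  have hker : π.ker = (AA S).subgroupOf (NA S) := permOfN_ker S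
  have hb : Function.Bijective (π.comp K.subtype) := by
    refine ⟨(injective_iff_map_eq_one _).2 fun k hk => ?_, fun τ => ?_⟩
    · have h1 : (k : ↥(NA S)) ∈ (AA S).subgroupOf (NA S) ⊓ K := ⟨hker ▸ hk, k.2⟩
      rw [disjoint_iff.1 hK.disjoint, mem_bot] at h1
      exact Subtype.ext h1
    · obtain ⟨n, rfl⟩ := permOfN_surjective S τ
      obtain ⟨⟨a, k⟩, hak⟩ := hK.2 n
      refine ⟨k, ?_⟩
      have ha : π a = 1 := by rw [← MonoidHom.mem_ker, hker]; exact a.2
      show π k = π n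
      rw [← hak, map_mul, ha, one_mul]
  let eK : ↥K ≃* ↥Cfsg.M24 := MulEquiv.ofBijective _ hb
  let r : ↥(NA S) →* ↥(NA S) := (K.subtype.comp eK.symm.toMonoidHom).comp π
  have hr : ∀ n, π (r n) = π n := fun n => eK.apply_symm_apply (π n)
  have hex : ∀ n : ↥(NA S), ∃ v, iota S v = (n : G) * ((r n : ↥(NA S)) : G)⁻¹ := fun n => by
    have : n * (r n)⁻¹ ∈ π.ker := by rw [MonoidHom.mem_ker, map_mul, map_inv, hr, mul_inv_cancel]
    rw [hker] at this
    exact (mem_AA S).1 this
  choose vO hvO using hex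
  -- the permutation carrying the octad of `z`
  obtain ⟨g, hg⟩ := M24_trans_octads (o := mset 5279) (o' := mset octB)
    (mem_octads_iff.2 ⟨5279, mem_octList.2 ⟨by decide +kernel, by decide +kernel⟩, rfl⟩) octB_mem
  have hgc : ∀ v, act (g : Equiv.Perm GolayPt) (Trans3.ConwayM24.psi v) ∈ Cfsg.golayCode := fun v =>
    act_mem_code g.2 (psi_mem v)
  let F : ↥(NA S) → Spor.Co1 := fun n =>
    sgnW (act (g : Equiv.Perm GolayPt) (Trans3.ConwayM24.psi (vO n))) * permW (g * π n * g⁻¹)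
  have hv_mul : ∀ m n : ↥(NA S), vO (m * n) = vO m + nmap S (r m) (vO n) := fun m n => iota_injective S (by
    rw [← iota_mul, nmap_spec, hvO, hvO, hvO, map_mul, Subgroup.coe_mul, Subgroup.coe_mul]
    group)
  let φ0 : ↥(NA S) →* Spor.Co1 := MonoidHom.mk' F fun m n => by
    show sgnW _ * permW _ = sgnW _ * permW _ * (sgnW _ * permW _)
    rw [pair_mul _ _ (hgc _) (hgc _)]
    congr 1
    · refine sgnW_congr ?_ (add_mem (hgc _) (act_mem_code (g * π m * g⁻¹ : ↥Cfsg.M24).2 (hgc _)))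
      rw [hv_mul, psi_add]
      have h := (permOfN_spec S (r m) (vO n)).act (g : Equiv.Perm GolayPt)
      rw [hr] at h
      have h' : Eq1 (act (g : Equiv.Perm GolayPt) (Trans3.ConwayM24.psi (nmap S (r m) (vO n))))
          (act ((g * π m * g⁻¹ : ↥Cfsg.M24) : Equiv.Perm GolayPt) (act (g : Equiv.Perm GolayPt) (Trans3.ConwayM24.psi (vO n)))) := by
        rw [← act_mul, Subgroup.coe_mul, Subgroup.coe_mul, Subgroup.coe_inv, inv_mul_cancel_right,
          act_mul]
        exact h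
      exact Eq1.add (Or.inl rfl) h'
    · rw [map_mul π]; congr 1; group
  have hAK : ∀ n : ↥(NA S), ∀ v, (n : G) = iota S v → π n = 1 ∧ vO n = v := fun n v hn => by
    have h1 : π n = 1 := by rw [← MonoidHom.mem_ker, hker]; exact (mem_AA S).2 ⟨v, hn.symm⟩
    refine ⟨h1, iota_injective S ?_⟩
    rw [hvO, show r n = 1 by show ((eK.symm (π n) : ↥K) : ↥(NA S)) = 1; rw [h1, map_one]; rfl,
      OneMemClass.coe_one, inv_one, mul_one, hn]
  have hA : ∀ n : ↥(NA S), ∀ v, (n : G) = iota S v → φ0 n = sgnW (act (g : Equiv.Perm GolayPt) (Trans3.ConwayM24.psi v)) :=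
    fun n v hn => by
      obtain ⟨h1, h2⟩ := hAK n v hn
      show sgnW _ * permW _ = _
      rw [h1, h2, mul_one, mul_inv_cancel, map_one, mul_one]
  have hmem : ∀ n, φ0 n ∈ N2 := fun n => by
    refine mul_mem ?_ ⟨_, mono_mem_N0 (g * π n * g⁻¹) ∅ empty_code, rfl⟩
    rw [sgnW_eq (hgc _)]
    exact ⟨_, sign0_mem_N0 _ _, rfl⟩
  have hinj : Function.Injective (φ0.codRestrict N2 hmem) := by
    refine (injective_iff_map_eq_one _).2 fun n hn => ?_
    obtain ⟨h1, h2⟩ := perm_sgn_eq_one (hgc _) (congrArg Subtype.val hn)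
    have h1' : π n = 1 := by simpa using h1
    have hv : vO n = 0 := psi_inj (by
      have h3 := h2.act (g : Equiv.Perm GolayPt)⁻¹
      rw [← act_mul, inv_mul_cancel, act_one] at h3
      exact h3.trans (Or.inl (by rw [psi_zero]; rfl)))
    have h4 := hvO n
    rw [hv, iota_zero, show r n = 1 by show ((eK.symm (π n) : ↥K) : ↥(NA S)) = 1; rw [h1', map_one]; rfl,
      OneMemClass.coe_one, inv_one, mul_one] at h4
    exact Subtype.ext h4.symm
  have hsur : Function.Surjective (φ0.codRestrict N2 hmem) := by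
    rintro ⟨_, x, hx, rfl⟩
    obtain ⟨τ, c, hc, rfl⟩ := N0_rep hx
    obtain ⟨w, hw, rfl⟩ := hc
    obtain ⟨v, hv⟩ := exists_psi (act_mem_code (g⁻¹ : ↥Cfsg.M24).2 hw)
    let k : ↥(NA S) := (eK.symm (g⁻¹ * τ * g) : ↥K)
    have hk : π k = g⁻¹ * τ * g := eK.apply_symm_apply _
    refine ⟨⟨iota S v, Subgroup.le_normalizer ((mem_AA S).2 ⟨v, rfl⟩)⟩ * k, Subtype.ext ?_⟩
    show φ0 (_ * k) = _
    have hrk : r k = k := by
      show ((eK.symm (π k) : ↥K) : ↥(NA S)) = k
      rw [hk]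
    have hvk : vO k = 0 := iota_injective S (by rw [hvO, hrk, mul_inv_cancel, iota_zero])
    rw [map_mul, hA _ v rfl]
    show _ * (sgnW _ * permW _) = _
    rw [hvk, psi_zero, show act (g : Equiv.Perm GolayPt) (0 : Wd) = 0 from rfl, sgnW_zero, one_mul, hk,
      show g * (g⁻¹ * τ * g) * g⁻¹ = τ by group]
    have h5 : Eq1 w (act (g : Equiv.Perm GolayPt) (Trans3.ConwayM24.psi v)) := by
      have := hv.act (g : Equiv.Perm GolayPt)
      rwa [Subgroup.coe_inv, act_inv_self] at this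
    rw [sgnW_congr h5.symm hw, sgnW_eq hw, show permW τ = E8Cent.pr (monoCo0 τ τ.2 ∅ empty_code) from rfl,
      ← map_mul, sign0_mul_mono]
    exact congrArg _ (monoCo0_congr rfl (symmDiff_bot _))
  refine ⟨MulEquiv.ofBijective _ ⟨hinj, hsur⟩, g, hA, fun n hn => ?_⟩
  show φ0 n = z1
  rw [hA n (low 1 0 0) (by rw [iota_z]; exact hn)]
  have hs : Cfsg.support₂ (act (g : Equiv.Perm GolayPt) (Trans3.ConwayM24.psi (low 1 0 0))) = (mset octC)ᶜ := by
    rw [support_act, Trans3.ConwayM24.psi, show phim (low 1 0 0) = 5279 by decide +kernel, support_mword, octC_compl,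
      compl_compl]
    exact hg
  have h1 : sgnW (act (g : Equiv.Perm GolayPt) (Trans3.ConwayM24.psi (low 1 0 0)) + 1) = z1 := by
    rw [sgnW_eq (add_mem (hgc _) one_mem_code), z1]
    refine congrArg _ (sign0_congr ?_)
    rw [support_add_one, hs, compl_compl]
  rw [← h1, sgnW_add (hgc _) one_mem_code, sgnW_one, mul_one]

end CfsgLib.Recog.CoOneInv
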