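import Cfsg.Agent.Lib.Recog.CoOneInv.OctHom
import Cfsg.Agent.Lib.Trans3.ConwayM24.Count

/-!
A coordinate isomorphism of the local subgroup sends the extraspecial group to its model.
-/

set_option autoImplicit false
set_option maxRecDepth 100000
set_option synthInstance.maxSize 2000

namespace CfsgLib.Recog.CoOneInv

open Cfsg CfsgLib.Golay CfsgLib.Golay.E8Cent
open CfsgLib.Trans3.ExtraTwo CfsgLib.Trans3.ConwayM24 CfsgLib.ClassK.Conway
open CfsgLib.Mathieu (Wd)
open scoped Pointwise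

attribute [local irreducible] permOf mset monoCo0

/-- The extraspecial group of the model, in `Co1`. -/
noncomputable def Q2 : Subgroup Spor.Co1 := Qc.map C1.subtype

theorem mem_Q2_iff {x : Spor.Co1} : x ∈ Q2 ↔ ∃ k : Co0, k ∈ K0 ∧ pr k = x := by
  constructor
  · rintro ⟨_, ⟨k, rfl⟩, rfl⟩
    exact ⟨k, k.2, rfl⟩
  · rintro ⟨k, hk, rfl⟩
    exact ⟨_, ⟨⟨k, hk⟩, rfl⟩, rfl⟩

theorem Q2_le_N2 : Q2 ≤ N2 := by
  intro x hx
  obtain ⟨k, hk, rfl⟩ := mem_Q2_iff.1 hx
  obtain ⟨σ, c, hc, -, -, rfl⟩ := K0_rep hk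
  exact Subgroup.mem_map_of_mem pr (mono_mem_N0 σ c hc)

theorem card_Q2 : Nat.card Q2 = 2 ^ 9 := by
  rw [Q2, Subgroup.card_map_of_injective Subtype.val_injective, ← card_K0]
  exact (Nat.card_congr qEquiv.toEquiv).symm

theorem Q2_conj {c q : Spor.Co1} (hc : c ∈ C1) (hq : q ∈ Q2) : c * q * c⁻¹ ∈ Q2 := by
  obtain ⟨q0, hq0, rfl⟩ := hq
  exact ⟨⟨c, hc⟩ * q0 * ⟨c, hc⟩⁻¹, Qc_normal.conj_mem _ hq0 _, rfl⟩

theorem Q2_comm {x y : Spor.Co1} (hx : x ∈ Q2) (hy : y ∈ Q2) :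
    x * y = y * x ∨ x * y = z1 * (y * x) := by
  obtain ⟨g, hg, rfl⟩ := mem_Q2_iff.1 hx
  obtain ⟨h, hh, rfl⟩ := mem_Q2_iff.1 hy
  rcases K0_comm hg hh with e | e
  · left; rw [← map_mul, ← map_mul, e]
  · right; rw [z1, ← map_mul, ← map_mul, ← map_mul, e]

theorem pr_sign_mem_Q2 (c : Finset GolayPt)
    (hc : c ∈ supports (golayCode : Set (GolayPt → ZMod 2))) :
    pr (sign0 c hc) ∈ Q2 ↔ c ∩ mset octB = ∅ ∨ mset octB ⊆ c := by
  constructor
  · intro h
    obtain ⟨k, hk, e⟩ := mem_Q2_iff.1 h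
    obtain ⟨σ, d, hd, -, hdis, rfl⟩ := K0_rep hk
    rcases pr_eq e with e' | e'
    · left
      rw [(monoCo0_inj e').2, ← Finset.disjoint_iff_inter_eq_empty, Finset.disjoint_left]
      exact hdis
    · right
      have e2 := e'.trans (sign0_mul_mono σ hd univ_code)
      rw [(monoCo0_inj e2).2]
      intro p hp
      rw [Finset.mem_symmDiff]
      exact Or.inl ⟨Finset.mem_univ p, fun hpd => hdis p hpd hp⟩
  · rintro (h | h)
    · refine mem_Q2_iff.2 ⟨_, ?_, rfl⟩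
      refine mono_mem_K0 (σ := 1) (Subgroup.one_mem _) fun p hp hpB => ?_
      exact Finset.notMem_empty p (h ▸ Finset.mem_inter.2 ⟨hp, hpB⟩)
    · refine mem_Q2_iff.2 ⟨sign0 (symmDiff Finset.univ c) (symmDiff_mem_supports univ_code hc),
        ?_, ?_⟩
      · refine mono_mem_K0 (σ := 1) (Subgroup.one_mem _) fun p hp hpB => ?_
        rw [Finset.mem_symmDiff] at hp
        rcases hp with ⟨-, hp⟩ | ⟨-, hp⟩
        exacts [hp (h hpB), hp (Finset.mem_univ p)]
      · rw [← sign0_mul _ _ univ_code hc]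
        exact pr_neg _

theorem low_mask : phim (low 1 0 0) = 5279 ∧ CfsgLib.Golay.pop 5279 = 8 := by decide +kernel

theorem low_test : ∀ v : Av, (phim v &&& 5279 = 0 ∨ phim v &&& 5279 = 5279) ↔
    (v.2.2.1 = 0 ∧ v.2.2.2.2 = 0) := by decide +kernel

theorem low_param (v : Av) (h1 : v.2.2.1 = 0) (h2 : v.2.2.2.2 = 0) :
    v = low v.1 v.2.1 v.2.2.2.1 := by
  obtain ⟨i, j, a, b, m⟩ := v
  simp only at h1 h2
  subst h1 h2
  rfl

theorem low_gen (P : Av → Prop) (hadd : ∀ u v, P u → P v → P (u + v)) (h0 : P 0)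
    (h1 : P (low 1 0 0)) (h2 : P (low 0 1 0)) (h3 : P (low 0 0 E1)) (h4 : P (low 0 0 E2))
    (h5 : P (low 0 0 E3)) (i j : ZMod 2) (b : V) : P (low i j b) := by
  have hs : ∀ (c : ZMod 2) (v : Av), P v → P (c • v) := fun c v hv => by
    rcases z2_cases c with rfl | rfl
    · rw [zero_smul]; exact h0
    · rw [one_smul]; exact hv
  have hd : ∀ (i j : ZMod 2) (b : V), low i j b = i • low 1 0 0 + (j • low 0 1 0 +
      (b.1 • low 0 0 E1 + (b.2.1 • low 0 0 E2 + b.2.2 • low 0 0 E3))) := by decide +kernel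
  rw [hd]
  exact hadd _ _ (hs _ _ h1) (hadd _ _ (hs _ _ h2) (hadd _ _ (hs _ _ h3)
    (hadd _ _ (hs _ _ h4) (hs _ _ h5))))

theorem move_f0 : ∀ p s : V, dot p s = 1 →
    tau (e0 + up (pr p 0)) (f0 + up (pr 0 s)) f0 = up (pr 0 s) := by decide +kernel

theorem tv_fix_zero : ∀ a : V, (∀ p q : V, dot p q = 0 → tv p q a = a) → a = 0 := by
  decide +kernel

theorem tau_comm_zero : ∀ m : V, (∀ p q : V, dot p q = 0 → ∀ c : Sp 3,
    tau (pr p 0) (pr 0 q) (sigR m c) = sigR m (tau (pr p 0) (pr 0 q) c)) → m = 0 := by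
  decide +kernel

section Local

variable {G : Type*} [Group G] [Finite G] {z : G} {Q : Subgroup G} {e : ↥Q ≃* ES 4 (ff 4)}
  {ρ : G}

theorem Q_le_NA (S : Std z e ρ) : Q ≤ NA S := by
  intro X hX
  obtain ⟨t, k, s, c, rfl⟩ := exists_Q_form S hX
  refine mul_mem (mul_mem ?_ ?_) ?_
  · rcases z2_cases t with rfl | rfl
    · rw [pw_zero]; exact one_mem _
    · rw [pw_one]; exact q_mem_NA S
  · rw [← S.tri.nm_dl c]; exact nm_mem_NA S _ _ _ _
  · rw [← S.tri.nm_ep]; exact nm_mem_NA S _ _ _ _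

theorem iota_mem_NA (S : Std z e ρ) (v : Av) : iota S v ∈ NA S :=
  Subgroup.le_normalizer ⟨v, rfl⟩

variable (S : Std z e ρ) {φ : ↥(NA S) ≃* ↥N2} {σ : ↥Cfsg.M24} (h : IsLocalIso S φ σ)
include h

theorem phi_C1 {n : ↥(NA S)} (hn : (n : G) ∈ Subgroup.centralizer ({z} : Set G)) :
    ((φ n : ↥N2) : Spor.Co1) ∈ C1 := by
  refine Subgroup.mem_centralizer_singleton_iff.2 ?_
  let zn : ↥(NA S) := ⟨z, (congrArg (· ∈ NA S) (iota_z S)).mp (iota_mem_NA S _)⟩
  have hc : n * zn = zn * n := Subtype.ext (Subgroup.mem_centralizer_singleton_iff.1 hn)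
  rw [← h.z_map zn rfl, ← Subgroup.coe_mul, ← Subgroup.coe_mul, ← map_mul, ← map_mul, hc]

theorem sigma_octad : (σ : Equiv.Perm GolayPt) • mset 5279 = mset octB := by
  let zn : ↥(NA S) := ⟨iota S (low 1 0 0), iota_mem_NA S _⟩
  have e1 := (h.a_map zn (low 1 0 0) rfl).symm.trans (h.z_map zn (iota_z S))
  have hs : Cfsg.support₂ (CfsgLib.Mathieu.act (σ : Equiv.Perm GolayPt) (CfsgLib.Trans3.ConwayM24.psi (low 1 0 0))) =
      (σ : Equiv.Perm GolayPt) • mset 5279 := by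
    rw [CfsgLib.Mathieu.support_act, CfsgLib.Trans3.ConwayM24.psi, support_mword, low_mask.1]
  have hmem : Cfsg.support₂ (CfsgLib.Mathieu.act (σ : Equiv.Perm GolayPt) (CfsgLib.Trans3.ConwayM24.psi (low 1 0 0))) ∈
      supports (golayCode : Set (GolayPt → ZMod 2)) :=
    ⟨_, CfsgLib.Mathieu.act_mem_code σ.2 (psi_mem _), rfl⟩
  rw [sgnW, dif_pos hmem, z1] at e1
  have hcard : ((σ : Equiv.Perm GolayPt) • mset 5279).card = 8 := by
    rw [Finset.card_smul_finset, card_mset, low_mask.2]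
  rcases pr_eq e1 with e2 | e2
  · exfalso
    rw [← hs, ← (monoCo0_inj e2).2, octC_compl, Finset.card_compl, octB_mem.2] at hcard
    exact absurd hcard (by decide)
  · have e3 := (monoCo0_inj (e2.trans (sign0_mul _ _ univ_code hmem))).2
    rw [hs, octC_compl] at e3
    ext p
    have hp := Finset.ext_iff.1 e3 p
    simp only [Finset.mem_compl, Finset.mem_symmDiff, Finset.mem_univ, true_and, not_true_eq_false,
      and_false, or_false] at hp
    exact (not_iff_not.1 hp).symm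

theorem iota_Q2_iff (v : Av) :
    ((φ ⟨iota S v, iota_mem_NA S v⟩ : ↥N2) : Spor.Co1) ∈ Q2 ↔
      (v.2.2.1 = 0 ∧ v.2.2.2.2 = 0) := by
  have hs : Cfsg.support₂ (CfsgLib.Mathieu.act (σ : Equiv.Perm GolayPt) (CfsgLib.Trans3.ConwayM24.psi v)) =
      (σ : Equiv.Perm GolayPt) • mset (phim v) := by
    rw [CfsgLib.Mathieu.support_act, CfsgLib.Trans3.ConwayM24.psi, support_mword]
  have hmem : Cfsg.support₂ (CfsgLib.Mathieu.act (σ : Equiv.Perm GolayPt) (CfsgLib.Trans3.ConwayM24.psi v)) ∈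
      supports (golayCode : Set (GolayPt → ZMod 2)) :=
    ⟨_, CfsgLib.Mathieu.act_mem_code σ.2 (psi_mem _), rfl⟩
  rw [h.a_map _ v rfl, sgnW, dif_pos hmem, pr_sign_mem_Q2, hs, ← sigma_octad S h,
    ← Finset.smul_finset_inter, Finset.smul_finset_eq_empty, Finset.smul_finset_subset_smul_finset_iff,
    ← Finset.inter_eq_right, ← mset_and, ← low_test v]
  have hlt : phim v &&& 5279 < 16777216 := lt_of_le_of_lt Nat.and_le_right (by norm_num)
  refine or_congr ⟨fun e => mset_inj hlt (by norm_num) (e.trans mset_zero.symm),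
    fun e => by rw [e, mset_zero]⟩ ⟨fun e => mset_inj hlt (by norm_num) e, fun e => by rw [e]⟩

/-- The preimage of the model group. -/
noncomputable def QP : Subgroup G :=
  (Q2.comap (N2.subtype.comp φ.toMonoidHom)).map (NA S).subtype

omit h in
theorem mem_QP {g : G} : g ∈ QP S (φ := φ) ↔
    ∃ hg : g ∈ NA S, ((φ ⟨g, hg⟩ : ↥N2) : Spor.Co1) ∈ Q2 := by
  constructor
  · rintro ⟨n, hn, rfl⟩
    exact ⟨n.2, hn⟩
  · rintro ⟨hg, hn⟩
    exact ⟨⟨g, hg⟩, hn, rfl⟩

omit h in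
theorem card_QP : Nat.card (QP S (φ := φ)) = 2 ^ 9 := by
  have hinj : Function.Injective (N2.subtype.comp φ.toMonoidHom) :=
    Subtype.val_injective.comp φ.injective
  rw [QP, Subgroup.card_map_of_injective Subtype.val_injective, ← card_Q2,
    ← Subgroup.card_map_of_injective (K := Q2.comap (N2.subtype.comp φ.toMonoidHom)) hinj,
    Subgroup.map_comap_eq_self]
  intro x hx
  exact ⟨φ.symm ⟨x, Q2_le_N2 hx⟩, by simp⟩

theorem QP_cent {g : G} (hg : g ∈ QP S (φ := φ)) : g ∈ Subgroup.centralizer ({z} : Set G) := by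
  obtain ⟨hn, hq⟩ := (mem_QP S).1 hg
  refine Subgroup.mem_centralizer_singleton_iff.2 ?_
  let zn : ↥(NA S) := ⟨z, (congrArg (· ∈ NA S) (iota_z S)).mp (iota_mem_NA S _)⟩
  have hc : (⟨g, hn⟩ : ↥(NA S)) * zn = zn * ⟨g, hn⟩ := by
    refine φ.injective (Subtype.ext ?_)
    rw [map_mul, map_mul, Subgroup.coe_mul, Subgroup.coe_mul, h.z_map zn rfl]
    obtain ⟨q0, -, e0⟩ := hq
    rw [← e0]
    exact Subgroup.mem_centralizer_singleton_iff.1 q0.2
  exact congrArg Subtype.val hc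

theorem QP_conj {g k : G} (hk : k ∈ Subgroup.centralizer ({z} : Set G)) (hkN : k ∈ NA S)
    (hg : g ∈ QP S (φ := φ)) : k * g * k⁻¹ ∈ QP S (φ := φ) := by
  obtain ⟨hn, hq⟩ := (mem_QP S).1 hg
  refine (mem_QP S).2 ⟨mul_mem (mul_mem hkN hn) (inv_mem hkN), ?_⟩
  have e : (⟨k * g * k⁻¹, mul_mem (mul_mem hkN hn) (inv_mem hkN)⟩ : ↥(NA S)) =
      ⟨k, hkN⟩ * ⟨g, hn⟩ * ⟨k, hkN⟩⁻¹ := rfl
  rw [e, map_mul, map_mul, map_inv, Subgroup.coe_mul, Subgroup.coe_mul, Subgroup.coe_inv]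
  exact Q2_conj (phi_C1 S h (n := ⟨k, hkN⟩) hk) hq

theorem iota_QP_iff (v : Av) : iota S v ∈ QP S (φ := φ) ↔ (v.2.2.1 = 0 ∧ v.2.2.2.2 = 0) := by
  rw [mem_QP, ← iota_Q2_iff S h v]
  exact ⟨fun ⟨_, hq⟩ => hq, fun hq => ⟨_, hq⟩⟩

theorem QP_low_conj {g : G} (hg : g ∈ QP S (φ := φ)) (i j : ZMod 2) (b : V) :
    g * iota S (low i j b) * g⁻¹ = iota S (low i j b) ∨
      g * iota S (low i j b) * g⁻¹ = iota S (low (i + 1) j b) := by
  obtain ⟨hn, hq⟩ := (mem_QP S).1 hg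
  obtain ⟨hb, hqb⟩ := (mem_QP S).1 ((iota_QP_iff S h (low i j b)).2 ⟨rfl, rfl⟩)
  let zn : ↥(NA S) := ⟨iota S (low 1 0 0), iota_mem_NA S _⟩
  have hzv := h.z_map zn (iota_z S)
  rcases Q2_comm hq hqb with e | e
  · left
    rw [← Subgroup.coe_mul, ← Subgroup.coe_mul, ← map_mul, ← map_mul] at e
    have e1 := congrArg Subtype.val (φ.injective (Subtype.ext e))
    change g * iota S (low i j b) = iota S (low i j b) * g at e1
    rw [e1, mul_inv_cancel_right]
  · right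
    rw [← hzv, ← Subgroup.coe_mul, ← Subgroup.coe_mul, ← Subgroup.coe_mul, ← map_mul, ← map_mul,
      ← map_mul] at e
    have e1 := congrArg Subtype.val (φ.injective (Subtype.ext e))
    change g * iota S (low i j b) = iota S (low 1 0 0) * (iota S (low i j b) * g) at e1
    rw [e1, ← mul_assoc, mul_inv_cancel_right, iota_mul]
    congr 1
    simp [low, add_comm i 1]

omit h in
theorem z2_shift : ∀ i t : ZMod 2, i + t = i ↔ t = 0 := by decide

omit h in
/-- Effect of an element of the form `qe^t * dl (pr 0 s)` on the low subgroup. -/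
theorem form_conj (t : ZMod 2) (s : V) (i j : ZMod 2) (b : V) :
    pw (qe e) t * nm z e ρ 0 0 0 (pr 0 s) * iota S (low i j b) *
        (pw (qe e) t * nm z e ρ 0 0 0 (pr 0 s))⁻¹ =
      iota S (low (i + dot b s + t * j) j b) := by
  rw [show pw (qe e) t * nm z e ρ 0 0 0 (pr 0 s) * iota S (low i j b) *
      (pw (qe e) t * nm z e ρ 0 0 0 (pr 0 s))⁻¹ = pw (qe e) t *
        (nm z e ρ 0 0 0 (pr 0 s) * iota S (low i j b) * (nm z e ρ 0 0 0 (pr 0 s))⁻¹) *
        (pw (qe e) t)⁻¹ by group, nm_conj_low S]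
  simp only [alt_zero_right, add_zero, alt_pr, dot_zero_left, zero_add]
  rcases z2_cases t with rfl | rfl
  · rw [pw_zero, one_mul, inv_one, mul_one, zero_mul, add_zero]
  · rw [pw_one, q_conj_low S, one_mul]

theorem exists_form {g : G} (hg : g ∈ QP S (φ := φ)) :
    ∃ (p : ZMod 2 × V) (v : Av), g = pw (qe e) p.1 * nm z e ρ 0 0 0 (pr 0 p.2) * iota S v := by
  classical
  let d : ZMod 2 → V → ZMod 2 := fun j b =>
    if g * iota S (low 0 j b) * g⁻¹ = iota S (low 0 j b) then 0 else 1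
  have hd : ∀ j b, g * iota S (low 0 j b) * g⁻¹ = iota S (low (0 + d j b) j b) := fun j b => by
    simp only [d]
    split_ifs with hh
    · rw [add_zero]; exact hh
    · exact (QP_low_conj S h hg 0 j b).resolve_left hh
  set X := pw (qe e) (d 1 0) * nm z e ρ 0 0 0 (pr 0 (d 0 E1, d 0 E2, d 0 E3)) with hX
  have hXc : ∀ i j b, X * iota S (low i j b) * X⁻¹ =
      iota S (low (i + dot b (d 0 E1, d 0 E2, d 0 E3) + d 1 0 * j) j b) := fun i j b =>
    form_conj S _ _ i j b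
  have hc : ∀ i j b, X⁻¹ * g * iota S (low i j b) = iota S (low i j b) * (X⁻¹ * g) := by
    intro i j b
    refine low_gen (fun w => X⁻¹ * g * iota S w = iota S w * (X⁻¹ * g)) ?_ ?_ ?_ ?_ ?_ ?_ ?_ i j b
    · intro u w hu hw
      rw [← iota_mul S u w, ← mul_assoc, hu, mul_assoc, hw, ← mul_assoc]
    · rw [iota_zero, mul_one, one_mul]
    all_goals
      rw [← mul_inv_eq_iff_eq_mul]
    · rw [show X⁻¹ * g * iota S (low 1 0 0) * (X⁻¹ * g)⁻¹ =
          X⁻¹ * (g * iota S (low 1 0 0) * g⁻¹) * X by group, iota_z,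
        mul_inv_eq_iff_eq_mul.2 (Subgroup.mem_centralizer_singleton_iff.1 (QP_cent S h hg))]
      have hXz := hXc 1 0 0
      rw [dot_zero_left, mul_zero, add_zero, add_zero, iota_z] at hXz
      calc X⁻¹ * z * X = X⁻¹ * (X * z * X⁻¹) * X := by rw [hXz]
        _ = z := by group
    all_goals
      rw [show ∀ w, X⁻¹ * g * iota S w * (X⁻¹ * g)⁻¹ =
          X⁻¹ * (g * iota S w * g⁻¹) * X from fun w => by group, hd, zero_add]
      have key : ∀ (x y : G), X * y * X⁻¹ = x → X⁻¹ * x * X = y := by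
        intro x y hxy; rw [← hxy]; group
      apply key
      rw [hXc]
      congr 2
      simp [dot, E1, E2, E3]
  obtain ⟨v, hv⟩ := (mem_AA S).1 (mem_AA_of_commute S hc)
  refine ⟨(d 1 0, (d 0 E1, d 0 E2, d 0 E3)), v, ?_⟩
  rw [← hX, hv, mul_inv_cancel_left]

theorem exists_qe_form :
    ∃ v : Av, qe e * iota S v ∈ QP S (φ := φ) := by
  classical
  choose T w hTw using fun g : QP S (φ := φ) => exists_form S h g.2
  let rep : ZMod 2 × V → ↥(QP S (φ := φ)) := Function.invFun T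
  have hrep : ∀ g, T (rep (T g)) = T g := fun g => Function.invFun_eq ⟨g, rfl⟩
  let F : ↥(QP S (φ := φ)) → (ZMod 2 × V) × (ZMod 2 × ZMod 2 × V) := fun g =>
    (T g, ((w (rep (T g)) + w g).1, (w (rep (T g)) + w g).2.1, (w (rep (T g)) + w g).2.2.2.1))
  have hdiff : ∀ g g', T g = T g' →
      (w g + w g').2.2.1 = 0 ∧ (w g + w g').2.2.2.2 = 0 := by
    intro g g' he
    rw [← iota_QP_iff S h]
    have := mul_mem (inv_mem g.2) g'.2
    rw [hTw g, hTw g', he, mul_inv_rev, mul_assoc, inv_mul_cancel_left, iota_inv, iota_mul] at this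
    exact this
  have hinj : Function.Injective F := by
    intro g g' he
    simp only [F, Prod.mk.injEq] at he
    obtain ⟨h1, h2, h3, h4⟩ := he
    obtain ⟨a1, a2⟩ := hdiff (rep (T g)) g (hrep g)
    obtain ⟨b1, b2⟩ := hdiff (rep (T g')) g' (hrep g')
    rw [← h1] at h2 h3 h4 b1 b2
    have e1 : w (rep (T g)) + w g = w (rep (T g)) + w g' := by
      rw [low_param _ a1 a2, low_param _ b1 b2, h2, h3, h4]
    refine Subtype.ext ?_
    rw [hTw g, hTw g', h1, add_left_cancel e1]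
  have hbij : Function.Bijective F := (Nat.bijective_iff_injective_and_card F).2 ⟨hinj, by
    rw [card_QP, Nat.card_eq_fintype_card]
    simp only [Fintype.card_prod, ZMod.card]
    norm_num⟩
  obtain ⟨g, hg⟩ := hbij.2 ((1, 0), 0)
  have h1 : T g = (1, 0) := congrArg Prod.fst hg
  refine ⟨w g, ?_⟩
  have hm := g.2
  rw [hTw g, h1] at hm
  simp only [pw_one, pr_zero] at hm
  rwa [S.tri.nm_one, mul_one] at hm

theorem qe_mem_QP : qe e ∈ QP S (φ := φ) := by
  obtain ⟨v, hv⟩ := exists_qe_form S h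
  have T := S.tri
  have W := T.setup
  have key : ∀ p q : V, dot p q = 0 → tv p q v.2.2.1 = v.2.2.1 ∧ (v.2.2.1 = 0 → ∀ c : Sp 3,
      tau (pr p 0) (pr 0 q) (sigR v.2.2.2.2 c) = sigR v.2.2.2.2 (tau (pr p 0) (pr 0 q) c)) := by
    intro p q hpq
    obtain ⟨h1, h2, h3, u, w, h4, h5, h6⟩ := tv_witness p q hpq
    obtain ⟨l, hl, hs⟩ := exists_tau T h1 h2 h3 h4 h5 h6
    have hlN : l ∈ NA S := lev_mem_NA S hl (tv p q) fun b => by rw [hs, tv_sig]; rfl
    obtain ⟨v', hv'⟩ := (mem_AA S).1 ((Subgroup.mem_normalizer_iff.1 hlN _).1 ⟨v, rfl⟩)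
    have hq := QP_conj S h (Tri.memH hl.1) hlN hv
    rw [show l * (qe e * iota S v) * l⁻¹ = l * qe e * l⁻¹ * (l * iota S v * l⁻¹) by group,
      ← hv', ← T.lev_q hl, mul_inv_cancel_right] at hq
    have hm := mul_mem (inv_mem hv) hq
    rw [mul_inv_rev, mul_assoc, inv_mul_cancel_left, iota_inv, iota_mul, iota_QP_iff S h] at hm
    have aux : ∀ x y : V, x + y = 0 → y = x := by decide +kernel
    have ea : v'.2.2.1 = v.2.2.1 := aux _ _ hm.1
    have em : v'.2.2.2.2 = v.2.2.2.2 := aux _ _ hm.2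
    have hact : ∀ X, act e l (act e (iota S v) X) = act e (iota S v') (act e l X) := by
      intro X
      rw [← W.act_mul (Tri.memH hl.1) (Tri.memH (iota_ce S v)),
        ← W.act_mul (Tri.memH (iota_ce S v')) (Tri.memH hl.1)]
      congr 1
      rw [hv']; group
    obtain ⟨l1, l2⟩ := T.lev_act hl
    obtain ⟨-, i1, i2⟩ := act_iota S v
    obtain ⟨-, j1, j2⟩ := act_iota S v'
    refine ⟨?_, fun ha c => ?_⟩
    · have e1 := hact f0
      rw [i1, (W.act_isom (Tri.memH hl.1)).map_add, l1, l2, j1, hs, tv_sig, ea] at e1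
      exact (pr_inj (up_inj (add_left_cancel e1))).1
    · have e1 := hact (up c)
      rw [i2, l2, j2, ea, em, ha] at e1
      simp only [dot_zero_left, zero_smul, zero_add] at e1
      rw [l2, hs, hs] at e1
      exact up_inj e1
  have ha : v.2.2.1 = 0 := tv_fix_zero _ fun p q hpq => (key p q hpq).1
  have hm : v.2.2.2.2 = 0 := tau_comm_zero _ fun p q hpq c => (key p q hpq).2 ha c
  have := mul_mem hv (inv_mem ((iota_QP_iff S h v).2 ⟨ha, hm⟩))
  rwa [mul_inv_cancel_right] at this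

theorem QP_eq : QP S (φ := φ) = Q := by
  have T := S.tri
  have W := T.setup
  have hz : z ∈ QP S (φ := φ) := by
    have h1 := (iota_QP_iff S h (low 1 0 0)).2 ⟨rfl, rfl⟩
    rwa [iota_z] at h1
  let P : Sp 4 → Prop := fun v => el e v 0 ∈ QP S (φ := φ)
  have hk : ∀ v, P v → ∀ k, el e v k ∈ QP S (φ := φ) := fun v hv k => by
    rcases z2_cases k with rfl | rfl
    · exact hv
    · rw [show (1 : ZMod 2) = 0 + 1 from rfl, W.el_add_one]
      exact mul_mem hv hz
  have hof : ∀ v k, el e v k ∈ QP S (φ := φ) → P v := fun v k hvk => by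
    rcases z2_cases k with rfl | rfl
    · exact hvk
    · rw [show (1 : ZMod 2) = 0 + 1 from rfl, W.el_add_one] at hvk
      have := mul_mem hvk (inv_mem hz)
      rwa [mul_inv_cancel_right] at this
  have hadd : ∀ u v, P u → P v → P (u + v) := fun u v hu hv => by
    refine hof _ (0 + 0 + beta (ff 4) u v) ?_
    rw [← Setup.el_mul]
    exact mul_mem hu hv
  have hP0 : P 0 := by
    show el e 0 0 ∈ _
    rw [Setup.el_zero]; exact one_mem _
  have hsm : ∀ (c : ZMod 2) v, P v → P (c • v) := fun c v hv => by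
    rcases z2_cases c with rfl | rfl
    · rw [zero_smul]; exact hP0
    · rw [one_smul]; exact hv
  have he : P e0 := by
    have h1 := (iota_QP_iff S h (low 0 1 0)).2 ⟨rfl, rfl⟩
    rw [iota_x] at h1
    exact h1
  have hf : P f0 := qe_mem_QP S h
  have hx : ∀ b : V, P (up (pr b 0)) := fun b => by
    have h1 := (iota_QP_iff S h (low 0 0 b)).2 ⟨rfl, rfl⟩
    rw [iota_low, T.nm_dl] at h1
    exact h1
  have hy : ∀ s : V, P (up (pr 0 s)) := fun s => by
    by_cases hs : s = 0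
    · subst hs; rw [pr_zero, up_zero]; exact hP0
    obtain ⟨p, hp⟩ : ∃ p, dot p s = 1 := by
      by_contra hne
      exact hs (dot_all s fun x => (z2_cases _).resolve_right fun h1 => hne ⟨x, h1⟩)
    obtain ⟨c, hc, hcN, hca⟩ := exists_move S p s hp
    obtain ⟨k, hk'⟩ := W.conj_el hc f0 0
    rw [hca, move_f0 p s hp] at hk'
    refine hof _ k ?_
    rw [← hk']
    exact QP_conj S h hc hcN (qe_mem_QP S h)
  have hle : Q ≤ QP S (φ := φ) := by
    intro g hg
    obtain ⟨v, k, rfl⟩ := Setup.exists_el (e := e) hg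
    obtain ⟨s, t, b, rfl, -, -⟩ := decomp v
    refine hk _ (hadd _ _ (hadd _ _ (hsm _ _ he) (hsm _ _ hf)) ?_) k
    rw [← pr_px_py b, show pr (px b) (py b) = pr (px b) 0 + pr 0 (py b) by
      rw [pr_add, add_zero, zero_add], ← up_add]
    exact hadd _ _ (hx _) (hy _)
  refine (Subgroup.eq_of_le_of_card_ge hle ?_).symm
  rw [card_QP]
  refine le_trans (le_of_eq ?_) (Nat.card_le_card_of_injective
    (fun p : Sp 4 × ZMod 2 => (⟨el e p.1 p.2, Setup.el_mem _ _⟩ : ↥Q)) fun p q hpq => ?_)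
  · rw [Nat.card_eq_fintype_card]
    simp only [Fintype.card_prod, Fintype.card_fun, Fintype.card_fin, ZMod.card]
    norm_num
  · exact Prod.ext (Setup.el_inj (congrArg Subtype.val hpq)).1
      (Setup.el_inj (congrArg Subtype.val hpq)).2

/-- The coordinate isomorphism sends `Q` onto its model. -/
theorem map_Q (n : ↥(NA S)) :
    (n : G) ∈ Q ↔ ((φ n : ↥N2) : Spor.Co1) ∈ Qc.map C1.subtype := by
  refine (SetLike.ext_iff.1 (QP_eq S h) (n : G)).symm.trans ((mem_QP S).trans ?_)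
  exact ⟨fun ⟨_, hq⟩ => hq, fun hq => ⟨n.2, hq⟩⟩

end Local

end CfsgLib.Recog.CoOneInv
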