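import Cfsg.Agent.Lib.Trans3.ConwayM24.Code
import Mathlib.GroupTheory.Index

/-!
Conjugation by elements of the local subgroup moving the involution inside the extraspecial group
commutes with a coordinate map of the centraliser.
-/

set_option autoImplicit false
set_option maxRecDepth 20000
set_option synthInstance.maxSize 2000

namespace CfsgLib.Recog.CoOneInv

open Subgroup CfsgLib.Trans3.ExtraTwo CfsgLib.ClassK.Conway CfsgLib.Trans3.ConwayM24

theorem alt_zero_of_all {n : ℕ} {a : Sp n} (h : ∀ c, alt a c = 0) : a = 0 :=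
  eq_of_alt fun u => by rw [h, alt_zero_left]

variable {G : Type*} [Group G] [Finite G] {z : G} {Q : Subgroup G} {e : ↥Q ≃* ES 4 (ff 4)} {ρ : G}
variable (S : Std z e ρ)
include S

/-- An element commuting with the radical of the pair lies in the four-group. -/
theorem eq_ep_of_commute {d : G} (hd : CE z e d)
    (h : ∀ i j a b, d * nm z e ρ i j a b = nm z e ρ i j a b * d) : ∃ i j, d = ep z e i j := by
  have T := S.tri
  obtain ⟨i, j, a, b, rfl⟩ := T.inU_of_sig hd fun v => T.sig_eq hd (s := 0) (by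
    rw [zero_smul, zero_add]
    refine T.setup.act_eq (Tri.memH hd) (k := 0) (k' := 0) ?_
    have h0 := h 0 0 0 v
    rw [T.nm_dl] at h0
    show d * dl e v * d⁻¹ = dl e v
    rw [h0, mul_inv_cancel_right])
  have z2e : ∀ i x : ZMod 2, i + x = i → x = 0 := by decide
  have z2f : ∀ i x y : ZMod 2, i + x = i + y → x + y = 0 := by decide
  have hb : ∀ c, alt b c = 0 ∧ alt a c = 0 := fun c => by
    have e1 := h 0 0 c 0
    rw [T.nm_mul, T.nm_mul] at e1
    obtain ⟨p1, p2, -, -⟩ := T.nm_inj e1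
    simp only [alt_zero_left, beta_zero_left, beta_zero_right, add_zero, zero_add] at p1 p2
    have hbc : alt b c = 0 := z2e _ _ p1
    rw [hbc, add_zero] at p2
    exact ⟨hbc, by rw [← beta_symm (ff 3) a c]; exact z2f _ _ _ p2⟩
  rw [alt_zero_of_all fun c => (hb c).1, alt_zero_of_all fun c => (hb c).2]
  exact ⟨i, j, T.nm_ep i j⟩

/-- The elements of the group inside the extraspecial group are low. -/
theorem low_of_mem {v : Av} (h : iota S v ∈ Q) : v.2.2.1 = 0 ∧ v.2.2.2.2 = 0 := by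
  have T := S.tri
  obtain ⟨i, j, b, hb⟩ := T.exists_ep_dl h (iota_ce S v).2
  have e1 : ep z e i j * dl e b = nm z e ρ i j 0 b := by rw [nm, T.yl_zero, one_mul]
  rw [e1] at hb
  have hm : v.2.2.2.2 = 0 := sigR_eq_id _ fun w => by rw [← sig_iota S, hb, T.sig_nm]
  obtain ⟨k, l, a, c, m⟩ := v
  simp only at hm
  subst hm
  rw [iota, r_zero, mul_one] at hb
  obtain ⟨-, -, h3, -⟩ := T.nm_inj hb
  rw [← pr_zero] at h3
  exact ⟨(pr_inj h3).1, rfl⟩

/-- **Two maps of the centraliser of the pair agreeing on the local subgroup agree.** -/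
theorem twist_eq {G' : Type*} [Group G'] (φ : ↥(centralizer ({z} : Set G)) →* G')
    (hinj : Function.Injective φ)
    (θ : ↥(centralizer ({z} : Set G) ⊓ centralizer ({xe e} : Set G)) →* G')
    (hagree : ∀ y : ↥(centralizer ({z} : Set G) ⊓ centralizer ({xe e} : Set G)), (y : G) ∈ NA S →
      θ y = φ ⟨y, y.2.1⟩)
    (hrange : ∀ y, θ y ∈ φ.range)
    (hodd : Odd ((NA S).relIndex (centralizer ({z} : Set G) ⊓ centralizer ({xe e} : Set G))))
    (y : ↥(centralizer ({z} : Set G) ⊓ centralizer ({xe e} : Set G))) : θ y = φ ⟨y, y.2.1⟩ := by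
  let Y := centralizer ({z} : Set G) ⊓ centralizer ({xe e} : Set G)
  have T := S.tri
  have hCE : ∀ g : G, g ∈ Y ↔ CE z e g := fun g => by
    rw [mem_inf, mem_centralizer_singleton_iff, mem_centralizer_singleton_iff]
    exact Iff.rfl
  choose μ hμ using hrange
  have hμ' : ∀ y, φ (μ y) = θ y := hμ
  have hmul : ∀ a b : ↥Y, ((μ (a * b) : ↥(centralizer ({z} : Set G))) : G) = μ a * μ b := fun a b => by
    rw [hinj (show φ (μ (a * b)) = φ (μ a * μ b) by rw [map_mul, hμ', hμ', hμ', map_mul]),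
      Subgroup.coe_mul]
  have hN : ∀ a : ↥Y, (a : G) ∈ NA S → ((μ a : ↥(centralizer ({z} : Set G))) : G) = a := fun a ha =>
    congrArg Subtype.val (hinj ((hμ' a).trans (hagree a ha)))
  have hU : ∀ i j a b, nm z e ρ i j a b ∈ Y := fun i j a b => (hCE _).2 (T.nm_ce i j a b)
  have hμCE : ∀ a : ↥Y, CE z e (μ a : ↥(centralizer ({z} : Set G))) := by
    intro a
    refine ⟨mem_centralizer_singleton_iff.1 (μ a).2, ?_⟩
    obtain ⟨i, j, c, d, hx⟩ : ∃ i j c d, xe e = nm z e ρ i j c d :=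
      ⟨0, 1, 0, 0, by rw [T.nm_ep, ep, pw_zero, pw_one, one_mul]⟩
    have hxY : xe e ∈ Y := hx ▸ hU i j c d
    have hxN : xe e ∈ NA S := hx ▸ nm_mem_NA S i j c d
    have e1 := hmul a ⟨_, hxY⟩
    have e2 := hmul ⟨_, hxY⟩ a
    have hc : a * ⟨_, hxY⟩ = (⟨_, hxY⟩ : ↥Y) * a := Subtype.ext ((hCE _).1 a.2).2
    rw [hN ⟨_, hxY⟩ hxN] at e1 e2
    rw [hc] at e1
    exact e1.symm.trans e2
  have hδ : ∀ a : ↥Y, ∃ i j, (a : G)⁻¹ * μ a = ep z e i j := by
    intro a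
    refine eq_ep_of_commute S (((hCE _).1 a.2).inv.mul (hμCE a)) fun i j c d => ?_
    obtain ⟨i', j', c', d', hw⟩ := T.inU_of_sig
      ((((hCE _).1 a.2).mul (T.nm_ce i j c d)).mul ((hCE _).1 a.2).inv) (fun v => by
        rw [T.sig_mul (((hCE _).1 a.2).mul (T.nm_ce i j c d)) ((hCE _).1 a.2).inv,
          T.sig_mul ((hCE _).1 a.2) (T.nm_ce i j c d), T.sig_nm,
          ← T.sig_mul ((hCE _).1 a.2) ((hCE _).1 a.2).inv, mul_inv_cancel, sig_one S])
    have hwY : (⟨_, hU i' j' c' d'⟩ : ↥Y) * a = a * ⟨_, hU i j c d⟩ := Subtype.ext (by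
      show nm z e ρ i' j' c' d' * (a : G) = a * nm z e ρ i j c d
      rw [← hw, inv_mul_cancel_right])
    have e1 := hmul ⟨_, hU i' j' c' d'⟩ a
    have e2 := hmul a ⟨_, hU i j c d⟩
    rw [hN ⟨_, hU i' j' c' d'⟩ (nm_mem_NA S _ _ _ _)] at e1
    rw [hN ⟨_, hU i j c d⟩ (nm_mem_NA S _ _ _ _)] at e2
    rw [hwY] at e1
    have e3 : nm z e ρ i' j' c' d' * (μ a : ↥(centralizer ({z} : Set G))) =
        (μ a : ↥(centralizer ({z} : Set G))) * nm z e ρ i j c d := e1.symm.trans e2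
    calc (a : G)⁻¹ * (μ a : ↥(centralizer ({z} : Set G))) * nm z e ρ i j c d
        = (a : G)⁻¹ * (nm z e ρ i' j' c' d' * (μ a : ↥(centralizer ({z} : Set G)))) := by
          rw [e3, mul_assoc]
      _ = nm z e ρ i j c d * ((a : G)⁻¹ * (μ a : ↥(centralizer ({z} : Set G)))) := by
          rw [← hw]; group
  have hcen : ∀ (a b : ↥Y), (b : G) * ((a : G)⁻¹ * μ a) = ((a : G)⁻¹ * μ a) * b := fun a b => by
    obtain ⟨i, j, hij⟩ := hδ a
    rw [hij]
    exact T.ce_ep ((hCE _).1 b.2) i j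
  let D : ↥Y →* G := MonoidHom.mk' (fun a => (a : G)⁻¹ * μ a) fun a b => by
    show ((a * b : ↥Y) : G)⁻¹ * μ (a * b) = _
    rw [hmul, Subgroup.coe_mul, mul_inv_rev]
    calc (b : G)⁻¹ * (a : G)⁻¹ * (μ a * μ b : G)
        = (b : G)⁻¹ * ((a : G)⁻¹ * μ a) * μ b := by group
      _ = ((a : G)⁻¹ * μ a) * ((b : G)⁻¹ * μ b) := by
        rw [← mul_assoc _ (b : G)⁻¹]
        congr 1
        rw [inv_mul_eq_iff_eq_mul, ← mul_assoc, hcen a b, mul_inv_cancel_right]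
  have hD1 : D y = 1 := by
    have h2 : D y * D y = 1 := by
      obtain ⟨i, j, hij⟩ := hδ y
      show ((y : G)⁻¹ * μ y) * ((y : G)⁻¹ * μ y) = 1
      rw [hij, T.ep_mul, z2_add_self, z2_add_self, T.ep_zero]
    have hle : (NA S).subgroupOf Y ≤ D.ker := fun a ha => by
      rw [MonoidHom.mem_ker]
      show (a : G)⁻¹ * μ a = 1
      rw [hN a ha, inv_mul_cancel]
    have hdvd : Nat.card D.range ∣ (NA S).relIndex Y := by
      rw [← Subgroup.index_ker]
      exact Subgroup.index_dvd_of_le hle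
    by_contra hne
    have ho : orderOf (D y) = 2 := orderOf_eq_prime (by rw [pow_two]; exact h2) hne
    have h3 : 2 ∣ (NA S).relIndex Y := by
      refine dvd_trans ?_ hdvd
      rw [← ho, show orderOf (D y) = orderOf (⟨D y, ⟨y, rfl⟩⟩ : D.range) from
        Subgroup.orderOf_coe (⟨D y, ⟨y, rfl⟩⟩ : D.range)]
      exact orderOf_dvd_natCard _
    obtain ⟨k, hk⟩ := hodd
    have hk' : (NA S).relIndex Y = 2 * k + 1 := hk
    omega
  rw [← hμ' y]
  congr 1
  exact Subtype.ext (inv_mul_eq_one.1 hD1).symm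

theorem nm_mem_z : iota S (low 1 0 0) ∈ NA S := by
  rw [iota_low]; exact nm_mem_NA S _ _ _ _

/-- **The twist.** -/
theorem conj_compat {G' : Type*} [Group G'] {z' : G'} (φC : ↥(centralizer ({z} : Set G)) →* G')
    (φN : ↥(NA S) →* G') (hinj : Function.Injective φC)
    (hrange : φC.range = centralizer ({z'} : Set G'))
    (hagree : ∀ (g : G) (hc : g ∈ centralizer ({z} : Set G)) (hn : g ∈ NA S), φC ⟨g, hc⟩ = φN ⟨g, hn⟩)
    (hz : φC ⟨z, mem_centralizer_singleton_iff.2 rfl⟩ = z')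
    (hodd : Odd ((NA S).relIndex (centralizer ({z} : Set G) ⊓ centralizer ({xe e} : Set G))))
    (g : ↥(NA S)) (hg : (g : G) * z * (g : G)⁻¹ ∈ Q)
    (h : ↥(centralizer ({z} : Set G))) (hh : φN g * φC h * (φN g)⁻¹ ∈ centralizer ({z'} : Set G')) :
    ∃ hm : (g : G) * h * (g : G)⁻¹ ∈ centralizer ({z} : Set G),
      φC ⟨_, hm⟩ = φN g * φC h * (φN g)⁻¹ := by
  have T := S.tri
  have hzC : z ∈ centralizer ({z} : Set G) := mem_centralizer_singleton_iff.2 rfl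
  have hzN : z ∈ NA S :=
    by have := nm_mem_z S; rwa [iota_z] at this
  have hzz : φN ⟨z, hzN⟩ = z' := by rw [← hagree z hzC hzN, hz]
  -- the involution moved to `z`
  obtain ⟨v, hv⟩ : ∃ v, iota S v = (g : G)⁻¹ * z * g := by
    have := conj_exists S (inv_mem g.2) (low 1 0 0)
    rw [iota_z S, inv_inv] at this
    exact this
  set w := (g : G)⁻¹ * z * g with hw
  have hwN : w ∈ NA S := mul_mem (mul_mem (inv_mem g.2) hzN) g.2
  have hgw : (g : G) * w * (g : G)⁻¹ = z := by rw [hw]; group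
  by_cases hwz : w = z
  · have hgC : (g : G) ∈ centralizer ({z} : Set G) := mem_centralizer_singleton_iff.2 (by
      calc (g : G) * z = (g : G) * w := by rw [hwz]
        _ = z * g := by rw [hw]; group)
    refine ⟨mul_mem (mul_mem hgC h.2) (inv_mem hgC), ?_⟩
    rw [show (⟨(g : G) * h * (g : G)⁻¹, _⟩ : ↥(centralizer ({z} : Set G))) =
      ⟨g, hgC⟩ * h * ⟨g, hgC⟩⁻¹ from rfl, map_mul, map_mul, map_inv, hagree g hgC g.2]
  have hw2 : w * w = 1 := by
    rw [hw]; calc (g : G)⁻¹ * z * g * ((g : G)⁻¹ * z * g) = (g : G)⁻¹ * (z * z) * g := by group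
      _ = 1 := by rw [T.setup.pack.z_mul_z]; group
  have hw1 : w ≠ 1 := fun e1 => T.setup.pack.z_ne (by rw [← hgw, e1]; group)
  -- `w` lies in the extraspecial group
  have hwQ : w ∈ Q := by
    set a := (g : G) * z * (g : G)⁻¹ with ha
    have ha2 : a * a = 1 := by
      rw [ha, show (g : G) * z * (g : G)⁻¹ * ((g : G) * z * (g : G)⁻¹) = (g : G) * (z * z) * (g : G)⁻¹ by
        group, T.setup.pack.z_mul_z, mul_one, mul_inv_cancel]
    have ha1 : a ≠ 1 := fun e1 => T.setup.pack.z_ne (conj_eq_one_iff.1 (ha ▸ e1))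
    have haz : a ≠ z := fun e1 => hwz (by
      calc w = (g : G)⁻¹ * a * g := by rw [e1]
        _ = z := by rw [ha]; group)
    have hx := T.setup.xe_facts
    obtain ⟨c, hc, hca⟩ := T.setup.isConj_H hx.1 hx.2.1 hx.2.2.1 hx.2.2.2.1 hg ha2 ha1 haz
    have hd : ρ⁻¹ * c⁻¹ * (g : G) ∈ centralizer ({z} : Set G) := mem_centralizer_singleton_iff.2 (by
      calc ρ⁻¹ * c⁻¹ * (g : G) * z = ρ⁻¹ * c⁻¹ * a * g := by rw [ha]; group
        _ = ρ⁻¹ * xe e * c⁻¹ * g := by rw [← hca]; group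
        _ = z * (ρ⁻¹ * c⁻¹ * g) := by
          have e1 : xe e = ρ * z * ρ⁻¹ := T.rho_z.symm
          rw [e1]; group)
    have hrz : ρ⁻¹ * z * ρ ∈ Q := by
      have e1 : ρ * (xe e * z) * ρ⁻¹ = z := by
        calc ρ * (xe e * z) * ρ⁻¹ = (ρ * xe e * ρ⁻¹) * (ρ * z * ρ⁻¹) := by group
          _ = xe e * z * xe e := by rw [T.rho_x, T.rho_z]
          _ = z := by rw [mul_assoc, ← T.setup.pack.comm_z hx.1, ← mul_assoc, hx.2.1, one_mul]
      have e2 : xe e * z = ρ⁻¹ * z * ρ := by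
        calc xe e * z = ρ⁻¹ * (ρ * (xe e * z) * ρ⁻¹) * ρ := by group
          _ = ρ⁻¹ * z * ρ := by rw [e1]
      exact e2 ▸ mul_mem hx.1 T.setup.pack.mem
    have hcz : c⁻¹ * z * c = z := by
      rw [mul_assoc, ← mem_centralizer_singleton_iff.1 hc, inv_mul_cancel_left]
    have e3 : w = (ρ⁻¹ * c⁻¹ * g)⁻¹ * (ρ⁻¹ * z * ρ) * (ρ⁻¹ * c⁻¹ * g)⁻¹⁻¹ := by
      calc w = (g : G)⁻¹ * (c * (c⁻¹ * z * c) * c⁻¹) * g := by rw [hw]; group
        _ = _ := by rw [hcz]; group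
    rw [e3]
    exact T.setup.conj_mem (inv_mem hd) hrz
  obtain ⟨h1, h2⟩ := low_of_mem S (hv.symm ▸ hwQ)
  obtain ⟨i, j, a, b, m⟩ := v
  simp only at h1 h2
  subst h1 h2
  have hbj : b ≠ 0 ∨ j = 1 := by
    by_contra hne
    rw [not_or, not_not] at hne
    obtain ⟨rfl, hj⟩ := hne
    rw [show j = 0 from (z2_cases j).resolve_right hj] at hv
    rcases z2_cases i with rfl | rfl
    · exact hw1 (hv.symm.trans (iota_zero S))
    · exact hwz (hv.symm.trans (iota_z S))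
  obtain ⟨k, hkz, hkN, hkx⟩ := zconj_low S i j b hbj
  have hkx' : k * xe e * k⁻¹ = w := hkx.trans hv
  -- the translated map on the centraliser of the pair
  have hhw : (h : G) * w = w * h := by
    have hwC : w ∈ centralizer ({z} : Set G) := by
      rw [← hv]; exact Tri.memH (iota_ce S _)
    have e1 := mem_centralizer_singleton_iff.1 hh
    rw [← hzz] at e1
    have e2 : φN ⟨z, hzN⟩ = φN g * φN ⟨w, hwN⟩ * (φN g)⁻¹ := by
      rw [← map_inv, ← map_mul, ← map_mul]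
      exact congrArg φN (Subtype.ext hgw.symm)
    rw [e2] at e1
    have e3 : φC h * φC ⟨w, hwC⟩ = φC ⟨w, hwC⟩ * φC h := by
      rw [hagree w hwC hwN]
      calc φC h * φN ⟨w, hwN⟩ = (φN g)⁻¹ * (φN g * φC h * (φN g)⁻¹ * (φN g * φN ⟨w, hwN⟩ * (φN g)⁻¹)) * φN g := by group
        _ = φN ⟨w, hwN⟩ * φC h := by rw [e1]; group
    rw [← map_mul, ← map_mul] at e3
    exact congrArg Subtype.val (hinj e3)
  have hm : (g : G) * h * (g : G)⁻¹ ∈ centralizer ({z} : Set G) := mem_centralizer_singleton_iff.2 (by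
    calc (g : G) * h * (g : G)⁻¹ * z = (g : G) * ((h : G) * w) * (g : G)⁻¹ := by rw [hw]; group
      _ = z * ((g : G) * h * (g : G)⁻¹) := by rw [hhw, hw]; group)
  refine ⟨hm, ?_⟩
  obtain ⟨g', hg'⟩ : ∃ g' : ↥(NA S), g' = g * ⟨k, hkN⟩ := ⟨_, rfl⟩
  have hg'c : (g' : G) = (g : G) * k := by rw [hg']; rfl
  have hg'x : (g' : G) * xe e * (g' : G)⁻¹ = z := by
    rw [hg'c]
    calc (g : G) * k * xe e * ((g : G) * k)⁻¹ = (g : G) * (k * xe e * k⁻¹) * (g : G)⁻¹ := by group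
      _ = z := by rw [hkx', hgw]
  let Y := centralizer ({z} : Set G) ⊓ centralizer ({xe e} : Set G)
  have hY : ∀ y : ↥Y, (g' : G) * y * (g' : G)⁻¹ ∈ centralizer ({z} : Set G) := fun y =>
    mem_centralizer_singleton_iff.2 (by
      calc (g' : G) * y * (g' : G)⁻¹ * z
          = (g' : G) * y * (g' : G)⁻¹ * ((g' : G) * xe e * (g' : G)⁻¹) := by rw [hg'x]
        _ = (g' : G) * ((y : G) * xe e) * (g' : G)⁻¹ := by group
        _ = (g' : G) * xe e * (g' : G)⁻¹ * ((g' : G) * y * (g' : G)⁻¹) := by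
          rw [mem_centralizer_singleton_iff.1 y.2.2]; group
        _ = z * ((g' : G) * y * (g' : G)⁻¹) := by rw [hg'x])
  let θ : ↥Y →* G' := MonoidHom.mk' (fun y => (φN g')⁻¹ * φC ⟨_, hY y⟩ * φN g') fun a b => by
    rw [show (⟨_, hY (a * b)⟩ : ↥(centralizer ({z} : Set G))) = ⟨_, hY a⟩ * ⟨_, hY b⟩ from
      Subtype.ext (show (g' : G) * ((a : G) * b) * (g' : G)⁻¹ =
        (g' : G) * a * (g' : G)⁻¹ * ((g' : G) * b * (g' : G)⁻¹) by group), map_mul]
    group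
  have key := twist_eq S φC hinj θ (fun y hy => by
    show (φN g')⁻¹ * φC ⟨_, hY y⟩ * φN g' = φC ⟨y, y.2.1⟩
    rw [hagree _ (hY y) (mul_mem (mul_mem g'.2 hy) (inv_mem g'.2)), hagree _ y.2.1 hy,
      show (⟨(g' : G) * y * (g' : G)⁻¹, _⟩ : ↥(NA S)) = g' * ⟨y, hy⟩ * g'⁻¹ from rfl, map_mul,
      map_mul, map_inv]
    group) (fun y => by
    rw [hrange, mem_centralizer_singleton_iff]
    show (φN g')⁻¹ * φC ⟨_, hY y⟩ * φN g' * z' = z' * ((φN g')⁻¹ * φC ⟨_, hY y⟩ * φN g')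
    have haC : (g' : G) * z * (g' : G)⁻¹ ∈ centralizer ({z} : Set G) := by
      have hkz' : k * z * k⁻¹ = z := mul_inv_eq_iff_eq_mul.2 (mem_centralizer_singleton_iff.1 hkz)
      rw [hg'c]
      rw [show (g : G) * k * z * ((g : G) * k)⁻¹ = (g : G) * (k * z * k⁻¹) * (g : G)⁻¹ by group, hkz']
      exact T.setup.pack.mem_centralizer_z hg
    have e1 : φC (⟨_, hY y⟩ * ⟨_, haC⟩) = φC (⟨_, haC⟩ * ⟨_, hY y⟩) := congrArg φC (Subtype.ext (by
      show (g' : G) * y * (g' : G)⁻¹ * ((g' : G) * z * (g' : G)⁻¹) =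
        (g' : G) * z * (g' : G)⁻¹ * ((g' : G) * y * (g' : G)⁻¹)
      calc _ = (g' : G) * ((y : G) * z) * (g' : G)⁻¹ := by group
        _ = _ := by rw [mem_centralizer_singleton_iff.1 y.2.1]; group))
    rw [map_mul, map_mul, hagree _ haC (mul_mem (mul_mem g'.2 hzN) (inv_mem g'.2)),
      show (⟨(g' : G) * z * (g' : G)⁻¹, _⟩ : ↥(NA S)) = g' * ⟨z, hzN⟩ * g'⁻¹ from rfl, map_mul,
      map_mul, map_inv, hzz] at e1
    calc (φN g')⁻¹ * φC ⟨_, hY y⟩ * φN g' * z'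
        = (φN g')⁻¹ * (φC ⟨_, hY y⟩ * (φN g' * z' * (φN g')⁻¹)) * φN g' := by group
      _ = _ := by rw [e1]; group) hodd
  have hkY : k⁻¹ * (h : G) * k ∈ Y := by
    refine ⟨(centralizer ({z} : Set G)).mul_mem ((centralizer ({z} : Set G)).mul_mem ((centralizer ({z} : Set G)).inv_mem hkz) h.2) hkz, mem_centralizer_singleton_iff.2 ?_⟩
    calc k⁻¹ * (h : G) * k * xe e = k⁻¹ * ((h : G) * w) * k := by rw [← hkx']; group
      _ = xe e * (k⁻¹ * (h : G) * k) := by rw [hhw, ← hkx']; group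
  have e1 : (φN g')⁻¹ * φC ⟨_, hY ⟨_, hkY⟩⟩ * φN g' = φC ⟨k⁻¹ * (h : G) * k, hkY.1⟩ := key ⟨_, hkY⟩
  rw [show (⟨_, hY ⟨_, hkY⟩⟩ : ↥(centralizer ({z} : Set G))) = ⟨_, hm⟩ from Subtype.ext (by
      show (g' : G) * (k⁻¹ * (h : G) * k) * (g' : G)⁻¹ = (g : G) * h * (g : G)⁻¹
      rw [hg'c]
      group),
    show (⟨k⁻¹ * (h : G) * k, hkY.1⟩ : ↥(centralizer ({z} : Set G))) = ⟨k, hkz⟩⁻¹ * h * ⟨k, hkz⟩
      from rfl, map_mul φC, map_mul φC, map_inv φC, hagree k hkz hkN,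
    show φN g' = φN g * φN ⟨k, hkN⟩ from hg' ▸ map_mul _ _ _] at e1
  calc φC ⟨_, hm⟩ = φN g * φN ⟨k, hkN⟩ * ((φN g * φN ⟨k, hkN⟩)⁻¹ * φC ⟨_, hm⟩ * (φN g * φN ⟨k, hkN⟩)) *
        (φN g * φN ⟨k, hkN⟩)⁻¹ := by group
    _ = _ := by rw [e1]; group

end CfsgLib.Recog.CoOneInv
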