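import Cfsg.Agent.Lib.Recog.CoOneInv.Assemble
import Cfsg.Agent.Lib.Recog.CoOneInv.CentIso
import Cfsg.Agent.Lib.Recog.CoOneInv.Counts
import Cfsg.Agent.Lib.Recog.CoOneInv.Defs
import Cfsg.Agent.Lib.Golay.StdCrossMax
import Cfsg.Agent.Lib.Golay.Co0Simple
import Cfsg.Agent.Lib.Recog.CoOneInv.Twist
import Cfsg.Agent.Lib.Recog.CoOneInv.LocalIso
import Cfsg.Agent.Lib.Recog.CoOneInv.QImage

/-!
The model: a group of Conway type contains a subgroup isomorphic to `Co1` over the centraliser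
of the involution.
-/

set_option autoImplicit false
set_option maxRecDepth 20000
set_option synthInstance.maxSize 2000

namespace CfsgLib.Recog.CoOneInv

open Subgroup Cfsg CfsgLib.Golay CfsgLib.Golay.E8Cent CfsgLib.PLocal.LargeExtra
open CfsgLib.Trans3.ExtraTwo CfsgLib.Trans3.ConwayM24 CfsgLib.ClassK.Conway

universe u

variable {G : Type u} [Group G] [Finite G] {z : G} {Q : Subgroup G} {e : ↥Q ≃* ES 4 (ff 4)} {ρ : G}

theorem neg_mem_N0 : negCo0 ∈ N0 := by rw [neg_eq]; exact mono_mem_N0 _ _ _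

theorem comap_N2 : N2.comap E8Cent.pr = N0 := by
  refine le_antisymm (fun x hx => ?_) (Subgroup.le_comap_map _ _)
  obtain ⟨y, hy, hyx⟩ := hx
  rcases pr_eq hyx with rfl | rfl
  · exact hy
  · exact mul_mem neg_mem_N0 hy

theorem sup_eq_top (hN2 : Nat.card ↥N2 = 2 ^ 11 * 244823040) (hC1 : Nat.card ↥C1 = 2 ^ 9 * 174182400) :
    C1 ⊔ N2 = ⊤ := by
  have hsur : Function.Surjective E8Cent.pr := QuotientGroup.mk'_surjective _
  have h := isCoatom_N0.2 ((C1 ⊔ N2).comap E8Cent.pr) (lt_of_le_not_ge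
    (comap_N2.symm.le.trans (Subgroup.comap_mono le_sup_right)) fun h => ?_)
  · rw [← Subgroup.map_comap_eq_self_of_surjective hsur (C1 ⊔ N2), h, Subgroup.map_top_of_surjective _ hsur]
  · have h1 : C1 ≤ N2 := le_sup_left.trans
      ((Subgroup.map_comap_eq_self_of_surjective hsur _).symm.le.trans (Subgroup.map_mono h))
    have h2 := Subgroup.card_dvd_of_le h1
    rw [hN2, hC1] at h2
    omega

/-- The simple connectedness of the amalgam of the two local subgroups of `Co1`. -/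
def CoverUnique : Prop :=
  ∀ {U : Type u} [Group U] (pi : U →* Spor.Co1) (C' N' : Subgroup U), C' ⊔ N' = ⊤ →
    Set.InjOn pi C' → Set.InjOn pi N' → C'.map pi = C1 → N'.map pi = N2 →
    C1 ⊓ N2 ≤ (C' ⊓ N').map pi →
    (∀ n ∈ N', pi n * z1 * (pi n)⁻¹ ∈ Qc.map C1.subtype →
      ∀ c ∈ C', pi n * pi c * (pi n)⁻¹ ∈ C1 → n * c * n⁻¹ ∈ C') →
    Function.Injective pi

/-- **The model.** -/
theorem hasModel_of_cover (hU : CoverUnique.{u}) (_hz : orderOf z = 2) (hpack : Pack Q z) (hQC : Q ≤ centralizer ({z} : Set G))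
    [(Q.subgroupOf (centralizer ({z} : Set G))).Normal] (hcard : Nat.card Q = 2 ^ 9)
    (hidx : (Q.subgroupOf (centralizer ({z} : Set G))).index = 174182400)
    (hfus : ∃ g, g * z * g⁻¹ ∈ Q ∧ g * z * g⁻¹ ≠ z) : HasModel G z := by
  classical
  obtain ⟨e0, S0⟩ := exists_setup hpack hQC hcard hidx hfus
  obtain ⟨ρ, T⟩ := S0.exists_tri
  obtain ⟨e, ⟨S⟩⟩ := exists_std T
  obtain ⟨φ, σ, hL⟩ := exists_localIso S
  let C := centralizer ({z} : Set G)
  let φN : ↥(NA S) →* Spor.Co1 := N2.subtype.comp φ.toMonoidHom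
  have hφN : Function.Injective φN := N2.subtype_injective.comp φ.injective
  have hzN : z ∈ NA S := by have := nm_mem_z S; rwa [iota_z] at this
  have hzC : z ∈ C := mem_centralizer_singleton_iff.2 rfl
  have hz1 : φN ⟨z, hzN⟩ = z1 := hL.z_map _ rfl
  have hcomm : ∀ n : ↥(NA S), (n : G) ∈ C ↔ φN n ∈ C1 := fun n => by
    rw [mem_centralizer_singleton_iff, mem_centralizer_singleton_iff, ← hz1, ← map_mul, ← map_mul,
      hφN.eq_iff, Subtype.ext_iff]
    rfl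
  -- the side of `Co1`
  have := Qc_normal
  let Q1 : Subgroup Spor.Co1 := Qc.map C1.subtype
  have hQC1 : Q1 ≤ C1 := Subgroup.map_subtype_le _
  have hsub : Q1.subgroupOf C1 = Qc := Subgroup.comap_map_eq_self_of_injective C1.subtype_injective _
  let eq : ↥Qc ≃* ↥Q1 := Qc.equivMapOfInjective _ C1.subtype_injective
  have hpack1 : Pack Q1 z1 := pack_of_fstar z1_order hQC1 (by rw [genFitting_C1])
    (CfsgLib.Trans3.LargeLinear.isExtraspecial_of_equiv eq (extraspecial_congr qEquiv K0_extraspecial))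
  have : (Q1.subgroupOf C1).Normal := by rw [hsub]; infer_instance
  have hcard1 : Nat.card Q1 = 2 ^ 9 := by
    rw [← Nat.card_congr eq.toEquiv, ← Nat.card_congr qEquiv.toEquiv, card_K0]
  have hidx1 : (Q1.subgroupOf C1).index = 174182400 := by
    rw [hsub, Subgroup.index_eq_card, Nat.card_congr quotEquiv.toEquiv,
      ← CfsgLib.ClassK.Conway.card_omega8plus, ← CfsgLib.Classical.qfPlus_coe]
  have hC1 : Nat.card ↥C1 = 2 ^ 9 * 174182400 := by
    rw [← Subgroup.card_mul_index (Q1.subgroupOf C1), hidx1,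
      Nat.card_congr (Subgroup.subgroupOfEquivOfLe hQC1).toEquiv, hcard1]
  -- the extraspecial groups
  let fQ : ↥Q →* ↥Q1 := (φN.comp (Subgroup.inclusion (Q_le_NA S))).codRestrict Q1
    fun x => (map_Q S hL _).1 x.2
  have hfQ : Function.Bijective fQ :=
    (Nat.bijective_iff_injective_and_card _).2 ⟨fun x y h => Subgroup.inclusion_injective (Q_le_NA S)
      (hφN (show φN (Subgroup.inclusion (Q_le_NA S) x) = φN (Subgroup.inclusion (Q_le_NA S) y) from congrArg (fun v : ↥Q1 => (v : Spor.Co1)) h)), hcard.trans hcard1.symm⟩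
  -- the common subgroup
  let H : Subgroup ↥C := (NA S).subgroupOf C
  let φH : ↥H →* ↥C1 := (φN.comp (MonoidHom.mk' (fun h : ↥H => (⟨_, h.2⟩ : ↥(NA S))) fun _ _ => rfl)).codRestrict C1
    fun h => (hcomm _).1 h.1.2
  have hperf : ∀ f : ↥H →* Multiplicative (ZMod 2), f = 1 := fun f => by
    let g : ↥(C1 ⊓ N2) →* ↥H := MonoidHom.mk'
      (fun x => ⟨⟨φ.symm ⟨x, x.2.2⟩, (hcomm _).2 (by
        show ((φ (φ.symm ⟨x, x.2.2⟩) : ↥N2) : Spor.Co1) ∈ C1
        rw [φ.apply_symm_apply]; exact x.2.1)⟩, (φ.symm ⟨x, x.2.2⟩).2⟩)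
      fun a b => Subtype.ext (Subtype.ext (congrArg (fun y : ↥(NA S) => (y : G)) (map_mul φ.symm ⟨a, a.2.2⟩ ⟨b, b.2.2⟩)))
    refine MonoidHom.ext fun h => ?_
    have hg : g ⟨φN ⟨_, h.2⟩, (hcomm _).1 h.1.2, (φ ⟨_, h.2⟩).2⟩ = h :=
      Subtype.ext (Subtype.ext (congrArg (fun y : ↥(NA S) => (y : G)) (φ.symm_apply_apply ⟨_, h.2⟩)))
    rw [← hg]
    exact DFunLike.congr_fun (hom_trivial (f.comp g)) _
  obtain ⟨φC0, hφC0, hag⟩ := exists_centIso hpack hQC hidx hpack1 hQC1 hidx1 e H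
    (odd_index_C S hidx hcard) hperf φH (MulEquiv.ofBijective fQ hfQ) (fun h x y hy => by
      show φN ⟨y, _⟩ = φN ⟨_, h.2⟩ * φN ⟨x, _⟩ * (φN ⟨_, h.2⟩)⁻¹
      rw [← map_inv, ← map_mul, ← map_mul]
      exact congrArg φN (Subtype.ext hy)) (show (⟨z, hzC⟩ : ↥C) ∈ H from hzN) hz1
  let φC : ↥C →* Spor.Co1 := C1.subtype.comp φC0
  have hφC : Function.Injective φC := C1.subtype_injective.comp hφC0.1
  have hrange : φC.range = C1 := by
    rw [MonoidHom.range_comp, MonoidHom.range_eq_top.2 hφC0.2, ← MonoidHom.range_eq_map, Subgroup.range_subtype]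
  have hagree : ∀ (g : G) (hc : g ∈ C) (hn : g ∈ NA S), φC ⟨g, hc⟩ = φN ⟨g, hn⟩ :=
    fun g hc hn => congrArg Subtype.val (hag (⟨⟨g, hc⟩, hn⟩ : ↥H))
  have hzφ : φC ⟨z, hzC⟩ = z1 := (hagree z hzC hzN).trans hz1
  -- the amalgam
  let A : Subgroup (G × Spor.Co1) := (C.subtype.prod φC).range
  let B : Subgroup (G × Spor.Co1) := ((NA S).subtype.prod φN).range
  let U := A ⊔ B
  let pi : ↥U →* Spor.Co1 := (MonoidHom.snd _ _).comp U.subtype
  let C' := A.subgroupOf U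
  let N' := B.subgroupOf U
  have hCN : C' ⊔ N' = ⊤ := by
    rw [← Subgroup.subgroupOf_sup le_sup_left le_sup_right, Subgroup.subgroupOf_self]
  have hCm : C'.map pi = C1 := by
    refine le_antisymm ?_ fun x hx => ?_
    · rintro _ ⟨u, ⟨c, hc⟩, rfl⟩
      exact Set.mem_of_eq_of_mem (congrArg Prod.snd hc).symm (φC0 c).2
    · obtain ⟨c, rfl⟩ := hrange.symm ▸ hx
      exact ⟨⟨_, Subgroup.mem_sup_left ⟨c, rfl⟩⟩, ⟨c, rfl⟩, rfl⟩
  have hNm : N'.map pi = N2 := by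
    refine le_antisymm ?_ fun x hx => ?_
    · rintro _ ⟨u, ⟨n, hn⟩, rfl⟩
      exact Set.mem_of_eq_of_mem (congrArg Prod.snd hn).symm (φ n).2
    · exact ⟨⟨_, Subgroup.mem_sup_right ⟨φ.symm ⟨x, hx⟩, rfl⟩⟩, ⟨_, rfl⟩,
        congrArg Subtype.val (φ.apply_symm_apply ⟨x, hx⟩)⟩
  have hinj : Function.Injective pi := by
    refine hU pi C' N' hCN ?_ ?_ hCm hNm ?_ ?_
    · rintro u ⟨c, hc⟩ v ⟨d, hd⟩ h
      have h' : φC c = φC d := (congrArg Prod.snd hc).trans (h.trans (congrArg Prod.snd hd).symm)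
      exact Subtype.ext (hc.symm.trans ((congrArg _ (hφC h')).trans hd))
    · rintro u ⟨c, hc⟩ v ⟨d, hd⟩ h
      have h' : φN c = φN d := (congrArg Prod.snd hc).trans (h.trans (congrArg Prod.snd hd).symm)
      exact Subtype.ext (hc.symm.trans ((congrArg _ (hφN h')).trans hd))
    · rintro x ⟨hx1, hx2⟩
      obtain ⟨n, rfl⟩ : ∃ n, φN n = x := ⟨φ.symm ⟨x, hx2⟩, congrArg Subtype.val (φ.apply_symm_apply ⟨x, hx2⟩)⟩
      refine ⟨⟨_, Subgroup.mem_sup_right ⟨n, rfl⟩⟩, ⟨⟨⟨n, (hcomm n).2 hx1⟩, ?_⟩, ⟨n, rfl⟩⟩, rfl⟩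
      exact Prod.ext rfl (hagree _ _ n.2)
    · rintro u ⟨n, hn⟩ hQ v ⟨c, hc⟩ hC'
      have hu : pi u = φN n := (congrArg Prod.snd hn).symm
      have hv : pi v = φC c := (congrArg Prod.snd hc).symm
      rw [hu, hv] at hC'
      rw [hu, ← hz1, ← map_inv, ← map_mul, ← map_mul] at hQ
      obtain ⟨hm, he⟩ := conj_compat S φC φN hφC hrange hagree hzφ (odd_index_CE S hidx hcard) n
        ((map_Q S hL _).2 hQ) c hC'
      refine ⟨⟨_, hm⟩, ?_⟩
      show ((n : G) * c * (n : G)⁻¹, φC ⟨_, hm⟩) =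
        U.subtype u * U.subtype v * (U.subtype u)⁻¹
      rw [← hn, ← hc, he]
      rfl
  have hsur : Function.Surjective pi := by
    rw [← MonoidHom.range_eq_top, eq_top_iff, ← sup_eq_top (by rw [← Nat.card_congr φ.toEquiv, card_NA S]) hC1,
      ← hCm, ← hNm]
    exact sup_le (Subgroup.map_le_range _ _) (Subgroup.map_le_range _ _)
  let eU : ↥U ≃* Spor.Co1 := MulEquiv.ofBijective pi ⟨hinj, hsur⟩
  let F : Spor.Co1 →* G := ((MonoidHom.fst _ _).comp U.subtype).comp eU.symm.toMonoidHom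
  have hF : ∀ u : ↥U, F (pi u) = (u : G × Spor.Co1).1 := fun u =>
    congrArg (fun v : ↥U => (v : G × Spor.Co1).1) (eU.symm_apply_apply u)
  have hFC : ∀ c : ↥C, F (φC c) = c := fun c => hF ⟨_, Subgroup.mem_sup_left ⟨c, rfl⟩⟩
  have hFz : F z1 = z := hzφ ▸ hFC ⟨z, hzC⟩
  have hFinj : Function.Injective F := by
    have : IsSimpleGroup Spor.Co1 := isSimple_Co1
    refine (MonoidHom.ker_eq_bot_iff F).1 ((Subgroup.Normal.eq_bot_or_eq_top F.normal_ker).resolve_right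
      fun h => ?_)
    have h1 : z1 ∈ F.ker := h ▸ Subgroup.mem_top z1
    rw [MonoidHom.mem_ker, hFz] at h1
    exact hpack.z_ne h1
  refine ⟨F.range, fun c hc => ⟨φC ⟨c, hc⟩, hFC ⟨c, hc⟩⟩, (MonoidHom.ofInjective hFinj).symm, ?_⟩
  have : (MonoidHom.ofInjective hFinj).symm ⟨z, ⟨z1, hFz⟩⟩ = z1 :=
    (MulEquiv.symm_apply_eq _).2 (Subtype.ext hFz.symm)
  rw [this]

end CfsgLib.Recog.CoOneInv
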