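import Cfsg.Agent.Lib.Recog.CoOneInv.Defs
import Cfsg.Agent.Lib.Golay.OctadAction

/-!
The meet of the centraliser of the octad involution and the monomial group has no character of
order two.
-/

set_option autoImplicit false
set_option maxRecDepth 100000

namespace CfsgLib.Recog.CoOneInv

open Cfsg CfsgLib.Golay CfsgLib.Golay.E8Cent
open scoped Pointwise

attribute [local irreducible] permOf mset monoCo0

theorem octStab_octC {σ : Equiv.Perm GolayPt} (hσ : σ ∈ octStab (mset octB)) :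
    σ • mset octC = mset octC := by
  rw [octC_compl]
  ext p
  rw [Finset.mem_smul_finset]
  constructor
  · rintro ⟨q, hq, rfl⟩
    rw [Finset.mem_compl] at hq ⊢
    rwa [Equiv.Perm.smul_def, octStab_mem_iff hσ]
  · intro hp
    refine ⟨σ.symm p, ?_, Equiv.apply_symm_apply _ p⟩
    rw [Finset.mem_compl] at hp ⊢
    rwa [← octStab_mem_iff hσ, Equiv.apply_symm_apply]

theorem octStab_of_octC {σ : Equiv.Perm GolayPt} (hM : σ ∈ M24)
    (hσ : σ • mset octC = mset octC) : σ ∈ octStab (mset octB) := by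
  refine ⟨hM, MulAction.mem_stabilizer_iff.2 ?_⟩
  have h : mset octB = (mset octC)ᶜ := by rw [octC_compl, compl_compl]
  rw [h]
  ext p
  rw [Finset.mem_smul_finset, Finset.mem_compl]
  constructor
  · rintro ⟨q, hq, rfl⟩ hp
    rw [Finset.mem_compl] at hq
    rw [← hσ] at hp
    exact hq (Finset.smul_mem_smul_finset_iff σ |>.1 hp)
  · intro hp
    refine ⟨σ.symm p, ?_, Equiv.apply_symm_apply _ p⟩
    rw [Finset.mem_compl]
    intro hq
    refine hp ?_
    have h2 := Finset.smul_mem_smul_finset (a := σ) hq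
    rw [hσ, Equiv.Perm.smul_def, Equiv.apply_symm_apply] at h2
    exact h2

theorem octB_not_one : pt 1 ∉ mset octB := by decide +kernel

/-- The sign changes in the meet. -/
noncomputable def sEl (c : Finset GolayPt)
    (hc : c ∈ supports (golayCode : Set (GolayPt → ZMod 2))) :
    ↥(C1 ⊓ N2 : Subgroup Spor.Co1) :=
  ⟨pr (sign0 c hc), pr_mem ⟨_, sign_mem hc⟩, Subgroup.mem_map_of_mem pr (mono_mem_N0 1 c hc)⟩

theorem perm_Cm {σ : M24} (hσ : (σ : Equiv.Perm GolayPt) ∈ octStab (mset octB)) :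
    monoCo0 σ σ.2 ∅ empty_code ∈ Cm := by
  refine mem_Cm.2 ?_
  unfold epsC
  refine (mono_mul_sign0 σ empty_code octC_mem).trans
    (Eq.trans ?_ (sign0_mul_mono σ empty_code octC_mem).symm)
  refine monoCo0_congr rfl ?_
  rw [octStab_octC hσ, symmDiff_comm]

/-- The permutations in the meet. -/
noncomputable def pEl (σ : ↥(octStab (mset octB))) : ↥(C1 ⊓ N2 : Subgroup Spor.Co1) :=
  ⟨pr (monoCo0 (⟨σ.1, σ.2.1⟩ : M24) σ.2.1 ∅ empty_code),
    pr_mem ⟨_, perm_Cm (σ := ⟨σ.1, σ.2.1⟩) σ.2⟩,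
    Subgroup.mem_map_of_mem pr (mono_mem_N0 (⟨σ.1, σ.2.1⟩ : M24) ∅ empty_code)⟩

theorem pEl_mul (σ τ : ↥(octStab (mset octB))) : pEl (σ * τ) = pEl σ * pEl τ := by
  refine Subtype.ext ?_
  rw [Subgroup.coe_mul]
  show pr _ = pr _ * pr _
  rw [← map_mul]
  refine congrArg pr (Eq.trans ?_ (monoCo0_mul (⟨σ.1, σ.2.1⟩ : M24) (⟨τ.1, τ.2.1⟩ : M24)
    empty_code empty_code).symm)
  refine monoCo0_congr (σ := ⟨(σ * τ).1, (σ * τ).2.1⟩)
    (τ := (⟨σ.1, σ.2.1⟩ : M24) * ⟨τ.1, τ.2.1⟩) rfl ?_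
  rw [Finset.smul_finset_empty, symmDiff_self, Finset.bot_eq_empty]

theorem pEl_sEl (σ : ↥(octStab (mset octB))) (c : Finset GolayPt)
    (hc : c ∈ supports (golayCode : Set (GolayPt → ZMod 2))) :
    pEl σ * sEl c hc = sEl ((σ : Equiv.Perm GolayPt) • c) (smul_code ⟨σ.1, σ.2.1⟩ hc) * pEl σ := by
  refine Subtype.ext ?_
  rw [Subgroup.coe_mul, Subgroup.coe_mul]
  show pr _ * pr _ = pr _ * pr _
  rw [← map_mul, ← map_mul]
  refine congrArg pr ((mono_mul_sign0 (⟨σ.1, σ.2.1⟩ : M24) empty_code hc).trans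
    (Eq.trans ?_ (sign0_mul_mono (⟨σ.1, σ.2.1⟩ : M24) empty_code _).symm))
  exact monoCo0_congr rfl (symmDiff_comm _ _)

theorem meet_form {n : Spor.Co1} (h1 : n ∈ C1) (h2 : n ∈ N2) :
    ∃ (σ : ↥(octStab (mset octB))) (c : Finset GolayPt)
      (hc : c ∈ supports (golayCode : Set (GolayPt → ZMod 2))),
      n = ((sEl c hc * pEl σ : ↥(C1 ⊓ N2 : Subgroup Spor.Co1)) : Spor.Co1) := by
  obtain ⟨g, hg, rfl⟩ := Subgroup.mem_map.1 h2
  obtain ⟨σ, c, hc, rfl⟩ := N0_rep hg
  have h : pr (monoCo0 σ σ.2 c hc * epsC) = pr (epsC * monoCo0 σ σ.2 c hc) := by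
    rw [map_mul, map_mul]
    exact Subgroup.mem_centralizer_singleton_iff.1 h1
  rcases pr_eq h.symm with e | e
  · have e2 := (monoCo0_inj ((mono_mul_sign0 σ hc octC_mem).symm.trans
      (e.trans (sign0_mul_mono σ hc octC_mem)))).2
    have hσ : (σ : Equiv.Perm GolayPt) • mset octC = mset octC := by
      rw [symmDiff_comm (mset octC)] at e2
      exact symmDiff_right_inj.1 e2
    refine ⟨⟨σ.1, octStab_of_octC σ.2 hσ⟩, c, hc, ?_⟩
    rw [Subgroup.coe_mul]
    show _ = pr _ * pr _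
    rw [← map_mul]
    refine congrArg pr ((Eq.trans ?_ (sign0_mul_mono σ empty_code hc).symm))
    refine monoCo0_congr rfl ?_
    rw [← Finset.bot_eq_empty, symmDiff_bot]
  · exact absurd e no_anti

section Hom

variable (f : ↥(C1 ⊓ N2 : Subgroup Spor.Co1) →* Multiplicative (ZMod 2))

theorem f_conj (a b c : ↥(C1 ⊓ N2 : Subgroup Spor.Co1)) (h : a * b = c * a) : f c = f b := by
  have := congrArg f h
  rw [map_mul, map_mul, mul_comm (f a)] at this
  exact mul_right_cancel this.symm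

/-- A mask carries the trivial value. -/
def ZM (m : ℕ) : Prop :=
  isCode m = true ∧ ∀ h : mset m ∈ supports (golayCode : Set (GolayPt → ZMod 2)),
    f (sEl (mset m) h) = 1

theorem oct_code {m : ℕ} (h : isCode m = true) :
    mset m ∈ supports (golayCode : Set (GolayPt → ZMod 2)) :=
  mem_supports_iff.2 ⟨m, h, rfl⟩

theorem sEl_congr {c d : Finset GolayPt} (hc : c ∈ supports (golayCode : Set (GolayPt → ZMod 2)))
    (hd : d ∈ supports (golayCode : Set (GolayPt → ZMod 2))) (h : c = d) :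
    sEl c hc = sEl d hd := by subst h; rfl

theorem sEl_xor {a b : ℕ} (ha : isCode a = true) (hb : isCode b = true)
    (h : mset (a ^^^ b) ∈ supports (golayCode : Set (GolayPt → ZMod 2))) :
    f (sEl (mset (a ^^^ b)) h) = f (sEl (mset a) (oct_code ha)) * f (sEl (mset b) (oct_code hb)) := by
  rw [← map_mul]
  refine congrArg f (Subtype.ext ?_)
  rw [Subgroup.coe_mul]
  show pr _ = pr _ * pr _
  rw [← map_mul, sign0_mul]
  exact congrArg pr (monoCo0_congr rfl (mset_xor a b))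

theorem ZM_xor {a b : ℕ} (ha : ZM f a) (hb : ZM f b) : ZM f (a ^^^ b) :=
  ⟨isCode_xor ha.1 hb.1, fun h => by rw [sEl_xor f ha.1 hb.1 h, ha.2, hb.2, mul_one]⟩

theorem ZM_zero : ZM f 0 :=
  ⟨isCode_zero, fun h => by
    have h0 := sEl_xor f isCode_zero isCode_zero (a := 0) (b := 0) (by simpa using h)
    simp only [Nat.xor_self] at h0
    exact left_eq_mul.1 h0⟩

theorem ZM_move {g x : ℕ} (hg : inM24 g = true) (hB : mimg g octB = octB) (hx : isCode x = true) :
    ZM f (mimg g x ^^^ x) := by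
  have hv := inM24_valid hg
  have hi : isCode (mimg g x) = true := by
    obtain ⟨m, hm, e⟩ := mem_supports_iff.1 (smul_code ⟨_, inM24_mem hg⟩ (oct_code hx))
    have e' : permOf g • mset x = mset m := e.symm
    rw [smul_mset hv] at e'
    rwa [mset_inj (mimg_lt hv x) (isCode_lt hm) e']
  refine ⟨isCode_xor hi hx, fun h => ?_⟩
  have hst : permOf g ∈ octStab (mset octB) :=
    ⟨inM24_mem hg, MulAction.mem_stabilizer_iff.2 (by rw [smul_mset hv, hB])⟩
  have hc := f_conj f _ _ _ (pEl_sEl ⟨permOf g, hst⟩ (mset x) (oct_code hx))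
  rw [sEl_xor f hi hx h, sEl_congr (oct_code hi) (smul_code ⟨_, inM24_mem hg⟩ (oct_code hx))
    (smul_mset hv x).symm, hc]
  have key : ∀ u : Multiplicative (ZMod 2), u * u = 1 := by decide
  exact key _

/-- Two permutations preserving the octad. -/
def hCodes : List ℕ :=
  [472885069503682074329244441242147269, 4190353391587751087457250786842059]

theorem hCodes_facts : ∀ g ∈ hCodes, inM24 g = true ∧ mimg g octB = octB := by decide +kernel

/-- Expressions of the generators of the code by displacements. -/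
def spanCert : List (List (ℕ × ℕ)) :=
  [[(0, 0), (0, 2), (0, 5), (0, 6)], [(0, 7)], [(0, 1), (0, 2), (0, 4), (0, 6), (0, 10)],
    [(0, 1), (0, 3), (0, 4), (0, 7), (0, 10)],
    [(0, 0), (0, 2), (0, 3), (0, 4), (0, 5), (0, 10), (1, 0), (1, 4)],
    [(0, 1), (0, 2), (0, 3), (0, 4), (0, 5), (0, 6), (0, 7), (0, 10), (1, 0)],
    [(0, 1), (0, 3), (0, 6), (0, 7), (1, 0)], [(0, 1), (0, 7)], [(0, 1), (0, 3), (0, 8)],
    [(0, 1), (0, 4), (0, 10)], [(0, 0), (0, 1), (0, 2), (0, 4), (0, 5), (0, 7), (1, 4)],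
    [(0, 1), (0, 3), (0, 4), (0, 10), (1, 0)]]

/-- The sum of the listed displacements. -/
def dsum : List (ℕ × ℕ) → ℕ
  | [] => 0
  | p :: l => (mimg (hCodes.getD p.1 0) (gens.getD p.2 0) ^^^ gens.getD p.2 0) ^^^ dsum l

theorem span_facts : spanCert.map dsum = gens ∧
    (∀ l ∈ spanCert, ∀ p ∈ l, hCodes.getD p.1 0 ∈ hCodes ∧ gens.getD p.2 0 ∈ gens) ∧
    ∀ x ∈ gens, isCode x = true := by decide +kernel

theorem ZM_dsum : ∀ l : List (ℕ × ℕ),
    (∀ p ∈ l, hCodes.getD p.1 0 ∈ hCodes ∧ gens.getD p.2 0 ∈ gens) → ZM f (dsum l)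
  | [], _ => ZM_zero f
  | p :: l, h => by
    obtain ⟨h1, h2⟩ := h p (List.mem_cons_self ..)
    obtain ⟨hg, hB⟩ := hCodes_facts _ h1
    exact ZM_xor f (ZM_move f hg hB (span_facts.2.2 _ h2))
      (ZM_dsum l fun q hq => h q (List.mem_cons_of_mem _ hq))

theorem ZM_gens {x : ℕ} (hx : x ∈ gens) : ZM f x := by
  rw [← span_facts.1, List.mem_map] at hx
  obtain ⟨l, hl, rfl⟩ := hx
  exact ZM_dsum f l (span_facts.2.1 l hl)

theorem ZM_sel {x : ℕ} (hx : x ∈ gens) (i k : ℕ) : ZM f (sel x i k) := by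
  rw [sel_eq]
  split_ifs
  · exact ZM_gens f hx
  · exact ZM_zero f

theorem ZM_enc (k : ℕ) : ZM f (enc k) := by
  have h : ∀ x i, x ∈ gens → ZM f (sel x i k) := fun x i hx => ZM_sel f hx i k
  exact (ZM_xor f (ZM_xor f (ZM_xor f (ZM_xor f (ZM_xor f (ZM_xor f (ZM_xor f (ZM_xor f (ZM_xor f (ZM_xor f (ZM_xor f (h 13062145 0 (by decide +kernel))
      (h 4845570 1 (by decide +kernel)))
      (h 13938692 2 (by decide +kernel)))
      (h 7221256 3 (by decide +kernel)))
      (h 10170384 4 (by decide +kernel)))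
      (h 11952160 5 (by decide +kernel)))
      (h 15515712 6 (by decide +kernel)))
      (h 2019456 7 (by decide +kernel)))
      (h 4038912 8 (by decide +kernel)))
      (h 8077824 9 (by decide +kernel)))
      (h 11654144 10 (by decide +kernel)))
      (h 14919680 11 (by decide +kernel)))

theorem f_sEl (c : Finset GolayPt) (hc : c ∈ supports (golayCode : Set (GolayPt → ZMod 2))) :
    f (sEl c hc) = 1 := by
  obtain ⟨m, hm, rfl⟩ := mem_supports_iff.1 hc
  have h := ZM_enc f (m % 4096)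
  rw [isCode_iff.1 hm] at h
  exact h.2 hc

/-- The value on a permutation. -/
noncomputable def fP : ↥(octStab (mset octB)) →* Multiplicative (ZMod 2) :=
  f.comp (MonoidHom.mk' pEl pEl_mul)

/-- Two permutations fixing a point outside the octad. -/
def tCodes : List ℕ :=
  [236868701664391467620183885517295658, 472852191349498523980569910485424165]

theorem tCodes_facts : ∀ g ∈ tCodes, inM24 g = true ∧ mimg g octB = octB ∧ img g 1 = 1 := by
  decide +kernel

/-- Steps covering the other outside points. -/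
def tSteps : List (ℕ × ℕ × ℕ) :=
  [(0, 3, 20), (1, 3, 15), (0, 20, 8), (1, 20, 22), (0, 15, 12), (1, 15, 16), (0, 8, 19),
    (1, 8, 18), (0, 12, 7), (1, 12, 21), (0, 16, 9), (0, 19, 14), (1, 7, 17), (1, 9, 13)]

theorem tSteps_facts : (∀ p ∈ tSteps, tCodes.getD p.1 0 ∈ tCodes ∧
      img (tCodes.getD p.1 0) p.2.1 = p.2.2 ∧ p.2.1 < 24) ∧
    ∀ q : GolayPt, q ∉ mset octB → q ≠ pt 1 →
      q ∈ ([3, 20, 15, 8, 22, 12, 16, 19, 18, 7, 21, 9, 14, 17, 13] : List ℕ).map pt := by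
  decide +kernel

theorem fP_octPtw {π : ↥(octStab (mset octB))}
    (hπ : (π : Equiv.Perm GolayPt) ∈ octPtw (mset octB)) : fP f π = 1 := by
  obtain ⟨hsurj, hfree⟩ := octPtw_point octB_mem octB_not_one
  let el : {σ : Equiv.Perm GolayPt // σ ∈ octPtw (mset octB)} → ↥(octStab (mset octB)) :=
    fun σ => ⟨σ.1, octPtw_le σ.2⟩
  have huniq : ∀ σ τ : {σ : Equiv.Perm GolayPt // σ ∈ octPtw (mset octB)},
      σ.1 (pt 1) = τ.1 (pt 1) → σ = τ := fun σ τ h => by
    refine Subtype.ext (inv_mul_eq_one.1 (hfree _ (mul_mem (inv_mem σ.2) τ.2) ?_))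
    rw [Equiv.Perm.mul_apply, ← h, ← Equiv.Perm.mul_apply, inv_mul_cancel, Equiv.Perm.one_apply]
  let c₀ : Multiplicative (ZMod 2) → GolayPt → Prop := fun u q =>
    ∀ σ : {σ : Equiv.Perm GolayPt // σ ∈ octPtw (mset octB)}, σ.1 (pt 1) = q → fP f (el σ) = u
  obtain ⟨σ0, hσ0, h0⟩ := hsurj (pt 3) (by decide +kernel)
  set u := fP f (el ⟨σ0, hσ0⟩) with hu
  have base : c₀ u (pt 3) := fun σ hσ => by rw [huniq σ ⟨σ0, hσ0⟩ (hσ.trans h0.symm)]
  have step : ∀ p ∈ tSteps, c₀ u (pt p.2.1) → c₀ u (pt p.2.2) := by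
    intro p hp hc σ hσ
    obtain ⟨hmem, himg, hlt⟩ := tSteps_facts.1 p hp
    obtain ⟨hg, hB, h1⟩ := tCodes_facts _ hmem
    set g := tCodes.getD p.1 0
    have hv := inM24_valid hg
    let h : ↥(octStab (mset octB)) :=
      ⟨permOf g, inM24_mem hg, MulAction.mem_stabilizer_iff.2 (by rw [smul_mset hv, hB])⟩
    have hfix : permOf g (pt 1) = pt 1 := by rw [permOf_pt hv (by decide), h1]
    have hmap : permOf g (pt p.2.1) = pt p.2.2 := by rw [permOf_pt hv hlt, himg]
    have hk : (permOf g)⁻¹ * σ.1 * permOf g ∈ octPtw (mset octB) := by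
      refine octPtw_fix.2 ⟨mul_mem (mul_mem (inv_mem (inM24_mem hg)) σ.2.1) (inM24_mem hg),
        fun q hq => ?_⟩
      rw [Equiv.Perm.mul_apply, Equiv.Perm.mul_apply,
        (octPtw_fix.1 σ.2).2 _ ((octStab_mem_iff h.2 q).2 hq), ← Equiv.Perm.mul_apply,
        inv_mul_cancel, Equiv.Perm.one_apply]
    have hval := hc ⟨_, hk⟩ (by
      rw [Equiv.Perm.mul_apply, Equiv.Perm.mul_apply, hfix, hσ, ← hmap, ← Equiv.Perm.mul_apply,
        inv_mul_cancel, Equiv.Perm.one_apply])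
    rw [← hval]
    have e : el ⟨_, hk⟩ = h⁻¹ * el σ * h := Subtype.ext rfl
    rw [e, map_mul, map_mul, map_inv, mul_comm ((fP f) h)⁻¹, inv_mul_cancel_right]
  have hall : ∀ q : GolayPt, q ∉ mset octB → q ≠ pt 1 → c₀ u q := by
    intro q hq hne
    have hm := tSteps_facts.2 q hq hne
    have s : ∀ (j a b : ℕ), (j, a, b) ∈ tSteps → c₀ u (pt a) → c₀ u (pt b) :=
      fun j a b h => step (j, a, b) h
    have h20 := s 0 3 20 (by decide) base
    have h15 := s 1 3 15 (by decide) base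
    have h8 := s 0 20 8 (by decide) h20
    have h22 := s 1 20 22 (by decide) h20
    have h12 := s 0 15 12 (by decide) h15
    have h16 := s 1 15 16 (by decide) h15
    have h19 := s 0 8 19 (by decide) h8
    have h18 := s 1 8 18 (by decide) h8
    have h7 := s 0 12 7 (by decide) h12
    have h21 := s 1 12 21 (by decide) h12
    have h9 := s 0 16 9 (by decide) h16
    have h14 := s 0 19 14 (by decide) h19
    have h17 := s 1 7 17 (by decide) h7
    have h13 := s 1 9 13 (by decide) h9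
    simp only [List.map_cons, List.map_nil, List.mem_cons, List.not_mem_nil, or_false] at hm
    rcases hm with rfl | rfl | rfl | rfl | rfl | rfl | rfl | rfl | rfl | rfl | rfl | rfl | rfl |
      rfl | rfl <;> assumption
  have hout : ∀ σ : {σ : Equiv.Perm GolayPt // σ ∈ octPtw (mset octB)},
      σ.1 (pt 1) ∉ mset octB := fun σ h =>
    octB_not_one ((octStab_mem_iff (octPtw_le σ.2) _).1 h)
  have hval : ∀ σ : {σ : Equiv.Perm GolayPt // σ ∈ octPtw (mset octB)}, σ.1 ≠ 1 →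
      fP f (el σ) = u := fun σ hσ =>
    hall _ (hout σ) (fun e => hσ (hfree _ σ.2 e)) σ rfl
  have hu1 : u = 1 := by
    obtain ⟨τ, hτ, h20⟩ := hsurj (pt 20) (by decide +kernel)
    have n0 : σ0 ≠ 1 := fun e => absurd (show pt 3 = pt 1 by rw [← h0, e]; rfl) (by decide +kernel)
    have n1 : τ ≠ 1 := fun e => absurd (show pt 20 = pt 1 by rw [← h20, e]; rfl) (by decide +kernel)
    have n2 : σ0⁻¹ * τ ≠ 1 := fun e => absurd
      (show pt 3 = pt 20 by rw [← h0, ← h20, inv_mul_eq_one.1 e]) (by decide +kernel)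
    have e2 := hval ⟨_, mul_mem (inv_mem hσ0) hτ⟩ n2
    have e : el ⟨_, mul_mem (inv_mem hσ0) hτ⟩ = (el ⟨σ0, hσ0⟩)⁻¹ * el ⟨τ, hτ⟩ := Subtype.ext rfl
    rw [e, map_mul, map_inv, hval ⟨σ0, hσ0⟩ n0, hval ⟨τ, hτ⟩ n1, inv_mul_cancel] at e2
    exact e2.symm
  by_cases h : (π : Equiv.Perm GolayPt) = 1
  · rw [show π = 1 from Subtype.ext h, map_one]
  · have := hval ⟨π.1, hπ⟩ h
    rwa [hu1] at this

theorem fP_trivial (σ : ↥(octStab (mset octB))) : fP f σ = 1 := by
  obtain ⟨-, hsup, ⟨iso⟩⟩ := octad_split octB_mem octB_not_one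
  have : IsSimpleGroup (alternatingGroup (Fin 8)) :=
    alternatingGroup.isSimpleGroup (by simp)
  set T := octStab (mset octB) ⊓ MulAction.stabilizer (Equiv.Perm GolayPt) (pt 1)
  let φ : alternatingGroup (Fin 8) →* Multiplicative (ZMod 2) :=
    ((fP f).comp (Subgroup.inclusion (show T ≤ octStab (mset octB) from inf_le_left))).comp
      iso.symm.toMonoidHom
  have hφ : ∀ a, φ a = 1 := by
    rcases (MonoidHom.normal_ker φ).eq_bot_or_eq_top with h | h
    · exfalso
      have hc := Nat.card_le_card_of_injective φ ((MonoidHom.ker_eq_bot_iff φ).1 h)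
      rw [nat_card_alternatingGroup, Nat.card_eq_fintype_card, Nat.card_eq_fintype_card,
        Fintype.card_multiplicative, ZMod.card, Fintype.card_fin] at hc
      exact absurd hc (by decide)
    · intro a
      exact MonoidHom.mem_ker.1 (h ▸ Subgroup.mem_top a)
  have hT : ∀ τ : ↥(octStab (mset octB)), (τ : Equiv.Perm GolayPt) ∈ T → fP f τ = 1 := by
    intro τ hτ
    have := hφ (iso ⟨τ.1, hτ⟩)
    simpa [φ, Subgroup.inclusion] using this
  have key : ∀ x ∈ octPtw (mset octB) ⊔ T,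
      ∃ hx : x ∈ octStab (mset octB), fP f ⟨x, hx⟩ = 1 := by
    intro x hx
    rw [Subgroup.sup_eq_closure] at hx
    induction hx using Subgroup.closure_induction with
    | mem y hy =>
      rcases hy with hy | hy
      · exact ⟨octPtw_le hy, fP_octPtw f hy⟩
      · exact ⟨hy.1, hT ⟨y, hy.1⟩ hy⟩
    | one => exact ⟨one_mem _, map_one (fP f)⟩
    | mul a b _ _ ha hb =>
      obtain ⟨ha, ha'⟩ := ha; obtain ⟨hb, hb'⟩ := hb
      exact ⟨mul_mem ha hb, by
        rw [show (⟨a * b, mul_mem ha hb⟩ : ↥(octStab (mset octB))) = ⟨a, ha⟩ * ⟨b, hb⟩ from rfl,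
          map_mul, ha', hb', mul_one]⟩
    | inv a _ ha =>
      obtain ⟨ha, ha'⟩ := ha
      exact ⟨inv_mem ha, by
        rw [show (⟨a⁻¹, inv_mem ha⟩ : ↥(octStab (mset octB))) = (⟨a, ha⟩ : ↥(octStab (mset octB)))⁻¹
          from rfl, map_inv, ha', inv_one]⟩
  exact (key σ.1 (hsup.symm ▸ σ.2)).2

end Hom

/-- The meet has no character of order two. -/
theorem hom_trivial (f : ↥(C1 ⊓ N2 : Subgroup Spor.Co1) →* Multiplicative (ZMod 2)) : f = 1 := by
  refine MonoidHom.ext fun n => ?_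
  obtain ⟨σ, c, hc, e⟩ := meet_form n.2.1 n.2.2
  rw [show n = sEl c hc * pEl σ from Subtype.ext e, map_mul, f_sEl, one_mul]
  exact fP_trivial f σ

end CfsgLib.Recog.CoOneInv
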