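import Cfsg.Agent.Lib.Golay.E8Co1

/-!
The absolute trace as a class function on the first Conway group, its value on monomial elements,
and the sign changes of weight eight or sixteen.
-/

set_option autoImplicit false
set_option maxRecDepth 100000

namespace CfsgLib.Recog.CoOneInv

open Cfsg CfsgLib.Golay CfsgLib.Golay.E8Cent
open scoped Pointwise

local notation "Code" => supports (golayCode : Set (GolayPt → ZMod 2))

/-- Eight times the trace. -/
def tr (g : Co0) : ℤ := ∑ p, ((g • vec8 p : leechLattice) : GolayPt → ℤ) p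

theorem eight_smul (g : Co0) (w : leechLattice) (q : GolayPt) :
    8 * ((g • w : leechLattice) : GolayPt → ℤ) q =
      ∑ r, (w : GolayPt → ℤ) r * ((g • vec8 r : leechLattice) : GolayPt → ℤ) q := by
  classical
  have e : (8 : ℤ) • w = ∑ r, (w : GolayPt → ℤ) r • vec8 r := by
    refine Subtype.ext (funext fun i => ?_)
    simp [vec8, Finset.sum_apply, Pi.single_apply, mul_comm, -Fintype.sum_option]
  have h := congrArg (co0Hom g) e
  rw [map_sum, map_zsmul] at h
  simp only [map_zsmul] at h
  have h2 := congrArg (fun v : leechLattice => (v : GolayPt → ℤ) q) h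
  simpa [co0Hom, AddSubgroup.val_finsetSum, Finset.sum_apply] using h2

theorem tr_mul_comm (g h : Co0) : tr (g * h) = tr (h * g) := by
  have e : ∀ a b : Co0, 8 * tr (a * b) = ∑ p, ∑ r,
      ((b • vec8 p : leechLattice) : GolayPt → ℤ) r *
        ((a • vec8 r : leechLattice) : GolayPt → ℤ) p := fun a b => by
    rw [tr, Finset.mul_sum]
    exact Finset.sum_congr rfl fun p _ => by rw [mul_smul, eight_smul]
  have h8 : 8 * tr (g * h) = 8 * tr (h * g) := by
    rw [e, e, Finset.sum_comm]
    exact Finset.sum_congr rfl fun _ _ => Finset.sum_congr rfl fun _ _ => mul_comm _ _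
  omega

theorem tr_neg (g : Co0) : tr (negCo0 * g) = -tr g := by
  simp [tr, mul_smul, negCo0_smul, Finset.sum_neg_distrib]

theorem tr_mono (σ : M24) (c : Finset GolayPt) (hc : c ∈ Code) :
    tr (monoCo0 σ σ.2 c hc) = ∑ p ∈ Finset.univ.filter (fun p => (σ : Equiv.Perm GolayPt) p = p),
      (if p ∈ c then (-8 : ℤ) else 8) := by
  classical
  rw [tr, Finset.sum_filter]
  refine Finset.sum_congr rfl fun p _ => ?_
  rw [monoCo0_smul]
  simp only [signedPerm, vec8, Pi.single_apply]
  by_cases h : (σ : Equiv.Perm GolayPt) p = p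
  · rw [if_pos h]
    have h' : (σ : Equiv.Perm GolayPt).symm p = p := by rw [Equiv.symm_apply_eq, h]
    simp [h']
  · rw [if_neg h]
    have h' : (σ : Equiv.Perm GolayPt).symm p ≠ p := fun e => h (by
      rw [Equiv.symm_apply_eq] at e; exact e.symm)
    simp [h']

/-- The absolute trace on `Co1`. -/
noncomputable def atr (x : Spor.Co1) : ℕ := (tr x.out).natAbs

theorem atr_pr (g : Co0) : atr (pr g) = (tr g).natAbs := by
  have h : pr (pr g).out = pr g := QuotientGroup.out_eq' _
  rcases pr_eq h with e | e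
  · rw [atr, ← e]
  · conv_rhs => rw [e, tr_neg, Int.natAbs_neg]
    rfl

theorem pr_surjective : Function.Surjective pr := QuotientGroup.mk'_surjective _

theorem atr_conj {x y : Spor.Co1} (h : IsConj x y) : atr x = atr y := by
  obtain ⟨k, rfl⟩ := isConj_iff.1 h
  obtain ⟨g, rfl⟩ := pr_surjective x
  obtain ⟨j, rfl⟩ := pr_surjective k
  rw [← map_inv, ← map_mul, ← map_mul, atr_pr, atr_pr, mul_assoc, tr_mul_comm, mul_assoc,
    inv_mul_cancel, mul_one]

theorem tr_sign (c : Finset GolayPt) (hc : c ∈ Code) :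
    tr (sign0 c hc) = 192 - 16 * (c.card : ℤ) := by
  classical
  rw [sign0, tr_mono]
  simp only [OneMemClass.coe_one, Equiv.Perm.one_apply, Finset.filter_true]
  have h2 : (Finset.univ.filter fun p => p ∉ c).card = 24 - c.card := by
    rw [show (Finset.univ.filter fun p => p ∉ c) = cᶜ from by ext p; simp,
      Finset.card_compl]
    simp
  have hle : c.card ≤ 24 := by simpa using Finset.card_le_univ c
  rw [Finset.sum_ite, Finset.sum_const, Finset.sum_const, Finset.filter_univ_mem, h2, nsmul_eq_mul,
    nsmul_eq_mul, Nat.cast_sub hle]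
  push_cast
  ring

theorem atr_z1 : atr z1 = 64 := by
  rw [z1, atr_pr, epsC, tr_sign, card_mset]
  decide +kernel

/-- Weight eight or sixteen. -/
def isO (m : ℕ) : Bool := Nat.beq (pop m) 8 || Nat.beq (pop m) 16

theorem mset_code {m : ℕ} (h : isCode m = true) : mset m ∈ Code :=
  mem_supports_iff.2 ⟨m, h, rfl⟩

/-- A sign change given by a mask. -/
noncomputable def sgn1 (m : ℕ) (h : isCode m = true) : Spor.Co1 :=
  pr (sign0 (mset m) (mset_code h))

theorem atr_sgn1 {m : ℕ} (h : isCode m = true) (h64 : atr (sgn1 m h) = 64) : isO m = true := by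
  rw [sgn1, atr_pr, tr_sign, card_mset] at h64
  simp only [isO, Bool.or_eq_true]
  rcases isCode_weights h with e | e | e | e | e <;> rw [e] at h64 ⊢ <;> first
    | exact Or.inl (Nat.beq_refl _)
    | exact Or.inr (Nat.beq_refl _)
    | norm_num at h64

theorem sgn1_mul {a b : ℕ} (ha : isCode a = true) (hb : isCode b = true) :
    sgn1 a ha * sgn1 b hb = sgn1 (a ^^^ b) (isCode_xor ha hb) := by
  rw [sgn1, sgn1, sgn1, ← map_mul, sign0_mul]
  exact congrArg pr (monoCo0_congr rfl (mset_xor a b).symm)

theorem sgn1_congr {a b : ℕ} (e : a = b) (ha : isCode a = true) (hb : isCode b = true) :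
    sgn1 a ha = sgn1 b hb := by subst e; rfl

theorem sgn1_zero : sgn1 0 isCode_zero = 1 := by
  have h : sign0 (mset 0) (mset_code isCode_zero) *
      sign0 (mset 0) (mset_code isCode_zero) = 1 := sign0_sq _ _
  rw [sign0_mul] at h
  rw [sgn1, ← map_one pr, ← h]
  refine congrArg pr (monoCo0_congr rfl ?_)
  rw [symmDiff_self, mset_zero]; rfl

theorem sgn1_full : sgn1 16777215 isCode_full = 1 := by
  rw [sgn1, ← map_one pr, ← pr_neg 1, mul_one, negCo0]
  exact congrArg pr (monoCo0_congr (σ := (1 : M24)) (τ := (1 : M24)) rfl mset_full)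

theorem sgn1_compl {a : ℕ} (ha : isCode a = true) :
    sgn1 (a ^^^ 16777215) (isCode_xor ha isCode_full) = sgn1 a ha := by
  rw [← sgn1_mul ha isCode_full, sgn1_full, mul_one]

theorem sgn1_sq {a : ℕ} (ha : isCode a = true) : sgn1 a ha * sgn1 a ha = 1 := by
  rw [sgn1, ← map_mul, sign0_sq, map_one]

theorem sgn1_comm {a b : ℕ} (ha : isCode a = true) (hb : isCode b = true) :
    Commute (sgn1 a ha) (sgn1 b hb) := by
  rw [Commute, SemiconjBy, sgn1_mul, sgn1_mul]
  exact sgn1_congr (Nat.xor_comm a b) _ _

/-- The sign changes of weight eight or sixteen are conjugate to the central involution. -/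
theorem isConj_sgn1 {m : ℕ} (h : isCode m = true) (hO : isO m = true) :
    IsConj z1 (sgn1 m h) := by
  classical
  -- reduce to weight sixteen
  have key : ∀ {a : ℕ} (ha : isCode a = true), pop a = 16 → IsConj z1 (sgn1 a ha) := by
    intro a ha hp
    have hc : mset (a ^^^ 16777215) ∈ octads := by
      refine mem_octads_iff.2 ⟨_, mem_octList.2 ⟨isCode_xor ha isCode_full, ?_⟩, rfl⟩
      rw [← card_mset, mset_xor, mset_full]
      rw [← card_mset] at hp
      have e : symmDiff (mset a) Finset.univ = (mset a)ᶜ := by ext p; simp [Finset.mem_symmDiff]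
      rw [e, Finset.card_compl, hp]
      simp
    obtain ⟨σ, hσ⟩ := M24_trans_octads octB_mem hc
    have hσ' : (σ : Equiv.Perm GolayPt) • mset octC = mset a := by
      have hσ2 : (σ : Equiv.Perm GolayPt) • mset octB = mset (a ^^^ 16777215) := hσ
      rw [octC_compl]
      ext p
      have hm := Finset.ext_iff.1 hσ2 p
      rw [mset_xor, mset_full, Finset.mem_symmDiff, ← Finset.inv_smul_mem_iff] at hm
      rw [← Finset.inv_smul_mem_iff, Finset.mem_compl, hm]
      simp
    refine isConj_iff.2 ⟨pr (monoCo0 σ σ.2 ∅ empty_code), ?_⟩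
    rw [mul_inv_eq_iff_eq_mul, z1, sgn1, ← map_mul, ← map_mul, epsC]
    refine congrArg pr ((mono_mul_sign0 σ empty_code octC_mem).trans
      (Eq.trans ?_ (sign0_mul_mono σ empty_code (mset_code ha)).symm))
    refine monoCo0_congr rfl ?_
    rw [hσ', ← Finset.bot_eq_empty, bot_symmDiff, symmDiff_bot]
  simp only [isO, Bool.or_eq_true] at hO
  rcases hO with e | e
  · rw [← sgn1_compl h]
    refine key _ ?_
    have e8 := Nat.eq_of_beq_eq_true e
    rw [← card_mset, mset_xor, mset_full]
    rw [show symmDiff (mset m) Finset.univ = (mset m)ᶜ from by ext p; simp [Finset.mem_symmDiff],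
      Finset.card_compl, card_mset, e8]
    simp
  · exact key h (Nat.eq_of_beq_eq_true e)

end CfsgLib.Recog.CoOneInv
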